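import Groth.Agent.GrLC.K761.GrSub
import Mathlib.LinearAlgebra.Finsupp.LinearCombination
import Mathlib.LinearAlgebra.FreeModule.Basic

/-! # Graded free modules and graded free covers (seat 761) -/

set_option autoImplicit false
set_option linter.unusedSectionVars false
set_option linter.style.haveILetI false
universe u

open DirectSum

namespace K761.Gr

variable {ι : Type} [AddCommGroup ι] [DecidableEq ι]
  {R : Type u} [CommRing R] {σ : Type u} [SetLike σ R] [AddSubgroupClass σ R] (𝒜 : ι → σ) [GradedRing 𝒜]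

section Free

variable {X : Type u} (deg : X → ι)

/-- Pieces of the free module on `X` with the basis element `x` in degree `deg x`. -/
def freeGr (n : ι) : AddSubgroup (X →₀ R) where
  carrier := {f | ∀ x, f x ∈ 𝒜 (n - deg x)}
  zero_mem' _ := zero_mem _
  add_mem' hf hg x := add_mem (hf x) (hg x)
  neg_mem' hf x := neg_mem (hf x)

lemma mem_freeGr {n : ι} {f : X →₀ R} : f ∈ freeGr 𝒜 deg n ↔ ∀ x, f x ∈ 𝒜 (n - deg x) := Iff.rfl

/-- projections -/
noncomputable def freePr (n : ι) : (X →₀ R) →+ (X →₀ R) where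
  toFun f := Finsupp.onFinset f.support (fun x => pr 𝒜 (n - deg x) (f x)) (fun x hx => by
    rw [Finsupp.mem_support_iff]
    intro h
    rw [h, map_zero] at hx
    exact hx rfl)
  map_zero' := by ext x; simp
  map_add' f g := by ext x; simp

lemma freePr_apply (n : ι) (f : X →₀ R) (x : X) : freePr 𝒜 deg n f x = pr 𝒜 (n - deg x) (f x) := rfl

@[instance_reducible]
noncomputable def freeDec : Decomposition (freeGr 𝒜 deg) :=
  decOfProj (freeGr 𝒜 deg) (freePr 𝒜 deg)
    (fun n f hf => by
      ext x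
      rw [freePr_apply, pr_of_mem (hf x)])
    (fun i j f hf hij => by
      ext x
      rw [freePr_apply, pr_of_mem_ne (hf x) (by simpa using hij)]
      rfl)
    (fun f => by
      classical
      choose s _ hs2 using fun x : X => exists_sum_pr 𝒜 (f x)
      refine ⟨f.support.biUnion fun x => (s x).image (· + deg x), fun n _ x => ?_, ?_⟩
      · rw [freePr_apply]
        exact pr_mem _ _ _
      · ext x
        rw [Finsupp.finsetSum_apply]
        simp only [freePr_apply]
        by_cases hx : x ∈ f.support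
        · rw [← Finset.sum_image (f := fun k => pr 𝒜 k (f x)) (g := fun n => n - deg x)
            (fun a _ b _ h => by simpa using h)]
          refine hs2 x _ fun k hk => ?_
          rw [Finset.mem_image]
          refine ⟨k + deg x, ?_, by abel⟩
          rw [Finset.mem_biUnion]
          exact ⟨x, hx, Finset.mem_image_of_mem _ hk⟩
        · rw [Finsupp.notMem_support_iff] at hx
          simp [hx])

lemma freeGSMul : SetLike.GradedSMul 𝒜 (freeGr 𝒜 deg) where
  smul_mem {i j r f} hr hf x := by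
    rw [Finsupp.smul_apply, smul_eq_mul, vadd_eq_add, add_sub_assoc]
    exact SetLike.mul_mem_graded hr (hf x)

/-- bundled graded free module -/
noncomputable def freeMod : GrLC.GMod.{u} 𝒜 :=
  letI := freeDec 𝒜 deg
  letI := freeGSMul 𝒜 deg
  { carrier := X →₀ R, gr := freeGr 𝒜 deg }

end Free

section Cover

variable {M : Type u} [AddCommGroup M] [Module R M] {τ : Type u} [SetLike τ M] [AddSubgroupClass τ M]
  (ℳ : ι → τ) [Decomposition ℳ] [SetLike.GradedSMul 𝒜 ℳ]

variable {𝒜} in
/-- A linear combination map is homogeneous. -/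
lemma linearCombination_isGrHom {X : Type u} (deg : X → ι) (v : X → M) (hv : ∀ x, v x ∈ ℳ (deg x)) :
    GrLC.IsGrHom (freeGr 𝒜 deg) ℳ (Finsupp.linearCombination R v) := by
  intro n f hf
  rw [Finsupp.linearCombination_apply, Finsupp.sum]
  refine sum_mem fun x _ => ?_
  have := smul_mem (hf x) (hv x)
  rwa [sub_add_cancel] at this

/-- Every graded module is a homogeneous quotient of a graded free module. -/
theorem exists_free_cover : ∃ (X : Type u) (deg : X → ι) (v : X → M), (∀ x, v x ∈ ℳ (deg x)) ∧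
    Function.Surjective (Finsupp.linearCombination R v) := by
  refine ⟨Σ n : ι, ℳ n, fun x => x.1, fun x => (x.2 : M), fun x => x.2.2, ?_⟩
  rw [← LinearMap.range_eq_top, eq_top_iff]
  rintro m -
  induction m using Gr.induction ℳ with
  | h0 => exact zero_mem _
  | hadd a b ha hb => exact add_mem ha hb
  | hom i m hm =>
    refine ⟨Finsupp.single ⟨i, m, hm⟩ 1, ?_⟩
    rw [Finsupp.linearCombination_single, one_smul]

variable {M' : Type u} [AddCommGroup M'] [Module R M'] {τ' : Type u} [SetLike τ' M'] [AddSubgroupClass τ' M']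
  (ℳ' : ι → τ') [Decomposition ℳ'] 

variable {ℳ ℳ'} in
lemma pr_map {f : M →ₗ[R] M'} (hf : GrLC.IsGrHom ℳ ℳ' f) (i : ι) (m : M) :
    pr ℳ' i (f m) = f (pr ℳ i m) := by
  induction m using Gr.induction ℳ with
  | h0 => simp
  | hadd a b ha hb => simp only [map_add, ha, hb]
  | hom j m hm =>
    by_cases h : j = i
    · subst h
      rw [pr_of_mem hm, pr_of_mem (hf j m hm)]
    · rw [pr_of_mem_ne hm h, pr_of_mem_ne (hf j m hm) h, map_zero]

variable {ℳ ℳ'} in
lemma pr_map_deg {f : M →ₗ[R] M'} {d : ι} (hf : GrLC.IsGrHomDeg ℳ ℳ' f d) (i : ι) (m : M) :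
    pr ℳ' (i + d) (f m) = f (pr ℳ i m) := by
  induction m using Gr.induction ℳ with
  | h0 => simp
  | hadd a b ha hb => simp only [map_add, ha, hb]
  | hom j m hm =>
    by_cases h : j = i
    · subst h
      rw [pr_of_mem hm, pr_of_mem (hf j m hm)]
    · rw [pr_of_mem_ne hm h, pr_of_mem_ne (hf j m hm) (by simpa using h), map_zero]

variable {ℳ ℳ'} in
lemma ker_isHomogeneous {f : M →ₗ[R] M'} (hf : GrLC.IsGrHom ℳ ℳ' f) :
    (LinearMap.ker f).IsHomogeneous ℳ := by
  intro i m hm
  rw [LinearMap.mem_ker] at hm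
  change f (pr ℳ i m) = 0
  rw [← pr_map hf, hm, map_zero]

variable {ℳ ℳ'} in
lemma range_isHomogeneous {f : M →ₗ[R] M'} (hf : GrLC.IsGrHom ℳ ℳ' f) :
    (LinearMap.range f).IsHomogeneous ℳ' := by
  rintro i _ ⟨m, rfl⟩
  exact ⟨pr ℳ i m, (pr_map hf i m).symm⟩

variable {ℳ ℳ'} in
lemma ker_isHomogeneous_deg {f : M →ₗ[R] M'} {d : ι} (hf : GrLC.IsGrHomDeg ℳ ℳ' f d) :
    (LinearMap.ker f).IsHomogeneous ℳ := by
  intro i m hm
  rw [LinearMap.mem_ker] at hm
  change f (pr ℳ i m) = 0
  rw [← pr_map_deg hf, hm, map_zero]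

variable {ℳ ℳ'} in
lemma range_isHomogeneous_deg {f : M →ₗ[R] M'} {d : ι} (hf : GrLC.IsGrHomDeg ℳ ℳ' f d) :
    (LinearMap.range f).IsHomogeneous ℳ' := by
  rintro i _ ⟨m, rfl⟩
  refine ⟨pr ℳ (i - d) m, ?_⟩
  have := (pr_map_deg hf (i - d) m).symm
  rwa [sub_add_cancel] at this

end Cover

end K761.Gr
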