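import Groth.Agent.GrLC.K761.Baer
import Groth.Agent.GrLC.K761.Free
import Groth.Agent.Localalg.InjDim
import Mathlib.Algebra.Category.ModuleCat.Projective

/-! # `Ext^i(G, E) = 0` for `G` any graded module, `E` *injective, `i ≥ 1` (seat 761) -/

set_option autoImplicit false
set_option linter.unusedSectionVars false
set_option linter.style.haveILetI false
universe u

open DirectSum K761.Gr CategoryTheory Abelian
open Groth.Agent.Localalg.InjDim

namespace K761.Baer

variable {ι : Type} [AddCommGroup ι] [DecidableEq ι]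
  {R : Type u} [CommRing R] {σ : Type u} [SetLike σ R] [AddSubgroupClass σ R] (𝒜 : ι → σ) [GradedRing 𝒜]
  {E : Type u} [AddCommGroup E] [Module R E] {τ' : Type u} [SetLike τ' E] [AddSubgroupClass τ' E]
  {ℰ : ι → τ'} [Decomposition ℰ] [SetLike.GradedSMul 𝒜 ℰ]

theorem ext_subsingleton_aux [IsNoetherianRing R] (hE : GrLC.IsStarInj 𝒜 ℰ) (n : ℕ) :
    ∀ G : GrLC.GMod.{u} 𝒜,
      Subsingleton (Ext.{u} (ModuleCat.of R G.carrier) (ModuleCat.of R E) (n + 1)) := by
  induction n with
  | zero =>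
    intro G
    obtain ⟨X, deg, v, hv, hs⟩ := exists_free_cover (R := R) G.gr
    letI := freeDec 𝒜 deg
    letI := freeGSMul 𝒜 deg
    let π := Finsupp.linearCombination R v
    have hπ : GrLC.IsGrHom (freeGr 𝒜 deg) G.gr π := linearCombination_isGrHom G.gr deg v hv
    have hS := LinearMap.shortExact_shortComplexKer hs
    refine subsingleton_of_forall_eq 0 fun x ↦ ?_
    haveI : Projective (ModuleCat.of R (X →₀ R)) :=
      (IsProjective.iff_projective (R := R) (X →₀ R)).1 inferInstance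
    obtain ⟨y, rfl⟩ := Ext.contravariant_sequence_exact₃ hS (ModuleCat.of R E) x
      (Ext.eq_zero_of_projective _) (add_comm 1 0)
    obtain ⟨y, rfl⟩ := (Ext.mk₀_bijective _ _).2 y
    obtain ⟨h, hh⟩ := extend 𝒜 (freeGr 𝒜 deg) hE (ker_isHomogeneous hπ) y.hom
    have hy : y = (LinearMap.shortComplexKer (Finsupp.linearCombination R v)).f ≫
        ModuleCat.ofHom h := by
      ext z
      exact (LinearMap.congr_fun hh z).symm
    rw [hy, ← Ext.mk₀_comp_mk₀, ← Ext.comp_assoc_of_second_deg_zero, hS.extClass_comp, Ext.zero_comp]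
  | succ n ih =>
    intro G
    obtain ⟨X, deg, v, hv, hs⟩ := exists_free_cover (R := R) G.gr
    letI := freeDec 𝒜 deg
    letI := freeGSMul 𝒜 deg
    let π := Finsupp.linearCombination R v
    have hπ : GrLC.IsGrHom (freeGr 𝒜 deg) G.gr π := linearCombination_isGrHom G.gr deg v hv
    have hS := LinearMap.shortExact_shortComplexKer hs
    haveI : Projective (ModuleCat.of R (X →₀ R)) :=
      (IsProjective.iff_projective (R := R) (X →₀ R)).1 inferInstance
    refine subsingleton_ext_X₃ hS (ModuleCat.of R E) (n + 1) ?_ ?_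
    · exact ih (subMod 𝒜 (freeGr 𝒜 deg) (ker_isHomogeneous hπ))
    · exact subsingleton_of_forall_eq 0 fun x ↦ Ext.eq_zero_of_projective _

/-- `Ext^i_R(G, E) = 0` for every graded `G` (finitely generated or not), `E` *injective, `i ≥ 1`. -/
theorem ext_subsingleton [IsNoetherianRing R] (hE : GrLC.IsStarInj 𝒜 ℰ)
    {M : Type u} [AddCommGroup M] [Module R M] {τ : Type u} [SetLike τ M] [AddSubgroupClass τ M]
    (ℳ : ι → τ) [Decomposition ℳ] [SetLike.GradedSMul 𝒜 ℳ] (i : ℕ) (hi : 1 ≤ i) :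
    Subsingleton (Ext.{u} (ModuleCat.of R M) (ModuleCat.of R E) i) := by
  obtain ⟨i, rfl⟩ : ∃ j, i = j + 1 := ⟨i - 1, by omega⟩
  exact ext_subsingleton_aux 𝒜 hE i (shiftMod 𝒜 ℳ 0)

end K761.Baer
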