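import Groth.Agent.GrLC.K761.GrSub
import Mathlib.LinearAlgebra.LinearPMap
import Mathlib.RingTheory.Noetherian.Basic

/-! # Baer-type extension lemma for *injective modules (seat 761)

Over a Noetherian graded ring, an ARBITRARY (not necessarily homogeneous) linear map from a homogeneous
submodule of a graded module into a *injective module extends. -/

set_option autoImplicit false
set_option linter.unusedSectionVars false
set_option linter.style.haveILetI false
universe u

open DirectSum K761.Gr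

namespace K761.Baer

variable {ι : Type} [AddCommGroup ι] [DecidableEq ι]
  {R : Type u} [CommRing R] {σ : Type u} [SetLike σ R] [AddSubgroupClass σ R] (𝒜 : ι → σ) [GradedRing 𝒜]
  {M : Type u} [AddCommGroup M] [Module R M] {τ : Type u} [SetLike τ M] [AddSubgroupClass τ M]
  (ℳ : ι → τ) [Decomposition ℳ] [SetLike.GradedSMul 𝒜 ℳ]
  {E : Type u} [AddCommGroup E] [Module R E] {τ' : Type u} [SetLike τ' E] [AddSubgroupClass τ' E]
  (ℰ : ι → τ') [Decomposition ℰ] [SetLike.GradedSMul 𝒜 ℰ]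

variable {ℰ} in
/-- extension of homogeneous maps of degree `d` along homogeneous injections -/
theorem extend_deg (hE : GrLC.IsStarInj 𝒜 ℰ) (A B : GrLC.GMod.{u} 𝒜) (f : A.carrier →ₗ[R] B.carrier)
    (hf : GrLC.IsGrHom A.gr B.gr f) (hinj : Function.Injective f) (d : ι) (g : A.carrier →ₗ[R] E)
    (hg : GrLC.IsGrHomDeg A.gr ℰ g d) :
    ∃ h : B.carrier →ₗ[R] E, GrLC.IsGrHomDeg B.gr ℰ h d ∧ h ∘ₗ f = g := by
  obtain ⟨h, hh, hhf⟩ := hE (shiftMod 𝒜 A.gr d) (shiftMod 𝒜 B.gr d) f (fun n x hx => hf _ _ hx) hinj g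
    (fun n x hx => by
      have := hg (n - d) x hx
      rwa [sub_add_cancel] at this)
  refine ⟨h, fun n x hx => hh (n + d) x ?_, hhf⟩
  change x ∈ B.gr (n + d - d)
  rwa [add_sub_cancel_right]

variable {ℰ} in
/-- extension of arbitrary linear maps from a finitely generated homogeneous submodule -/
theorem extend_fg (hE : GrLC.IsStarInj 𝒜 ℰ) {K : Submodule R M} (hK : K.IsHomogeneous ℳ)
    (hfg : K.FG) (g : K →ₗ[R] E) : ∃ h : M →ₗ[R] E, h ∘ₗ K.subtype = g := by
  letI := subDec ℳ hK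
  letI := subGSMul 𝒜 ℳ K
  haveI : Module.Finite R K := Module.Finite.iff_fg.mpr hfg
  obtain ⟨D, _, hD⟩ := exists_finset_homPr 𝒜 (subGr ℳ K) ℰ g
  have hex : ∀ d : ι, ∃ h : M →ₗ[R] E, h ∘ₗ K.subtype = homPr 𝒜 (subGr ℳ K) ℰ g d := by
    intro d
    letI := shiftDec ℳ 0
    obtain ⟨h, _, hh⟩ := extend_deg 𝒜 hE (subMod 𝒜 ℳ hK) (shiftMod 𝒜 ℳ 0) K.subtype
      (fun n (x : K) hx => by
        change (x : M) ∈ ℳ (n - 0)
        rw [sub_zero]
        exact hx) K.injective_subtype d (homPr 𝒜 (subGr ℳ K) ℰ g d)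
      (homPr_isGrHomDeg 𝒜 (subGr ℳ K) ℰ g d)
    exact ⟨h, hh⟩
  choose h hh using hex
  refine ⟨∑ d ∈ D, h d, ?_⟩
  rw [← hD D subset_rfl]
  ext x
  rw [LinearMap.comp_apply, LinearMap.sum_apply, LinearMap.sum_apply]
  refine Finset.sum_congr rfl fun d _ => ?_
  rw [← hh d]; rfl

variable {ℰ} in
/-- **Baer lemma**: over a Noetherian graded ring every linear map from a homogeneous submodule of a
graded module into a *injective module extends. -/
theorem extend [IsNoetherianRing R] (hE : GrLC.IsStarInj 𝒜 ℰ) {K : Submodule R M}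
    (hK : K.IsHomogeneous ℳ) (g : K →ₗ[R] E) : ∃ h : M →ₗ[R] E, h ∘ₗ K.subtype = g := by
  classical
  let S : Set (M →ₗ.[R] E) := {f | f.domain.IsHomogeneous ℳ}
  have hx0 : (⟨K, g⟩ : M →ₗ.[R] E) ∈ S := hK
  obtain ⟨f, hle, hmax⟩ := zorn_le_nonempty₀ S (fun c hc hchain y hy => by
    have hdir : DirectedOn (· ≤ ·) c := hchain.directedOn
    refine ⟨LinearPMap.sSup c hdir, ?_, fun z hz => LinearPMap.le_sSup hdir hz⟩
    intro i x hx
    have hx' := (LinearPMap.mem_domain_sSup_iff ⟨y, hy⟩ hdir).1 hx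
    obtain ⟨f, hf, hxf⟩ := hx'
    exact (LinearPMap.mem_domain_sSup_iff ⟨y, hy⟩ hdir).2 ⟨f, hf, hc hf i hxf⟩) _ hx0
  have hfS : f.domain.IsHomogeneous ℳ := hmax.prop
  have htop : f.domain = ⊤ := by
    by_contra hne
    -- there is a homogeneous element outside the domain
    obtain ⟨j, x, hx, hxn⟩ : ∃ (j : ι) (x : M), x ∈ ℳ j ∧ x ∉ f.domain := by
      by_contra hc
      push Not at hc
      apply hne
      rw [eq_top_iff]
      rintro m -
      induction m using Gr.induction ℳ with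
      | h0 => exact zero_mem _
      | hadd a b ha hb => exact add_mem ha hb
      | hom i m hm => exact hc i m hm
    let I : Submodule R R := f.domain.comap (LinearMap.toSpanSingleton R M x)
    have hI : I.IsHomogeneous 𝒜 := by
      intro i r hr
      change (pr 𝒜 i r) • x ∈ f.domain
      rw [← pr_smul_right 𝒜 ℳ r hx i]
      exact hfS _ hr
    let g' : I →ₗ[R] E := f.toFun.comp ((LinearMap.toSpanSingleton R M x).restrict (fun r hr => hr))
    haveI : SetLike.GradedSMul 𝒜 𝒜 := ⟨fun {i j r m} hr hm => SetLike.mul_mem_graded hr hm⟩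
    obtain ⟨h, hh⟩ := extend_fg 𝒜 𝒜 hE hI (IsNoetherian.noetherian I) g'
    have he : ∀ (r : R) (hr : r • x ∈ f.domain), f ⟨r • x, hr⟩ = r • h 1 := by
      intro r hr
      have := LinearMap.congr_fun hh ⟨r, hr⟩
      rw [← map_smul, smul_eq_mul, mul_one]
      exact this.symm
    have H : ∀ c : R, c • x = 0 → (RingHom.id R) c • h 1 = 0 := by
      intro c hc
      rw [RingHom.id_apply, ← he c (by rw [hc]; exact zero_mem _)]
      have : (⟨c • x, by rw [hc]; exact zero_mem _⟩ : f.domain) = 0 := Subtype.ext hc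
      rw [this, LinearPMap.map_zero]
    let f₂ : M →ₗ.[R] E := LinearPMap.mkSpanSingleton' x (h 1) H
    have hcomp : ∀ (a : f.domain) (b : f₂.domain), (a : M) = b → f a = f₂ b := by
      rintro ⟨a, ha⟩ ⟨b, hb⟩ (hab : a = b)
      subst hab
      obtain ⟨c, rfl⟩ := Submodule.mem_span_singleton.1 hb
      rw [he c ha]
      exact (LinearPMap.mkSpanSingleton'_apply x (h 1) H c hb).symm
    have hle' : f.sup f₂ hcomp ≤ f := hmax.le_of_ge (y := f.sup f₂ hcomp) (by
        change (f.domain ⊔ (R ∙ x)).IsHomogeneous ℳ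
        intro i m hm
        rw [Submodule.mem_sup] at hm ⊢
        obtain ⟨a, ha, b, hb, rfl⟩ := hm
        obtain ⟨c, rfl⟩ := Submodule.mem_span_singleton.1 hb
        refine ⟨pr ℳ i a, hfS i ha, pr ℳ i (c • x), ?_, (map_add (pr ℳ i) _ _).symm⟩
        rw [Submodule.mem_span_singleton]
        refine ⟨pr 𝒜 (i - j) c, ?_⟩
        rw [← pr_smul_right 𝒜 ℳ c hx, sub_add_cancel]) (LinearPMap.left_le_sup _ _ _)
    exact hxn (hle'.1 (Submodule.mem_sup_right (Submodule.mem_span_singleton_self x)))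
  refine ⟨f.toFun.comp (LinearMap.codRestrict f.domain LinearMap.id fun m => htop ▸ trivial), ?_⟩
  ext x
  exact (hle.2 (x := x) (y := ⟨x, htop ▸ trivial⟩) rfl).symm

end K761.Baer
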