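import Groth.Agent.GrLC.K761.GrSub
import Mathlib.RingTheory.GradedAlgebra.Homogeneous.Ideal

/-! # *local positively graded rings (seat 761) -/

set_option autoImplicit false
set_option linter.unusedSectionVars false
set_option linter.style.haveILetI false
universe u

open DirectSum K761.Gr

namespace K761.StarLoc

section General

variable {ι : Type} [AddCommGroup ι] [DecidableEq ι]
  {R : Type u} [CommRing R] {σ : Type u} [SetLike σ R] [AddSubgroupClass σ R] (𝒜 : ι → σ) [GradedRing 𝒜]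

/-- The span of homogeneous elements is homogeneous. -/
lemma span_isHomogeneous (S : Set R) (hS : ∀ x ∈ S, ∃ i, x ∈ 𝒜 i) : (Ideal.span S).IsHomogeneous 𝒜 :=
  Ideal.homogeneous_span 𝒜 S fun x hx => hS x hx

variable {𝒜}

lemma ne_top_of_isStarLocal {m : HomogeneousIdeal 𝒜} (hm : GrLC.IsStarLocal 𝒜 m) : m.toIdeal ≠ ⊤ := by
  intro h
  exact hm.1.1 (HomogeneousIdeal.toIdeal_injective (by rw [h]; rfl))

lemma one_notMem_of_isStarLocal {m : HomogeneousIdeal 𝒜} (hm : GrLC.IsStarLocal 𝒜 m) :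
    (1 : R) ∉ m.toIdeal := fun h => ne_top_of_isStarLocal hm ((Ideal.eq_top_iff_one _).2 h)

/-- every proper homogeneous ideal lies in `m` (Noetherian case not needed: Zorn) -/
lemma le_of_isHomogeneous {m : HomogeneousIdeal 𝒜} (hm : GrLC.IsStarLocal 𝒜 m) {I : Ideal R}
    (hI : I.IsHomogeneous 𝒜) (hne : I ≠ ⊤) : I ≤ m.toIdeal := by
  -- `HomogeneousIdeal` is coatomic
  obtain ⟨n, hIn, hn⟩ : ∃ n : HomogeneousIdeal 𝒜, I ≤ n.toIdeal ∧ IsCoatom n := by
    let S : Set (HomogeneousIdeal 𝒜) := {J | I ≤ J.toIdeal ∧ (1 : R) ∉ J.toIdeal}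
    have hI0 : (⟨I, hI⟩ : HomogeneousIdeal 𝒜) ∈ S :=
      ⟨le_rfl, fun h => hne ((Ideal.eq_top_iff_one _).2 h)⟩
    obtain ⟨n, _, hn⟩ := zorn_le_nonempty₀ S (fun c hc hchain y hy => by
      refine ⟨sSup c, ⟨?_, ?_⟩, fun z hz => le_sSup hz⟩
      · exact (hc hy).1.trans (toIdeal_le_toIdeal_iff.2 (le_sSup hy))
      · intro h1
        have hdir : DirectedOn (· ≤ ·) (HomogeneousIdeal.toIdeal '' c) := by
          rintro _ ⟨a, ha, rfl⟩ _ ⟨b, hb, rfl⟩
          rcases hchain.total ha hb with h | h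
          · exact ⟨_, ⟨b, hb, rfl⟩, toIdeal_le_toIdeal_iff.2 h, le_rfl⟩
          · exact ⟨_, ⟨a, ha, rfl⟩, le_rfl, toIdeal_le_toIdeal_iff.2 h⟩
        rw [HomogeneousIdeal.toIdeal_sSup, ← sSup_image,
          Submodule.mem_sSup_of_directed (Set.Nonempty.image _ ⟨y, hy⟩) hdir] at h1
        obtain ⟨_, ⟨z, hz, rfl⟩, h1⟩ := h1
        exact (hc hz).2 h1) _ hI0
    refine ⟨n, hn.prop.1, ?_, ?_⟩
    · intro h
      apply hn.prop.2
      rw [h]; trivial
    · intro b hb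
      by_contra hbt
      have hbS : b ∈ S := ⟨hn.prop.1.trans (toIdeal_le_toIdeal_iff.2 hb.le), fun h => hbt
        (HomogeneousIdeal.toIdeal_injective (((Ideal.eq_top_iff_one _).2 h).trans rfl))⟩
      exact absurd (hn.le_of_ge hbS hb.le) (not_le_of_gt hb)
  rw [← hm.2 n hn]
  exact hIn

end General

section Int

variable {R : Type u} [CommRing R] {σ : Type u} [SetLike σ R] [AddSubgroupClass σ R] {𝒜 : ℤ → σ} [GradedRing 𝒜]

/-- positive-degree elements lie in `m` -/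
lemma mem_of_pos (hpos : ∀ n : ℤ, n < 0 → ∀ x ∈ 𝒜 n, x = 0) {m : HomogeneousIdeal 𝒜}
    (hm : GrLC.IsStarLocal 𝒜 m) {n : ℤ} (hn : 0 < n) {x : R} (hx : x ∈ 𝒜 n) : x ∈ m.toIdeal := by
  let I : Ideal R := Ideal.span (⋃ n ∈ Set.Ioi (0 : ℤ), (𝒜 n : Set R))
  have hI : I.IsHomogeneous 𝒜 := span_isHomogeneous 𝒜 _ fun x hx => by
    simp only [Set.mem_iUnion] at hx
    obtain ⟨n, _, hx⟩ := hx
    exact ⟨n, hx⟩
  have h0 : ∀ y ∈ I, pr 𝒜 0 y = 0 := by
    intro y hy
    induction hy using Submodule.span_induction with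
    | mem y hy =>
      simp only [Set.mem_iUnion] at hy
      obtain ⟨n, hn, hy⟩ := hy
      exact pr_of_mem_ne hy (ne_of_gt hn)
    | zero => exact map_zero _
    | add a b _ _ ha hb => rw [map_add, ha, hb, add_zero]
    | smul a b hb hb' =>
      rename_i hbI
      have h1 : ∀ k : ℤ, k ≤ 0 → pr 𝒜 k b = 0 := by
        intro k hk
        rcases lt_or_eq_of_le hk with h | h
        · exact hpos k h _ (pr_mem 𝒜 k b)
        · rw [h, hb']
      haveI : SetLike.GradedSMul 𝒜 𝒜 := ⟨fun {i j r m} hr hm => SetLike.mul_mem_graded hr hm⟩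
      induction a using Gr.induction 𝒜 with
      | h0 => rw [zero_smul, map_zero]
      | hadd a c ha hc => rw [add_smul, map_add, ha, hc, add_zero]
      | hom i a ha =>
        rw [pr_smul' 𝒜 ha]
        by_cases hi : 0 ≤ i
        · rw [h1 _ (by omega), smul_zero]
        · rw [hpos i (by omega) a ha, zero_smul]
  have hne : I ≠ ⊤ := by
    intro h
    have h1 : pr 𝒜 0 (1 : R) = 0 := h0 1 (h ▸ trivial)
    rw [pr_of_mem (SetLike.one_mem_graded 𝒜)] at h1
    exact one_notMem_of_isStarLocal hm (h1 ▸ zero_mem _)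
  refine le_of_isHomogeneous hm hI hne (Ideal.subset_span ?_)
  simp only [Set.mem_iUnion]
  exact ⟨n, hn, hx⟩

lemma isMaximal (hpos : ∀ n : ℤ, n < 0 → ∀ x ∈ 𝒜 n, x = 0) {m : HomogeneousIdeal 𝒜}
    (hm : GrLC.IsStarLocal 𝒜 m) : m.toIdeal.IsMaximal := by
  classical
  rw [Ideal.isMaximal_iff]
  refine ⟨one_notMem_of_isStarLocal hm, fun J x hJ hx hxJ => ?_⟩
  have h1 : x - pr 𝒜 0 x ∈ m.toIdeal := by
    obtain ⟨s, hs, hs'⟩ := exists_sum_pr 𝒜 x
    have h4 := hs' (insert 0 s) (Finset.subset_insert _ _)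
    rw [← Finset.add_sum_erase _ _ (Finset.mem_insert_self 0 s)] at h4
    rw [sub_eq_of_eq_add' h4.symm]
    refine sum_mem fun i hi => ?_
    rcases lt_or_gt_of_ne (Finset.ne_of_mem_erase hi) with h | h
    · rw [hpos i h _ (pr_mem 𝒜 i x)]; exact zero_mem _
    · exact mem_of_pos hpos hm h (pr_mem 𝒜 i x)
  have h2 : pr 𝒜 0 x ∉ m.toIdeal := fun h => hx (by
    have := add_mem h1 h
    rwa [sub_add_cancel] at this)
  have h3 : m.toIdeal ⊔ Ideal.span {pr 𝒜 0 x} = ⊤ := by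
    by_contra hne
    have := le_of_isHomogeneous hm (Ideal.IsHomogeneous.sup m.isHomogeneous
      (span_isHomogeneous 𝒜 {pr 𝒜 0 x} (by
        rintro _ rfl
        exact ⟨0, pr_mem 𝒜 0 x⟩))) hne
    exact h2 (this (Ideal.mem_sup_right (Ideal.mem_span_singleton_self _)))
  have h4 : (1 : R) ∈ m.toIdeal ⊔ Ideal.span {pr 𝒜 0 x} := h3 ▸ trivial
  refine (sup_le hJ ?_ : m.toIdeal ⊔ Ideal.span {pr 𝒜 0 x} ≤ J) h4
  rw [Ideal.span_le, Set.singleton_subset_iff]
  have h5 : pr 𝒜 0 x = x - (x - pr 𝒜 0 x) := by ring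
  rw [h5]
  exact sub_mem hxJ (hJ h1)

end Int

end K761.StarLoc
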