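import Groth.Agent.GrLC.K761.GrSub
import Mathlib.Algebra.MonoidAlgebra.Basic
import Mathlib.Algebra.Homology.ShortComplex.ModuleCat
import Mathlib.Algebra.DirectSum.Ring

/-! # The coinduced graded module `B[ι]` of an `R`-algebra `B` (seat 761)

`R` graded by `ι`, `B` an `R`-algebra. `LQ 𝒜 B` is `B[ι]` with the `R`-module structure through
`R → B[ι]`, `r ↦ ∑ rᵢ tⁱ`; it is a graded module (pieces `B tⁿ`), and for `ι = ℤ` there is a short exact
sequence of UNGRADED modules `0 → LQ → LQ → B → 0` (multiplication by `t - 1`, evaluation at `t = 1`). -/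

set_option autoImplicit false
set_option linter.unusedSectionVars false
set_option linter.style.haveILetI false
universe u

open DirectSum K761.Gr

namespace K761.Laurent

variable {ι : Type} [AddCommGroup ι] [DecidableEq ι]
  {R : Type u} [CommRing R] {σ : Type u} [SetLike σ R] [AddSubgroupClass σ R] (𝒜 : ι → σ) [GradedRing 𝒜]
  (B : Type u) [CommRing B] [Algebra R B]

/-- The ring homomorphism `r ↦ ∑ rᵢ tⁱ`. -/
noncomputable def expand : R →+* AddMonoidAlgebra B ι :=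
  (DirectSum.toSemiring (fun i => (AddMonoidAlgebra.singleAddHom i).comp
      ((algebraMap R B).toAddMonoidHom.comp (AddSubmonoidClass.subtype (𝒜 i))))
    (by
      change AddMonoidAlgebra.single (0 : ι) (algebraMap R B 1) = 1
      rw [map_one]; rfl)
    (by
      intro i j a b
      change AddMonoidAlgebra.single (i + j) (algebraMap R B (a * b)) =
        AddMonoidAlgebra.single i (algebraMap R B a) * AddMonoidAlgebra.single j (algebraMap R B b)
      rw [AddMonoidAlgebra.single_mul_single, map_mul])).comp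
    (decomposeRingEquiv 𝒜 : R →+* ⨁ i, 𝒜 i)

lemma expand_of_mem {i : ι} {r : R} (hr : r ∈ 𝒜 i) :
    expand 𝒜 B r = AddMonoidAlgebra.single i (algebraMap R B r) := by
  have : decomposeRingEquiv 𝒜 r = DirectSum.of _ i ⟨r, hr⟩ := decompose_of_mem 𝒜 hr
  simp [expand, this]

/-- The graded module `B[ι]` (see the module docstring). -/
def LQ (_𝒜 : ι → σ) (B : Type u) [CommRing B] : Type u := AddMonoidAlgebra B ι

noncomputable instance : CommRing (LQ 𝒜 B) := inferInstanceAs (CommRing (AddMonoidAlgebra B ι))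

/-- `expand` with values in `LQ`. -/
noncomputable def expandL : R →+* LQ 𝒜 B := expand 𝒜 B

noncomputable instance : Module R (LQ 𝒜 B) :=
  Module.compHom (LQ 𝒜 B) (expandL 𝒜 B)

/-- the monomial `b tⁿ` -/
noncomputable def mono (n : ι) (b : B) : LQ 𝒜 B := AddMonoidAlgebra.single n b

/-- coefficient -/
noncomputable def cf (n : ι) : LQ 𝒜 B →+ B where
  toFun f := AddMonoidAlgebra.coeff (R := B) f n
  map_zero' := rfl
  map_add' _ _ := rfl

lemma smul_def (r : R) (f : LQ 𝒜 B) : r • f = expandL 𝒜 B r * f := rfl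

lemma expandL_of_mem {i : ι} {r : R} (hr : r ∈ 𝒜 i) : expandL 𝒜 B r = mono 𝒜 B i (algebraMap R B r) :=
  expand_of_mem 𝒜 B hr

lemma mono_mul_mono (n m : ι) (b c : B) : mono 𝒜 B n b * mono 𝒜 B m c = mono 𝒜 B (n + m) (b * c) :=
  AddMonoidAlgebra.single_mul_single n m b c

lemma smul_mono {i : ι} {r : R} (hr : r ∈ 𝒜 i) (n : ι) (b : B) :
    r • mono 𝒜 B n b = mono 𝒜 B (i + n) (r • b) := by
  rw [smul_def, expandL_of_mem 𝒜 B hr, Algebra.smul_def]
  exact mono_mul_mono 𝒜 B _ _ _ _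

lemma mono_add (n : ι) (b c : B) : mono 𝒜 B n (b + c) = mono 𝒜 B n b + mono 𝒜 B n c :=
  AddMonoidAlgebra.single_add n b c

lemma mono_zero (n : ι) : mono 𝒜 B n 0 = 0 := AddMonoidAlgebra.single_zero n

lemma one_def : (1 : LQ 𝒜 B) = mono 𝒜 B 0 1 := rfl

lemma cf_mono_same (n : ι) (b : B) : cf 𝒜 B n (mono 𝒜 B n b) = b := Finsupp.single_eq_same

lemma cf_mono_ne {n m : ι} (h : n ≠ m) (b : B) : cf 𝒜 B m (mono 𝒜 B n b) = 0 :=
  Finsupp.single_eq_of_ne (Ne.symm h)

lemma ext_cf {f g : LQ 𝒜 B} (h : ∀ n, cf 𝒜 B n f = cf 𝒜 B n g) : f = g :=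
  AddMonoidAlgebra.coeff_injective (Finsupp.ext h)

lemma exists_finset_cf (f : LQ 𝒜 B) : ∃ s : Finset ι, ∀ n, n ∉ s → cf 𝒜 B n f = 0 :=
  ⟨(AddMonoidAlgebra.coeff (R := B) f).support, fun _ hn => Finsupp.notMem_support_iff.1 hn⟩

lemma induction_mono {p : LQ 𝒜 B → Prop} (f : LQ 𝒜 B) (h0 : p 0) (hadd : ∀ f g, p f → p g → p (f + g))
    (hm : ∀ n b, p (mono 𝒜 B n b)) : p f :=
  AddMonoidAlgebra.induction_linear (motive := p) f h0 hadd hm

lemma sum_mono (f : LQ 𝒜 B) (s : Finset ι) (hs : ∀ n, n ∉ s → cf 𝒜 B n f = 0) :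
    ∑ n ∈ s, mono 𝒜 B n (cf 𝒜 B n f) = f := by
  refine ext_cf 𝒜 B fun m => ?_
  rw [map_sum]
  by_cases hm : m ∈ s
  · rw [Finset.sum_eq_single m, cf_mono_same]
    · intro n _ hn
      exact cf_mono_ne 𝒜 B hn _
    · intro h; exact absurd hm h
  · rw [hs m hm]
    refine Finset.sum_eq_zero fun n hn => cf_mono_ne 𝒜 B ?_ _
    rintro rfl
    exact hm hn

/-- the pieces `B tⁿ` -/
noncomputable def gr (n : ι) : AddSubgroup (LQ 𝒜 B) where
  carrier := Set.range (mono 𝒜 B n)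
  zero_mem' := ⟨0, mono_zero 𝒜 B n⟩
  add_mem' := by
    rintro _ _ ⟨b, rfl⟩ ⟨c, rfl⟩
    exact ⟨b + c, mono_add 𝒜 B n b c⟩
  neg_mem' := by
    rintro _ ⟨b, rfl⟩
    exact ⟨-b, AddMonoidAlgebra.single_neg n b⟩

@[instance_reducible]
noncomputable def dec : Decomposition (gr 𝒜 B) :=
  decOfProj (gr 𝒜 B) (fun n => (AddMonoidAlgebra.singleAddHom n).comp (cf 𝒜 B n))
    (by
      rintro n _ ⟨b, rfl⟩
      change mono 𝒜 B n (cf 𝒜 B n (mono 𝒜 B n b)) = _
      rw [cf_mono_same])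
    (by
      rintro n m _ ⟨b, rfl⟩ h
      change mono 𝒜 B m (cf 𝒜 B m (mono 𝒜 B n b)) = _
      rw [cf_mono_ne 𝒜 B h, mono_zero])
    (fun f => by
      obtain ⟨s, hs⟩ := exists_finset_cf 𝒜 B f
      exact ⟨s, fun n _ => ⟨cf 𝒜 B n f, rfl⟩, sum_mono 𝒜 B f s hs⟩)

lemma gsmul : SetLike.GradedSMul 𝒜 (gr 𝒜 B) where
  smul_mem := by
    rintro i n r _ hr ⟨b, rfl⟩
    exact ⟨r • b, (smul_mono 𝒜 B hr n b).symm⟩

/-- evaluation at `t = 1`, as a ring homomorphism -/
noncomputable def augRing : LQ 𝒜 B →+* B :=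
  (AddMonoidAlgebra.lift B B ι (1 : Multiplicative ι →* B) : AddMonoidAlgebra B ι →+* B)

lemma augRing_mono (n : ι) (b : B) : augRing 𝒜 B (mono 𝒜 B n b) = b := by
  have := AddMonoidAlgebra.lift_single (R := B) (A := B) (1 : Multiplicative ι →* B) n b
  rw [MonoidHom.one_apply, smul_eq_mul, mul_one] at this
  exact this

lemma augRing_expand (r : R) : augRing 𝒜 B (expandL 𝒜 B r) = algebraMap R B r := by
  induction r using Gr.induction 𝒜 with
  | h0 => simp only [map_zero]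
  | hadd a b ha hb => simp only [map_add, ha, hb]
  | hom i r hr =>
    rw [expandL_of_mem 𝒜 B hr, augRing_mono 𝒜 B i _]

/-- evaluation at `t = 1` -/
noncomputable def aug : LQ 𝒜 B →ₗ[R] B where
  toFun := augRing 𝒜 B
  map_add' := map_add _
  map_smul' r f := by
    rw [smul_def, map_mul, RingHom.id_apply, Algebra.smul_def, augRing_expand]

lemma aug_surjective : Function.Surjective (aug 𝒜 B) := fun b => ⟨mono 𝒜 B 0 b, augRing_mono 𝒜 B 0 b⟩

/-- multiplication by an element of `B[ι]` -/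
noncomputable def mulBy (g : LQ 𝒜 B) : LQ 𝒜 B →ₗ[R] LQ 𝒜 B where
  toFun f := g * f
  map_add' := mul_add g
  map_smul' r f := by
    rw [smul_def, smul_def, RingHom.id_apply]
    ring

end K761.Laurent

namespace K761.Laurent

variable {R : Type u} [CommRing R] {σ : Type u} [SetLike σ R] [AddSubgroupClass σ R] (𝒜 : ℤ → σ) [GradedRing 𝒜]
  (B : Type u) [CommRing B] [Algebra R B]

/-- `t - 1` -/
noncomputable def tm1 : LQ 𝒜 B := mono 𝒜 B 1 1 - 1

lemma cf_mono_mul (n m : ℤ) (f : LQ 𝒜 B) : cf 𝒜 B m (mono 𝒜 B n 1 * f) = cf 𝒜 B (m - n) f := by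
  induction f using induction_mono with
  | h0 => rw [mul_zero, map_zero, map_zero]
  | hadd f g hf hg => rw [mul_add, map_add, map_add, hf, hg]
  | hm k b =>
    rw [mono_mul_mono, one_mul]
    by_cases h : n + k = m
    · subst h
      rw [cf_mono_same, show n + k - n = k by ring, cf_mono_same]
    · rw [cf_mono_ne 𝒜 B h, cf_mono_ne 𝒜 B (by omega)]

lemma mulBy_tm1_injective : Function.Injective (mulBy 𝒜 B (tm1 𝒜 B)) := by
  rw [← LinearMap.ker_eq_bot, LinearMap.ker_eq_bot']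
  intro f hf
  have h1 : ∀ m : ℤ, cf 𝒜 B (m - 1) f = cf 𝒜 B m f := by
    intro m
    have : cf 𝒜 B m (tm1 𝒜 B * f) = 0 := by
      change cf 𝒜 B m (mulBy 𝒜 B (tm1 𝒜 B) f) = 0
      rw [hf, map_zero]
    rw [tm1, sub_mul, one_mul, map_sub, cf_mono_mul, sub_eq_zero] at this
    exact this
  have h2 : ∀ m : ℤ, cf 𝒜 B m f = cf 𝒜 B 0 f := by
    intro m
    induction m using Int.induction_on with
    | zero => rfl
    | succ n ih => rw [← h1, add_sub_cancel_right, ih]
    | pred n ih => rw [h1, ih]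
  obtain ⟨s, hs⟩ := exists_finset_cf 𝒜 B f
  obtain ⟨m, hm⟩ := Infinite.exists_notMem_finset s
  refine ext_cf 𝒜 B fun n => ?_
  rw [map_zero, h2 n, ← h2 m, hs m hm]

lemma mono_sub_mem (n : ℤ) (b : B) :
    mono 𝒜 B n b - mono 𝒜 B 0 b ∈ Ideal.span {tm1 𝒜 B} := by
  have h1 : ∀ n : ℤ, mono 𝒜 B n 1 - 1 ∈ Ideal.span {tm1 𝒜 B} := by
    intro n
    induction n using Int.induction_on with
    | zero => rw [one_def, sub_self]; exact zero_mem _
    | succ n ih =>
      have : mono 𝒜 B ((n : ℤ) + 1) 1 - 1 = mono 𝒜 B n 1 * tm1 𝒜 B + (mono 𝒜 B n 1 - 1) := by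
        rw [tm1, mul_sub, mono_mul_mono, mul_one, mul_one]; ring
      rw [this]
      exact add_mem (Ideal.mul_mem_left _ _ (Ideal.mem_span_singleton_self _)) ih
    | pred n ih =>
      have : mono 𝒜 B (-(n : ℤ) - 1) 1 - 1 = (mono 𝒜 B (-(n : ℤ)) 1 - 1) -
          mono 𝒜 B (-(n : ℤ) - 1) 1 * tm1 𝒜 B := by
        rw [tm1, mul_sub, mono_mul_mono, mul_one, mul_one, sub_add_cancel]; ring
      rw [this]
      exact sub_mem ih (Ideal.mul_mem_left _ _ (Ideal.mem_span_singleton_self _))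
  have : mono 𝒜 B n b - mono 𝒜 B 0 b = mono 𝒜 B 0 b * (mono 𝒜 B n 1 - 1) := by
    rw [mul_sub, mono_mul_mono, zero_add, mul_one, mul_one]
  rw [this]
  exact Ideal.mul_mem_left _ _ (h1 n)

lemma exact_aug : Function.Exact (mulBy 𝒜 B (tm1 𝒜 B)) (aug 𝒜 B) := by
  have hkey : ∀ f : LQ 𝒜 B, f - mono 𝒜 B 0 (aug 𝒜 B f) ∈ Ideal.span {tm1 𝒜 B} := by
    intro f
    induction f using induction_mono with
    | h0 => rw [map_zero, mono_zero, sub_zero]; exact zero_mem _
    | hadd f g hf hg =>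
      rw [map_add, mono_add, add_sub_add_comm]
      exact add_mem hf hg
    | hm n b =>
      have : aug 𝒜 B (mono 𝒜 B n b) = b := augRing_mono 𝒜 B n b
      rw [this]
      exact mono_sub_mem 𝒜 B n b
  intro f
  constructor
  · intro hf
    have := hkey f
    rw [hf, mono_zero, sub_zero, Ideal.mem_span_singleton'] at this
    obtain ⟨a, ha⟩ := this
    exact ⟨a, by rw [← ha, mul_comm]; rfl⟩
  · rintro ⟨g, rfl⟩
    change augRing 𝒜 B (tm1 𝒜 B * g) = 0
    rw [map_mul, tm1, map_sub, map_one, augRing_mono, sub_self, zero_mul]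

end K761.Laurent
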