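import Groth.Prelude.Def_GrLC
import Mathlib.Algebra.Module.GradedModule

/-! # Elementary toolkit for graded modules (seat 761)

Projections `pr ℳ i`, homogeneous components of linear maps out of finitely generated graded modules,
homogeneous submodules and ideals. -/

set_option autoImplicit false
set_option linter.unusedSectionVars false
universe u

open DirectSum

namespace K761.Gr

section Proj

variable {ι : Type} [DecidableEq ι]
  {M : Type u} [AddCommGroup M] {τ : Type u} [SetLike τ M] [AddSubgroupClass τ M]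
  (ℳ : ι → τ) [Decomposition ℳ]

/-- The homogeneous component of degree `i`. -/
def pr (i : ι) : M →+ M where
  toFun m := (decompose ℳ m i : M)
  map_zero' := by simp
  map_add' x y := by simp

lemma pr_def (i : ι) (m : M) : pr ℳ i m = (decompose ℳ m i : M) := rfl

lemma pr_mem (i : ι) (m : M) : pr ℳ i m ∈ ℳ i := (decompose ℳ m i).2

variable {ℳ}

lemma pr_of_mem {i : ι} {m : M} (hm : m ∈ ℳ i) : pr ℳ i m = m := decompose_of_mem_same ℳ hm

lemma pr_of_mem_ne {i j : ι} {m : M} (hm : m ∈ ℳ i) (h : i ≠ j) : pr ℳ j m = 0 :=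
  decompose_of_mem_ne ℳ hm h

variable (ℳ)

open Classical in
lemma sum_pr (m : M) : ∑ i ∈ (decompose ℳ m).support, pr ℳ i m = m :=
  sum_support_decompose ℳ m

lemma exists_sum_pr (m : M) : ∃ s : Finset ι, (∀ i, i ∉ s → pr ℳ i m = 0) ∧
    ∀ t : Finset ι, s ⊆ t → ∑ i ∈ t, pr ℳ i m = m := by
  classical
  refine ⟨(decompose ℳ m).support, fun i hi => ?_, fun t ht => ?_⟩
  · rw [DFinsupp.notMem_support_iff] at hi
    rw [pr_def, hi]; rfl
  · rw [← Finset.sum_subset ht, sum_pr]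
    intro i _ hi
    rw [DFinsupp.notMem_support_iff] at hi
    rw [pr_def, hi]; rfl

lemma eq_zero_of_pr {m : M} (h : ∀ i, pr ℳ i m = 0) : m = 0 := by
  obtain ⟨s, _, hs⟩ := exists_sum_pr ℳ m
  rw [← hs s subset_rfl]
  exact Finset.sum_eq_zero fun i _ => h i

lemma ext_pr {m n : M} (h : ∀ i, pr ℳ i m = pr ℳ i n) : m = n := by
  rw [← sub_eq_zero]
  exact eq_zero_of_pr ℳ fun i => by rw [map_sub, h i, sub_self]

lemma exists_pr_ne_zero {m : M} (h : m ≠ 0) : ∃ i, pr ℳ i m ≠ 0 := by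
  by_contra hc
  push Not at hc
  exact h (eq_zero_of_pr ℳ hc)

lemma mem_iff_pr {i : ι} {m : M} : m ∈ ℳ i ↔ ∀ j, j ≠ i → pr ℳ j m = 0 := by
  constructor
  · intro h j hj
    exact pr_of_mem_ne h (Ne.symm hj)
  · intro h
    have : m = pr ℳ i m := by
      refine ext_pr ℳ fun j => ?_
      by_cases hj : j = i
      · subst hj
        rw [pr_of_mem (pr_mem ℳ j m)]
      · rw [h j hj, pr_of_mem_ne (pr_mem ℳ i m) (Ne.symm hj)]
    rw [this]
    exact pr_mem ℳ i m

/-- Induction on elements: additive closure of homogeneous elements is everything. -/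
lemma induction {p : M → Prop} (h0 : p 0) (hadd : ∀ a b, p a → p b → p (a + b))
    (hom : ∀ i, ∀ m ∈ ℳ i, p m) (m : M) : p m := by
  induction m using Decomposition.inductionOn ℳ with
  | zero => exact h0
  | homogeneous m => exact hom _ _ m.2
  | add a b ha hb => exact hadd a b ha hb

end Proj

section Mod

variable {ι : Type} [AddCommGroup ι] [DecidableEq ι]
  {R : Type u} [CommRing R] {σ : Type u} [SetLike σ R] [AddSubgroupClass σ R] (𝒜 : ι → σ) [GradedRing 𝒜]
  {M : Type u} [AddCommGroup M] [Module R M] {τ : Type u} [SetLike τ M] [AddSubgroupClass τ M]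
  (ℳ : ι → τ) [Decomposition ℳ] [SetLike.GradedSMul 𝒜 ℳ]

variable {𝒜} {ℳ} in
lemma smul_mem {i j : ι} {r : R} {m : M} (hr : r ∈ 𝒜 i) (hm : m ∈ ℳ j) : r • m ∈ ℳ (i + j) :=
  SetLike.GradedSMul.smul_mem (A := 𝒜) (B := ℳ) hr hm

variable {𝒜} in
lemma pr_smul {i : ι} {r : R} (hr : r ∈ 𝒜 i) (m : M) (j : ι) :
    pr ℳ (i + j) (r • m) = r • pr ℳ j m := by
  induction m using induction ℳ with
  | h0 => simp
  | hadd a b ha hb => rw [smul_add, map_add, ha, hb, map_add, smul_add]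
  | hom k m hm =>
    by_cases hk : k = j
    · subst hk
      rw [pr_of_mem hm, pr_of_mem (smul_mem hr hm)]
    · rw [pr_of_mem_ne hm hk, smul_zero, pr_of_mem_ne (smul_mem hr hm)]
      simpa using hk

variable {𝒜} in
lemma pr_smul' {i : ι} {r : R} (hr : r ∈ 𝒜 i) (m : M) (j : ι) :
    pr ℳ j (r • m) = r • pr ℳ (j - i) m := by
  have := pr_smul ℳ hr m (j - i)
  rwa [add_sub_cancel] at this

/-- component of `r • m` for `m` homogeneous -/
lemma pr_smul_right {j : ι} (r : R) {m : M} (hm : m ∈ ℳ j) (i : ι) :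
    pr ℳ (i + j) (r • m) = pr 𝒜 i r • m := by
  induction r using induction 𝒜 with
  | h0 => simp
  | hadd a b ha hb => rw [add_smul, map_add, ha, hb, map_add, add_smul]
  | hom k r hr =>
    by_cases hk : k = i
    · subst hk
      rw [pr_of_mem hr, pr_of_mem (smul_mem hr hm)]
    · rw [pr_of_mem_ne hr hk, zero_smul, pr_of_mem_ne (smul_mem hr hm)]
      simpa using hk

end Mod

section Hom

variable {ι : Type} [AddCommGroup ι] [DecidableEq ι]
  {R : Type u} [CommRing R] {σ : Type u} [SetLike σ R] [AddSubgroupClass σ R] (𝒜 : ι → σ) [GradedRing 𝒜]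
  {M : Type u} [AddCommGroup M] [Module R M] {τ : Type u} [SetLike τ M] [AddSubgroupClass τ M]
  (ℳ : ι → τ) [Decomposition ℳ] [SetLike.GradedSMul 𝒜 ℳ]
  {N : Type u} [AddCommGroup N] [Module R N] {τ' : Type u} [SetLike τ' N] [AddSubgroupClass τ' N]
  (𝒩 : ι → τ') [Decomposition 𝒩] [SetLike.GradedSMul 𝒜 𝒩]

/-- additive version of the component of degree `d` of a map -/
noncomputable def homPrAdd (f : M →ₗ[R] N) (d : ι) : M →+ N :=
  (DirectSum.toAddMonoid fun n : ι => ((pr 𝒩 (n + d)).comp f.toAddMonoidHom).comp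
    (AddSubgroupClass.subtype (ℳ n))).comp (decomposeAddEquiv ℳ).toAddMonoidHom

lemma homPrAdd_of_mem (f : M →ₗ[R] N) (d : ι) {n : ι} {m : M} (hm : m ∈ ℳ n) :
    homPrAdd ℳ 𝒩 f d m = pr 𝒩 (n + d) (f m) := by
  have : decompose ℳ m = DirectSum.of _ n ⟨m, hm⟩ := decompose_of_mem ℳ hm
  simp [homPrAdd, this]

/-- The component of degree `d` of a linear map between graded modules. -/
noncomputable def homPr (f : M →ₗ[R] N) (d : ι) : M →ₗ[R] N where
  toFun := homPrAdd ℳ 𝒩 f d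
  map_add' := map_add _
  map_smul' r m := by
    rw [RingHom.id_apply]
    induction m using induction ℳ with
    | h0 => simp
    | hadd a b ha hb => rw [smul_add, map_add, ha, hb, map_add, smul_add]
    | hom j m hm =>
      induction r using induction 𝒜 with
      | h0 => simp
      | hadd a b ha hb => rw [add_smul, map_add, ha, hb, add_smul]
      | hom i r hr =>
        rw [homPrAdd_of_mem ℳ 𝒩 f d hm, homPrAdd_of_mem ℳ 𝒩 f d (smul_mem hr hm), map_smul,
          add_assoc, pr_smul 𝒩 hr]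

lemma homPr_of_mem (f : M →ₗ[R] N) (d : ι) {n : ι} {m : M} (hm : m ∈ ℳ n) :
    homPr 𝒜 ℳ 𝒩 f d m = pr 𝒩 (n + d) (f m) := homPrAdd_of_mem ℳ 𝒩 f d hm

lemma homPr_isGrHomDeg (f : M →ₗ[R] N) (d : ι) : GrLC.IsGrHomDeg ℳ 𝒩 (homPr 𝒜 ℳ 𝒩 f d) d := by
  intro g m hm
  rw [homPr_of_mem 𝒜 ℳ 𝒩 f d hm]
  exact pr_mem _ _ _

lemma homPr_of_isGrHomDeg {f : M →ₗ[R] N} {d : ι} (hf : GrLC.IsGrHomDeg ℳ 𝒩 f d) :
    homPr 𝒜 ℳ 𝒩 f d = f := by
  ext m
  induction m using induction ℳ with
  | h0 => simp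
  | hadd a b ha hb => rw [map_add, map_add, ha, hb]
  | hom i m hm => rw [homPr_of_mem 𝒜 ℳ 𝒩 f d hm, pr_of_mem (hf i m hm)]

lemma homPr_of_isGrHomDeg_ne {f : M →ₗ[R] N} {d e : ι} (hf : GrLC.IsGrHomDeg ℳ 𝒩 f d) (h : d ≠ e) :
    homPr 𝒜 ℳ 𝒩 f e = 0 := by
  ext m
  induction m using induction ℳ with
  | h0 => simp
  | hadd a b ha hb => rw [map_add, map_add, ha, hb]
  | hom i m hm =>
    rw [homPr_of_mem 𝒜 ℳ 𝒩 f e hm, pr_of_mem_ne (hf i m hm) (by simpa using h),
      LinearMap.zero_apply]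

end Hom

end K761.Gr
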