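import Groth.Agent.GrLC.K763.Std
import Groth.Agent.GrLC.K761.Gr
import Groth.Agent.LocAlg.K539.QRegLen
import Mathlib.RingTheory.MvPolynomial.Homogeneous
import Mathlib.RingTheory.Length
import Mathlib.RingTheory.Artinian.Module

/-! # Recognizing polynomial rings by their Hilbert function (seat 761) -/

set_option autoImplicit false
set_option linter.unusedSectionVars false
set_option linter.style.haveILetI false

universe u

open DirectSum K761.Gr GrLC MvPolynomial

namespace K761.PolyAlg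

theorem length_homogeneous (A : Type u) [CommRing A] (d n : ℕ) :
    Module.length A (homogeneousSubmodule (Fin d) A n) =
      (Nat.multichoose d n : ℕ∞) * Module.length A A := by
  have h : homogeneousSubmodule (Fin d) A n =
    AddMonoidAlgebra.supported A A {m : Fin d →₀ ℕ | m.degree = n} :=
    homogeneousSubmodule_eq_finsupp_supported (Fin d) A n
  have hfin : Finite {e : Fin d →₀ ℕ | e.degree = n} :=
    (Set.Finite.subset (Finsupp.finite_of_degree_le n) (fun d hd => le_of_eq hd) :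
      ({e : Fin d →₀ ℕ | e.degree = n}).Finite).to_subtype
  rw [h, (AddMonoidAlgebra.supportedEquivFinsupp (R := A) (S := A)
    {m : Fin d →₀ ℕ | m.degree = n}).length_eq, Module.length_finsupp]
  congr 1
  rw [ENat.card_eq_coe_natCard]
  exact congrArg _ (K539.QRegLen.card_degree (d := d) n)

lemma injective_of_length {A M N : Type*} [CommRing A] [AddCommGroup M] [Module A M] [AddCommGroup N]
    [Module A N] (f : M →ₗ[A] N) (hf : Function.Surjective f) (h : Module.length A M = Module.length A N)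
    (hN : Module.length A N ≠ ⊤) : Function.Injective f := by
  have h1 := Module.length_eq_add_of_exact (LinearMap.ker f).subtype f (Submodule.injective_subtype _) hf
    (LinearMap.exact_subtype_ker_map f)
  rw [h] at h1
  have h3 : Module.length A (LinearMap.ker f) = 0 := by
    have h4 : 0 + Module.length A N = Module.length A (LinearMap.ker f) + Module.length A N := by
      rw [zero_add]; exact h1
    exact (ENat.add_left_injective_of_ne_top hN h4).symm
  rw [Module.length_eq_zero_iff] at h3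
  rw [← LinearMap.ker_eq_bot]
  exact (Submodule.subsingleton_iff_eq_bot).1 h3

section Graded

variable {R : Type u} [CommRing R] {𝒜 : ℤ → AddSubgroup R} [GradedRing 𝒜]
  {d : ℕ} {x : Fin d → R} (hx : ∀ i, x i ∈ 𝒜 1)

include hx in
lemma aeval_monomial_mem (e : Fin d →₀ ℕ) (c : GrLC.deg0 𝒜) :
    aeval x (monomial e c) ∈ 𝒜 (e.degree : ℤ) := by
  rw [aeval_monomial]
  have h1 : (e.prod fun i k => x i ^ k) ∈ 𝒜 (e.degree : ℤ) := by
    rw [Finsupp.degree_eq_sum, Finsupp.prod_fintype _ _ (fun i => pow_zero _)]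
    push_cast
    have h := SetLike.prod_pow_mem_graded 𝒜 (F := Finset.univ) (fun _ : Fin d => (1 : ℤ)) x (fun i => e i)
      (fun i _ => hx i)
    simpa using h
  have h2 := SetLike.mul_mem_graded (A := 𝒜) (show (c : R) ∈ 𝒜 0 from c.2) h1
  rw [zero_add] at h2
  exact h2

include hx in
lemma aeval_mem {n : ℕ} {f : MvPolynomial (Fin d) (GrLC.deg0 𝒜)} (hf : f ∈ homogeneousSubmodule (Fin d) _ n) :
    aeval x f ∈ 𝒜 (n : ℤ) := by
  rw [f.as_sum, map_sum]
  refine sum_mem fun e he => ?_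
  have h1 : e.degree = n := by
    by_contra hne
    exact (mem_support_iff.1 he) (IsHomogeneous.coeff_eq_zero hf hne)
  rw [← h1]
  exact aeval_monomial_mem hx e _

include hx in
/-- the map commutes with taking components -/
lemma pr_aeval (f : MvPolynomial (Fin d) (GrLC.deg0 𝒜)) (n : ℕ) :
    pr 𝒜 (n : ℤ) (aeval x f) = aeval x (homogeneousComponent n f) := by
  conv_lhs => rw [← sum_homogeneousComponent f]
  rw [map_sum, map_sum]
  by_cases hn : n ∈ Finset.range (f.totalDegree + 1)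
  · rw [Finset.sum_eq_single_of_mem n hn]
    · exact pr_of_mem (aeval_mem hx (homogeneousComponent_isHomogeneous n f))
    · intro i _ hi
      exact pr_of_mem_ne (aeval_mem hx (homogeneousComponent_isHomogeneous i f)) (by exact_mod_cast hi)
  · rw [Finset.sum_eq_zero]
    · rw [homogeneousComponent_eq_zero, map_zero]
      simpa using hn
    · intro i hi
      refine pr_of_mem_ne (aeval_mem hx (homogeneousComponent_isHomogeneous i f)) ?_
      rintro h
      exact hn ((show i = n by exact_mod_cast h) ▸ hi)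

variable (hpos : ∀ n : ℤ, n < 0 → 𝒜 n = ⊥)
  (hstd : Ideal.span (⋃ n ∈ Set.Ioi (0 : ℤ), (𝒜 n : Set R)) = Ideal.span ((𝒜 1 : AddSubgroup R) : Set R))
  (hgen : ∀ y ∈ 𝒜 1, y ∈ Submodule.span (GrLC.deg0 𝒜) (Set.range x))

include hx hstd hgen in
lemma exists_preimage (n : ℕ) : ∀ y ∈ 𝒜 (n : ℤ), ∃ f ∈ homogeneousSubmodule (Fin d) (GrLC.deg0 𝒜) n,
    aeval x f = y := by
  induction n with
  | zero =>
    intro y hy
    exact ⟨C ⟨y, hy⟩, isHomogeneous_C _ _, by rw [aeval_C]; rfl⟩
  | succ n ih =>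
    intro y hy
    have hy' : y ∈ 𝒜 (1 + (n : ℤ)) := by
      rw [add_comm]; exact_mod_cast hy
    have h := K763.Std.mem_pr_one 𝒜 hstd (Int.natCast_nonneg n) hy'
    rw [K763.Std.pr] at h
    clear hy hy'
    induction h using AddSubgroup.closure_induction with
    | mem z hz =>
      obtain ⟨a, ha, b, hb, rfl⟩ := hz
      obtain ⟨g, hg, rfl⟩ := ih b hb
      obtain ⟨c, rfl⟩ := (Submodule.mem_span_range_iff_exists_fun (GrLC.deg0 𝒜)).1 (hgen a ha)
      refine ⟨(∑ i, C (c i) * X i) * g, ?_, ?_⟩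
      · rw [add_comm]
        refine IsHomogeneous.mul (IsHomogeneous.sum _ _ _ fun i _ => ?_) hg
        have := (isHomogeneous_C (Fin d) (c i)).mul (isHomogeneous_X (GrLC.deg0 𝒜) i)
        rwa [zero_add] at this
      · rw [map_mul, map_sum]
        simp only [map_mul, aeval_C, aeval_X]
        rfl
    | zero => exact ⟨0, zero_mem _, map_zero _⟩
    | add a b _ _ ha hb =>
      obtain ⟨f, hf, rfl⟩ := ha
      obtain ⟨g, hg, rfl⟩ := hb
      exact ⟨f + g, add_mem hf hg, map_add _ _ _⟩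
    | neg a _ ha =>
      obtain ⟨f, hf, rfl⟩ := ha
      exact ⟨-f, neg_mem hf, map_neg _ _⟩

include hx hpos hstd hgen in
lemma surjective_aeval : Function.Surjective (aeval x : MvPolynomial (Fin d) (GrLC.deg0 𝒜) →ₐ[GrLC.deg0 𝒜] R) := by
  intro y
  obtain ⟨s, -, hs'⟩ := exists_sum_pr 𝒜 y
  have key : ∀ i, ∃ f, (aeval x : MvPolynomial (Fin d) (GrLC.deg0 𝒜) →ₐ[GrLC.deg0 𝒜] R) f = pr 𝒜 i y := by
    intro i
    by_cases hi : 0 ≤ i
    · obtain ⟨n, rfl⟩ := Int.eq_ofNat_of_zero_le hi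
      obtain ⟨f, -, hf⟩ := exists_preimage hx hstd hgen n _ (pr_mem 𝒜 (n : ℤ) y)
      exact ⟨f, hf⟩
    · have h1 : pr 𝒜 i y = 0 := by
        have := pr_mem 𝒜 i y
        rwa [hpos i (by omega), AddSubgroup.mem_bot] at this
      exact ⟨0, by rw [map_zero, h1]⟩
  choose f hf using key
  refine ⟨∑ i ∈ s, f i, ?_⟩
  rw [map_sum, ← hs' s le_rfl]
  exact Finset.sum_congr rfl fun i _ => hf i

variable (hfl : Module.length (GrLC.deg0 𝒜) (GrLC.deg0 𝒜) ≠ ⊤)
  (hlen : ∀ n : ℕ, Module.length (GrLC.deg0 𝒜) (comp 𝒜 𝒜 (n : ℤ)) =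
    (Nat.multichoose d n : ℕ∞) * Module.length (GrLC.deg0 𝒜) (GrLC.deg0 𝒜))

include hx hstd hgen hfl hlen in
lemma eq_zero_of_homogeneous {n : ℕ} {f : MvPolynomial (Fin d) (GrLC.deg0 𝒜)}
    (hf : f ∈ homogeneousSubmodule (Fin d) (GrLC.deg0 𝒜) n) (h0 : aeval x f = 0) : f = 0 := by
  let φ : homogeneousSubmodule (Fin d) (GrLC.deg0 𝒜) n →ₗ[GrLC.deg0 𝒜] comp 𝒜 𝒜 (n : ℤ) :=
    { toFun := fun f => ⟨aeval x (f : MvPolynomial (Fin d) (GrLC.deg0 𝒜)), aeval_mem hx f.2⟩
      map_add' := fun f g => Subtype.ext (map_add (aeval x) _ _)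
      map_smul' := fun c f => Subtype.ext (map_smul (aeval x) c (f : MvPolynomial (Fin d) (GrLC.deg0 𝒜))) }
  have hφ : Function.Surjective φ := by
    rintro ⟨y, hy⟩
    obtain ⟨f, hf, rfl⟩ := exists_preimage hx hstd hgen n y hy
    exact ⟨⟨f, hf⟩, rfl⟩
  have h2 : (Nat.multichoose d n : ℕ∞) * Module.length (GrLC.deg0 𝒜) (GrLC.deg0 𝒜) ≠ ⊤ :=
    WithTop.mul_ne_top (ENat.natCast_ne_top _) hfl
  have h3 : Function.Injective φ := injective_of_length φ hφ
    ((length_homogeneous _ d n).trans (hlen n).symm) (by rw [hlen n]; exact h2)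
  have h4 : (⟨f, hf⟩ : homogeneousSubmodule (Fin d) (GrLC.deg0 𝒜) n) = 0 :=
    h3 ((Subtype.ext h0 : φ ⟨f, hf⟩ = 0).trans (map_zero φ).symm)
  exact congrArg Subtype.val h4

include hx hstd hgen in
/-- pieces of a polynomial ring -/
lemma length_comp (hinj : Function.Injective (aeval x : MvPolynomial (Fin d) (GrLC.deg0 𝒜) →ₐ[GrLC.deg0 𝒜] R))
    (n : ℕ) : Module.length (GrLC.deg0 𝒜) (comp 𝒜 𝒜 (n : ℤ)) =
      (Nat.multichoose d n : ℕ∞) * Module.length (GrLC.deg0 𝒜) (GrLC.deg0 𝒜) := by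
  let φ : homogeneousSubmodule (Fin d) (GrLC.deg0 𝒜) n →ₗ[GrLC.deg0 𝒜] comp 𝒜 𝒜 (n : ℤ) :=
    { toFun := fun f => ⟨aeval x (f : MvPolynomial (Fin d) (GrLC.deg0 𝒜)), aeval_mem hx f.2⟩
      map_add' := fun f g => Subtype.ext (map_add (aeval x) _ _)
      map_smul' := fun c f => Subtype.ext (map_smul (aeval x) c (f : MvPolynomial (Fin d) (GrLC.deg0 𝒜))) }
  have hφ : Function.Bijective φ := by
    constructor
    · intro f g hfg
      exact Subtype.ext (hinj (congrArg Subtype.val hfg))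
    · rintro ⟨y, hy⟩
      obtain ⟨f, hf, rfl⟩ := exists_preimage hx hstd hgen n y hy
      exact ⟨⟨f, hf⟩, rfl⟩
  exact (LinearEquiv.ofBijective φ hφ).length_eq.symm.trans (length_homogeneous _ d n)

include hx hpos hstd hgen hfl hlen in
/-- Recognition of polynomial rings. -/
theorem exists_algEquiv : ∃ e : MvPolynomial (Fin d) (GrLC.deg0 𝒜) ≃ₐ[GrLC.deg0 𝒜] R, ∀ t, e (X t) = x t := by
  have hinj : Function.Injective (aeval x : MvPolynomial (Fin d) (GrLC.deg0 𝒜) →ₐ[GrLC.deg0 𝒜] R) := by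
    rw [injective_iff_map_eq_zero]
    intro f hf
    rw [← sum_homogeneousComponent f]
    refine Finset.sum_eq_zero fun n _ => ?_
    refine eq_zero_of_homogeneous hx hstd hgen hfl hlen (homogeneousComponent_isHomogeneous n f) ?_
    rw [← pr_aeval hx, hf, map_zero]
  refine ⟨AlgEquiv.ofBijective _ ⟨hinj, surjective_aeval hx hpos hstd hgen⟩, fun t => ?_⟩
  exact aeval_X x t

end Graded

end K761.PolyAlg
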