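import Groth.Agent.GrLC.K761.HilbStd
import Groth.Agent.GrLC.K761.PolyAlg
import Mathlib.RingTheory.Polynomial.Pochhammer
import Mathlib.Data.Nat.Choose.Basic

/-! # Standard graded Cohen–Macaulay rings with `a(R) = -dim R` (seat 761) -/

set_option autoImplicit false
set_option linter.unusedSectionVars false
set_option linter.style.haveILetI false

universe u

open DirectSum K761.Gr GrLC K963.Iface K761.Len
open scoped Polynomial

namespace K761.AInv

open Polynomial in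
/-- the polynomial `c * C(n + d - 1, d - 1)` -/
noncomputable def hp (d : ℕ) (c : ℚ) : ℚ[X] :=
  match d with
  | 0 => 0
  | e + 1 => C (c / (e.factorial : ℚ)) * (ascPochhammer ℚ e).comp (X + 1)

lemma hp_degree (d : ℕ) (c : ℚ) : (hp d c).degree < (d : WithBot ℕ) := by
  cases d with
  | zero => rw [hp, Polynomial.degree_zero]; exact WithBot.bot_lt_coe _
  | succ e =>
    rw [hp]
    refine lt_of_le_of_lt (Polynomial.degree_le_natDegree) ?_
    have h1 : (Polynomial.C (c / (e.factorial : ℚ)) * (ascPochhammer ℚ e).comp (Polynomial.X + 1)).natDegree ≤ e := by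
      refine (Polynomial.natDegree_C_mul_le _ _).trans (Polynomial.natDegree_comp_le.trans ?_)
      rw [ascPochhammer_natDegree]
      have : (Polynomial.X + 1 : ℚ[X]).natDegree = 1 := by
        have := Polynomial.natDegree_X_add_C (1 : ℚ)
        rwa [Polynomial.C_1] at this
      rw [this, mul_one]
    exact_mod_cast Nat.lt_succ_of_le h1

lemma hp_eval_nat (d : ℕ) (c : ℚ) (n : ℕ) (hdn : d = 0 → 0 < n) :
    (hp d c).eval (n : ℚ) = c * (Nat.multichoose d n : ℚ) := by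
  cases d with
  | zero =>
    obtain ⟨k, rfl⟩ := Nat.exists_eq_succ_of_ne_zero (hdn rfl).ne'
    simp [hp]
  | succ e =>
    rw [hp, Polynomial.eval_mul, Polynomial.eval_C, Polynomial.eval_comp, Polynomial.eval_add,
      Polynomial.eval_X, Polynomial.eval_one]
    have h1 : (ascPochhammer ℚ e).eval ((n : ℚ) + 1) = (e.factorial : ℚ) * ((n + e).choose e : ℚ) := by
      have h := ascPochhammer_nat_eq_natCast_ascFactorial ℚ (n + 1) e
      rw [Nat.ascFactorial_eq_factorial_mul_choose] at h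
      push_cast at h
      exact h
    have h2 : Nat.multichoose (e + 1) n = (n + e).choose e := by
      rw [Nat.multichoose_eq]
      have : e + 1 + n - 1 = e + n := by omega
      rw [this, ← Nat.choose_symm_add, add_comm]
    rw [h1, h2]
    have h3 : (e.factorial : ℚ) ≠ 0 := by exact_mod_cast Nat.factorial_ne_zero e
    field_simp

lemma hp_eval_neg (d : ℕ) (c : ℚ) (n : ℕ) (hn : n + 1 < d) : (hp d c).eval (-((n : ℚ) + 1)) = 0 := by
  cases d with
  | zero => omega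
  | succ e =>
    rw [hp, Polynomial.eval_mul, Polynomial.eval_C, Polynomial.eval_comp, Polynomial.eval_add,
      Polynomial.eval_X, Polynomial.eval_one]
    have h1 : -((n : ℚ) + 1) + 1 = -(n : ℚ) := by ring
    rw [h1, ascPochhammer_eval_neg_coe_nat_of_lt (by omega), mul_zero]

/-- polynomials of degree `< d` agreeing at `0, -1, …, -(d-1)` agree -/
lemma eq_of_agree (P Q : ℚ[X]) (d : ℕ) (hP : P.degree < (d : WithBot ℕ)) (hQ : Q.degree < (d : WithBot ℕ))
    (h : ∀ j : ℕ, j < d → P.eval (-(j : ℚ)) = Q.eval (-(j : ℚ))) : P = Q := by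
  by_contra hne
  have hne' : P - Q ≠ 0 := sub_ne_zero.2 hne
  have hcard : (P - Q).roots.toFinset.card ≤ (P - Q).natDegree :=
    (Multiset.toFinset_card_le _).trans (Polynomial.card_roots' _)
  have hlt : (P - Q).natDegree < d := by
    rw [Polynomial.natDegree_lt_iff_degree_lt hne']
    exact lt_of_le_of_lt (Polynomial.degree_sub_le _ _) (max_lt hP hQ)
  have hsub : (Finset.range d).image (fun j : ℕ => (-(j : ℚ))) ⊆ (P - Q).roots.toFinset := by
    intro x hx
    obtain ⟨j, hj, rfl⟩ := Finset.mem_image.1 hx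
    rw [Multiset.mem_toFinset, Polynomial.mem_roots hne', Polynomial.IsRoot, Polynomial.eval_sub,
      h j (Finset.mem_range.1 hj), sub_self]
  have := Finset.card_le_card hsub
  rw [Finset.card_image_of_injective _ (fun a b hab => by
    have : (a : ℚ) = b := by linarith [hab]
    exact_mod_cast this), Finset.card_range] at this
  omega

/-- pieces above the end vanish -/
lemma eq_bot_of_endDeg_le {H : Type*} [AddCommGroup H] (ℋ : ℤ → AddSubgroup H) {a : ℤ}
    (ha : GrLC.endDeg ℋ ≤ ((a : WithTop ℤ) : WithBot (WithTop ℤ))) {n : ℤ} (hn : a < n) : ℋ n = ⊥ := by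
  by_contra hne
  have h1 : ((n : WithTop ℤ) : WithBot (WithTop ℤ)) ≤ GrLC.endDeg ℋ := le_iSup₂_of_le n hne le_rfl
  have h2 : ((n : WithTop ℤ) : WithBot (WithTop ℤ)) ≤ ((a : WithTop ℤ) : WithBot (WithTop ℤ)) := h1.trans ha
  have h3 : n ≤ a := by exact_mod_cast h2
  omega

section

variable {R : Type u} [CommRing R] [LocCoh.IsCohenMacaulayRing R] {𝒜 : ℤ → AddSubgroup R} [GradedRing 𝒜]
  (hpos : ∀ n : ℤ, n < 0 → 𝒜 n = ⊥)
  (hstd : Ideal.span (⋃ n ∈ Set.Ioi (0 : ℤ), (𝒜 n : Set R)) = Ideal.span ((𝒜 1 : AddSubgroup R) : Set R))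
  [IsArtinianRing (GrLC.deg0 𝒜)] {m : HomogeneousIdeal 𝒜} (hm : GrLC.IsStarLocal 𝒜 m)
  {d : ℕ} (hd : ringKrullDim R = d) (I : StarInjRes 𝒜 𝒜)

include hpos in
lemma len_neg {n : ℤ} (hn : n < 0) : len (GrLC.deg0 𝒜) (comp 𝒜 𝒜 n) = 0 := by
  refine Hilb.len_eq_zero_of_eq_bot ?_
  rw [Submodule.eq_bot_iff]
  exact fun x hx => HilbStd.hpos' hpos _ hn x hx

include hpos hstd hm hd in
/-- The Hilbert function when `a(R) = -d`. -/
theorem len_comp_eq (ha : GrLC.endDeg (I.Hgr m d) = (((-(d : ℤ) : ℤ) : WithTop ℤ) : WithBot (WithTop ℤ)))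
    (n : ℕ) : len (GrLC.deg0 𝒜) (comp 𝒜 𝒜 (n : ℤ)) =
      len (GrLC.deg0 𝒜) (comp 𝒜 𝒜 0) * (Nat.multichoose d n : ℚ) := by
  obtain ⟨N, p, hdeg, hf, hv, hpp⟩ := HilbStd.exists_poly hpos hstd hm hd I
  have hbot : ∀ n : ℤ, -(d : ℤ) < n → Hilb.chi I m d n = 0 := by
    intro n hn
    have h1 := eq_bot_of_endDeg_le (I.Hgr m d) ha.le hn
    have h2 : I.Hcomp m d n = ⊥ := by
      rw [Submodule.eq_bot_iff]
      intro x hx
      have : x ∈ I.Hgr m d n := hx
      rw [h1] at this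
      exact this
    rw [HilbStd.chi_eq hpos hm hd I n, Hilb.len_eq_zero_of_eq_bot h2, mul_zero]
  have hp2 : ∀ n : ℤ, -(d : ℤ) < n → p.eval (n : ℚ) = len (GrLC.deg0 𝒜) (comp 𝒜 𝒜 n) := by
    intro n hn
    rw [← hpp, hbot n hn, sub_zero]
  have heq : p = hp d (len (GrLC.deg0 𝒜) (comp 𝒜 𝒜 0)) := by
    refine eq_of_agree p _ d hdeg (hp_degree _ _) fun j hj => ?_
    rcases Nat.eq_zero_or_pos j with rfl | hj0
    · have h1 := hp2 0 (by omega)
      have h2 := hp_eval_nat d (len (GrLC.deg0 𝒜) (comp 𝒜 𝒜 0)) 0 (by omega)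
      rw [Nat.cast_zero, Nat.multichoose_zero_right, Nat.cast_one, mul_one] at h2
      rw [Nat.cast_zero, neg_zero, h2]
      exact_mod_cast h1
    · obtain ⟨k, rfl⟩ := Nat.exists_eq_succ_of_ne_zero hj0.ne'
      have h1 := hp2 (-((k : ℤ) + 1)) (by omega)
      rw [len_neg hpos (by omega)] at h1
      have h2 := hp_eval_neg d (len (GrLC.deg0 𝒜) (comp 𝒜 𝒜 0)) k hj
      push_cast at h1 ⊢
      rw [h1, h2]
  rcases Nat.eq_zero_or_pos n with rfl | hn
  · rw [Nat.multichoose_zero_right, Nat.cast_one, mul_one, Nat.cast_zero]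
  · rw [← hp_eval_nat d _ n (fun _ => hn), ← heq, ← hp2 n (by omega)]
    norm_cast

include hpos hstd hm hd in
/-- Conversely the Hilbert function of a polynomial ring forces `a(R) = -d`. -/
theorem endDeg_eq (hlen : ∀ n : ℕ, len (GrLC.deg0 𝒜) (comp 𝒜 𝒜 (n : ℤ)) =
      len (GrLC.deg0 𝒜) (comp 𝒜 𝒜 0) * (Nat.multichoose d n : ℚ)) :
    GrLC.endDeg (I.Hgr m d) = (((-(d : ℤ) : ℤ) : WithTop ℤ) : WithBot (WithTop ℤ)) := by
  refine le_antisymm ?_ (HilbStd.neg_dim_le hpos hstd hm hd I)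
  have hP : ∃ N : ℤ, ∀ n : ℤ, N ≤ n → (hp d (len (GrLC.deg0 𝒜) (comp 𝒜 𝒜 0))).eval (n : ℚ) =
      len (GrLC.deg0 𝒜) (comp 𝒜 𝒜 n) := by
    refine ⟨1, fun n hn => ?_⟩
    obtain ⟨k, rfl⟩ := Int.eq_ofNat_of_zero_le (show 0 ≤ n by omega)
    rw [hlen k, ← hp_eval_nat d _ k (fun _ => by omega)]
    norm_cast
  refine iSup₂_le fun n hn => ?_
  rw [HilbStd.Hgr_ne_bot_iff hpos hstd hm hd I _ hP n] at hn
  suffices h : n ≤ -(d : ℤ) by exact_mod_cast h
  by_contra hcon
  push Not at hcon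
  apply hn
  rcases lt_or_ge n 0 with h | h
  · obtain ⟨k, hk⟩ : ∃ k : ℕ, n = -((k : ℤ) + 1) := ⟨(-n - 1).toNat, by omega⟩
    rw [len_neg hpos h, hk]
    push_cast
    exact hp_eval_neg d _ k (by omega)
  · obtain ⟨k, rfl⟩ := Int.eq_ofNat_of_zero_le h
    rw [hlen k, ← hp_eval_nat d _ k (fun h0 => by omega)]
    norm_cast

end

end K761.AInv
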