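import Groth.Agent.GrLC.K761.GrSub
import Mathlib.RingTheory.Artinian.Module
import Mathlib.Tactic.LinearCombination
import Mathlib.Algebra.Ring.GeomSum
import Mathlib.Algebra.Module.LocalizedModule.Submodule
import Mathlib.RingTheory.Localization.AtPrime.Basic

/-! # Artinian graded modules over positively graded rings (seat 761) -/

set_option autoImplicit false
set_option linter.unusedSectionVars false
set_option linter.style.haveILetI false
universe u

open DirectSum K761.Gr

namespace K761.Art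

section Graded

variable {R : Type u} [CommRing R] {σ : Type u} [SetLike σ R] [AddSubgroupClass σ R] (𝒜 : ℤ → σ) [GradedRing 𝒜]
  {H : Type u} [AddCommGroup H] [Module R H] {τ : Type u} [SetLike τ H] [AddSubgroupClass τ H]
  (ℋ : ℤ → τ) [Decomposition ℋ] [SetLike.GradedSMul 𝒜 ℋ]

/-- An Artinian graded module over a positively graded ring vanishes in large degrees. -/
theorem exists_bound (hpos : ∀ n : ℤ, n < 0 → ∀ x ∈ 𝒜 n, x = 0) [IsArtinian R H] :
    ∃ N : ℤ, ∀ n : ℤ, N ≤ n → ∀ x ∈ ℋ n, x = 0 := by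
  -- `F k` : elements with no component in degree `< k`
  let F : ℤ → Submodule R H := fun k =>
    { carrier := {x | ∀ j : ℤ, j < k → pr ℋ j x = 0}
      zero_mem' := fun j _ => map_zero _
      add_mem' := fun {a b} ha hb j hj => by rw [map_add, ha j hj, hb j hj, add_zero]
      smul_mem' := fun r x hx j hj => by
        induction r using Gr.induction 𝒜 with
        | h0 => rw [zero_smul, map_zero]
        | hadd a c ha hc => rw [add_smul, map_add, ha, hc, add_zero]
        | hom i a ha =>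
          rw [pr_smul' ℋ ha]
          by_cases hi : 0 ≤ i
          · rw [hx _ (by omega), smul_zero]
          · rw [hpos i (by omega) a ha, zero_smul] }
  let f : ℕ →o (Submodule R H)ᵒᵈ :=
    { toFun := fun k => OrderDual.toDual (F k)
      monotone' := fun a b hab => by
        intro x hx j hj
        exact hx j (by omega) }
  obtain ⟨n, hn⟩ := IsArtinian.monotone_stabilizes f
  refine ⟨n, fun k hk x hx => ?_⟩
  obtain ⟨k', rfl⟩ : ∃ k' : ℕ, k = k' := ⟨k.toNat, by omega⟩
  have h1 : x ∈ F n := fun j hj => pr_of_mem_ne hx (by omega)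
  have h2 : F n = F ((k' + 1 : ℕ) : ℤ) := hn (k' + 1) (by omega)
  rw [h2] at h1
  have h3 := h1 k' (by push_cast; omega)
  rwa [pr_of_mem hx] at h3

end Graded

section Pieces

variable {ι : Type} [AddCommGroup ι] [DecidableEq ι]
  {R : Type u} [CommRing R] {σ : Type u} [SetLike σ R] [AddSubgroupClass σ R] (𝒜 : ι → σ) [GradedRing 𝒜]
  {H : Type u} [AddCommGroup H] [Module R H] {τ : Type u} [SetLike τ H] [AddSubgroupClass τ H]
  (ℋ : ι → τ) [Decomposition ℋ] [SetLike.GradedSMul 𝒜 ℋ]

/-- the degree `n` part of `R Q` for `Q ⊆ H_n` an `R₀`-submodule is `Q` -/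
lemma mem_of_mem_span {n : ι} (Q : Submodule (GrLC.deg0 𝒜) H) (hQ : ∀ x ∈ Q, x ∈ ℋ n) {x : H}
    (hx : x ∈ ℋ n) (hx' : x ∈ Submodule.span R (Q : Set H)) : x ∈ Q := by
  obtain ⟨c, hc, hcx⟩ := (Finsupp.mem_span_iff_linearCombination R (Q : Set H) x).1 hx' |>.imp
    fun c hc => (⟨trivial, hc⟩ : True ∧ _)
  have h1 : pr ℋ n x ∈ Q := by
    rw [← hcx, Finsupp.linearCombination_apply, Finsupp.sum, map_sum]
    refine sum_mem fun q _ => ?_
    have hq : (q : H) ∈ ℋ n := hQ q q.2
    have h2 := pr_smul_right 𝒜 ℋ (c q) hq 0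
    rw [zero_add] at h2
    rw [h2]
    exact Q.smul_mem (⟨pr 𝒜 0 (c q), pr_mem 𝒜 0 _⟩ : GrLC.deg0 𝒜) q.2
  rwa [pr_of_mem hx] at h1

/-- The order embedding `Q ↦ R Q` from `R₀`-submodules of a piece to `R`-submodules. -/
lemma strictMono_span {n : ι} (P : Submodule (GrLC.deg0 𝒜) H) (hP : ∀ x ∈ P, x ∈ ℋ n) :
    StrictMono fun Q : Submodule (GrLC.deg0 𝒜) P =>
      Submodule.span R ((Q.map P.subtype : Submodule (GrLC.deg0 𝒜) H) : Set H) := by
  refine Monotone.strictMono_of_injective (fun Q Q' h => Submodule.span_mono ?_) ?_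
  · exact Submodule.map_mono h
  · have key : ∀ Q Q' : Submodule (GrLC.deg0 𝒜) P,
        Submodule.span R ((Q.map P.subtype : Submodule (GrLC.deg0 𝒜) H) : Set H) =
        Submodule.span R ((Q'.map P.subtype : Submodule (GrLC.deg0 𝒜) H) : Set H) → Q ≤ Q' := by
      intro Q Q' h x hx
      have h1 : (x : H) ∈ Submodule.span R ((Q'.map P.subtype : Submodule (GrLC.deg0 𝒜) H) : Set H) := by
        rw [← h]
        exact Submodule.subset_span ⟨x, hx, rfl⟩
      have h2 := mem_of_mem_span 𝒜 ℋ (Q'.map P.subtype) (by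
        rintro _ ⟨y, _, rfl⟩
        exact hP y y.2) (hP x x.2) h1
      obtain ⟨y, hy, hyx⟩ := h2
      rwa [← Subtype.ext hyx]
    exact fun Q Q' h => le_antisymm (key Q Q' h) (key Q' Q h.symm)

theorem isArtinian_piece [IsArtinian R H] {n : ι} (P : Submodule (GrLC.deg0 𝒜) H)
    (hP : ∀ x ∈ P, x ∈ ℋ n) : IsArtinian (GrLC.deg0 𝒜) P :=
  (strictMono_span 𝒜 ℋ P hP).wellFoundedLT

theorem isNoetherian_piece [IsNoetherian R H] {n : ι} (P : Submodule (GrLC.deg0 𝒜) H)
    (hP : ∀ x ∈ P, x ∈ ℋ n) : IsNoetherian (GrLC.deg0 𝒜) P := by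
  rw [isNoetherian_iff']
  exact (strictMono_span 𝒜 ℋ P hP).wellFoundedGT

end Pieces

section Loc

variable {R : Type u} [CommRing R]

lemma exists_inverse_mod_pow {m : Ideal R} (hm : m.IsMaximal) {t : R} (ht : t ∉ m) (k : ℕ) :
    ∃ u : R, 1 - u * t ∈ m ^ k := by
  obtain ⟨y, i, hi, h1⟩ := hm.exists_inv ht
  obtain ⟨c, hc⟩ := sub_dvd_pow_sub_pow (1 : R) (1 - y * t) k
  refine ⟨y * c, ?_⟩
  have h2 : 1 - y * t = i := by rw [← h1]; ring
  have h3 : 1 - y * c * t = (1 - y * t) ^ k := by
    have : 1 - (1 - y * t) ^ k = y * t * c := by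
      rw [one_pow] at hc
      rw [hc]; ring
    rw [← sub_eq_zero]
    linear_combination this
  rw [h3, h2]
  exact Ideal.pow_mem_pow hi k

/-- A power torsion module for a maximal ideal `m` is Artinian if its localization at `m` is. -/
theorem isArtinian_of_localized {m : Ideal R} [hm : m.IsMaximal] (N : Type u) [AddCommGroup N] [Module R N]
    (hN : ∀ x : N, ∃ k : ℕ, ∀ r ∈ m ^ k, r • x = 0)
    (h : IsArtinian (Localization.AtPrime m) (LocalizedModule m.primeCompl N)) : IsArtinian R N := by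
  let f := LocalizedModule.mkLinearMap m.primeCompl N
  let Φ : Submodule R N → Submodule (Localization.AtPrime m) (LocalizedModule m.primeCompl N) :=
    Submodule.localized' (Localization.AtPrime m) m.primeCompl f
  have hmono : Monotone Φ := fun P Q h x hx => by
    obtain ⟨y, hy, s, rfl⟩ := (Submodule.mem_localized' _ _ _ _ _).1 hx
    exact (Submodule.mem_localized' _ _ _ _ _).2 ⟨y, h hy, s, rfl⟩
  have key : ∀ P Q : Submodule R N, Φ P = Φ Q → P ≤ Q := by
    intro P Q h x hx
    have h1 : IsLocalizedModule.mk' f x (1 : m.primeCompl) ∈ Φ Q := by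
      rw [← h]
      exact (Submodule.mem_localized' _ _ _ _ _).2 ⟨x, hx, 1, rfl⟩
    obtain ⟨q, hq, s, hqs⟩ := (Submodule.mem_localized' _ _ _ _ _).1 h1
    rw [IsLocalizedModule.mk'_eq_mk'_iff] at hqs
    obtain ⟨c, hc⟩ := hqs
    have h2 : ((c * s : m.primeCompl) : R) • x ∈ Q := by
      have : ((c * s : m.primeCompl) : R) • x = (c : R) • q := by
        have h3 : c • s • x = c • (1 : m.primeCompl) • q := hc
        rw [one_smul] at h3
        rw [Submonoid.coe_mul, mul_smul]
        exact h3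
      rw [this]
      exact Q.smul_mem _ hq
    obtain ⟨k, hk⟩ := hN x
    obtain ⟨u, hu⟩ := exists_inverse_mod_pow hm (c * s).2 k
    have h4 : x = u • ((c * s : m.primeCompl) : R) • x := by
      have := hk _ hu
      rw [sub_smul, one_smul, sub_eq_zero, mul_smul] at this
      exact this
    rw [h4]
    exact Q.smul_mem _ h2
  have hs : StrictMono Φ := hmono.strictMono_of_injective fun P Q h => le_antisymm (key P Q h) (key Q P h.symm)
  exact hs.wellFoundedLT

end Loc

end K761.Art
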