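import Groth.Agent.GrLC.K760.CoreReg
import Groth.Agent.GrRing.K823.CoreHeight
import Groth.Agent.GrRing.K823.GrOrder
import Groth.Agent.GrLC.K761.StarLoc
import Mathlib.Algebra.Polynomial.Laurent
import Mathlib.RingTheory.Ideal.KrullsHeightTheorem
import Mathlib.GroupTheory.SpecificGroups.Cyclic

/-! # `ht(p/p*) ≤ 1` for `ℤ`-graded rings (seat 761) -/

set_option autoImplicit false
set_option linter.unusedSectionVars false
set_option linter.style.haveILetI false

universe u

open DirectSum K760.Gr K760.Simple K760.GrLoc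

namespace K761.CoreHt

lemma isPrincipalIdealRing_of_isLocalization {A B : Type*} [CommRing A] [CommRing B] [Algebra A B] (S : Submonoid A)
    [IsLocalization S B] [IsPrincipalIdealRing A] : IsPrincipalIdealRing B where
  principal J := by
    obtain ⟨x, hx⟩ := (IsPrincipalIdealRing.principal (J.under A)).principal
    refine ⟨⟨algebraMap A B x, ?_⟩⟩
    have h1 := IsLocalization.map_under S B J
    rw [← h1, hx]
    change Ideal.map (algebraMap A B) (Ideal.span {x}) = Ideal.span {algebraMap A B x}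
    rw [Ideal.map_span, Set.image_singleton]

theorem isPrincipalIdealRing {B : Type u} [CommRing B] (ℬ : ℤ → AddSubgroup B) [GradedRing ℬ]
    (h : HomInv ℬ) [Nontrivial B] : IsPrincipalIdealRing B := by
  have hK := isField_deg0 h
  letI : Field (GrLC.deg0 ℬ) := hK.toField
  obtain ⟨e⟩ := K760.CoreReg.exists_algEquiv ℬ h
  obtain ⟨g, hg⟩ := IsAddCyclic.exists_generator (α := degs h)
  let f : ℤ →+ degs h := zmultiplesHom (degs h) g
  have hf : Function.Surjective f := hg
  have h1 : IsPrincipalIdealRing (LaurentPolynomial (GrLC.deg0 ℬ)) :=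
    isPrincipalIdealRing_of_isLocalization (A := Polynomial (GrLC.deg0 ℬ))
      (Submonoid.powers (Polynomial.X : Polynomial (GrLC.deg0 ℬ)))
  have h2 : Function.Surjective (AddMonoidAlgebra.mapDomainRingHom (GrLC.deg0 ℬ) f) := by
    intro x
    induction x using AddMonoidAlgebra.induction_linear with
    | zero => exact ⟨0, map_zero _⟩
    | add x y hx hy =>
      obtain ⟨x', rfl⟩ := hx
      obtain ⟨y', rfl⟩ := hy
      exact ⟨x' + y', map_add _ _ _⟩
    | single a b =>
      obtain ⟨n, rfl⟩ := hf a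
      exact ⟨AddMonoidAlgebra.single n b, AddMonoidAlgebra.mapDomain_single⟩
  have h3 : IsPrincipalIdealRing (AddMonoidAlgebra (GrLC.deg0 ℬ) (degs h)) :=
    @IsPrincipalIdealRing.of_surjective (LaurentPolynomial (GrLC.deg0 ℬ)) _ _ _ _ _ _ h1 _ h2
  exact @IsPrincipalIdealRing.of_surjective _ _ _ _ _ _ _ h3 e.toRingEquiv e.surjective

/-- A prime of a `ℤ`-graded Noetherian domain without nonzero homogeneous elements has height `≤ 1`. -/
theorem height_le_one_of_core_eq_bot {A : Type u} [CommRing A] [IsDomain A] (𝒜 : ℤ → AddSubgroup A)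
    [GradedRing 𝒜] [IsNoetherianRing A] (p : Ideal A) [hp : p.IsPrime]
    (hcore : ∀ a, ∀ d, a ∈ 𝒜 d → a ∈ p → a = 0) : p.height ≤ 1 := by
  let H := K760.CoreReg.homElems 𝒜
  let B := Localization H
  have hd : Disjoint (H : Set A) (p : Set A) := by
    rw [Set.disjoint_left]
    rintro a ⟨ha0, d, hd⟩ hap
    exact ha0 (hcore a d hd hap)
  let P : Ideal B := p.map (algebraMap A B)
  have hP : P.IsPrime := IsLocalization.isPrime_of_isPrime_disjoint H B p hp hd
  have hPc : P.comap (algebraMap A B) = p :=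
    IsLocalization.under_map_of_isPrime_disjoint H B hp hd
  have : Nontrivial B := nontrivial_of_ne 0 1 (fun h => hP.ne_top
    ((Ideal.eq_top_iff_one _).2 (h ▸ P.zero_mem)))
  letI := locGradedRing 𝒜 H (K760.CoreReg.homElems_hom 𝒜) B
  have h1 := isPrincipalIdealRing (locGr 𝒜 H (K760.CoreReg.homElems_hom 𝒜) B)
    (K760.CoreReg.homInv_loc 𝒜 B)
  have h2 : P.height ≤ 1 := by
    haveI := h1.principal P
    exact Ideal.height_le_one_of_isPrincipal_of_mem_minimalPrimes P P
      (by rw [Ideal.minimalPrimes_eq_subsingleton_self]; rfl)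
  have h3 := IsLocalization.height_under H P
  rw [← h3] at h2
  change (P.comap (algebraMap A B)).height ≤ 1 at h2
  rwa [hPc] at h2

section Main

variable {R : Type u} [CommRing R] [IsNoetherianRing R] (𝒜 : ℤ → AddSubgroup R) [GradedRing 𝒜]

theorem height_map_core_le_one (p : Ideal R) [hp : p.IsPrime] [hq : (p.homogeneousCore 𝒜).toIdeal.IsPrime] :
    (p.map (Ideal.Quotient.mk (p.homogeneousCore 𝒜).toIdeal)).height ≤ 1 := by
  have hle : (p.homogeneousCore 𝒜).toIdeal ≤ p := Ideal.toIdeal_homogeneousCore_le 𝒜 p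
  haveI := K760.CoreReg.map_isPrime 𝒜 p (p.homogeneousCore 𝒜) hle
  letI := quotGradedRing 𝒜 (p.homogeneousCore 𝒜)
  refine height_le_one_of_core_eq_bot (K760.Gr.quotGr 𝒜 (p.homogeneousCore 𝒜).toIdeal) _ ?_
  rintro _ d ⟨a, ha, rfl⟩ hap
  change Ideal.Quotient.mk (p.homogeneousCore 𝒜).toIdeal a = 0
  have h1 : a ∈ p := by
    rw [← K760.CoreReg.comap_map_eq 𝒜 p (p.homogeneousCore 𝒜) hle]
    exact hap
  rw [Ideal.Quotient.eq_zero_iff_mem]
  exact Ideal.mem_homogeneousCore_of_homogeneous_of_mem ⟨d, ha⟩ h1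

lemma not_le_core (p : Ideal R) (hp : ¬ p.IsHomogeneous 𝒜) : ¬ p ≤ (p.homogeneousCore 𝒜).toIdeal := by
  intro h
  apply hp
  have h1 : (p.homogeneousCore 𝒜).toIdeal = p := le_antisymm (Ideal.toIdeal_homogeneousCore_le 𝒜 p) h
  rw [← h1]
  exact (p.homogeneousCore 𝒜).isHomogeneous

theorem height_map_core_eq_one (p : Ideal R) [hp : p.IsPrime] [hq : (p.homogeneousCore 𝒜).toIdeal.IsPrime]
    (h : ¬ p.IsHomogeneous 𝒜) :
    (p.map (Ideal.Quotient.mk (p.homogeneousCore 𝒜).toIdeal)).height = 1 := by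
  have hle : (p.homogeneousCore 𝒜).toIdeal ≤ p := Ideal.toIdeal_homogeneousCore_le 𝒜 p
  haveI := K760.CoreReg.map_isPrime 𝒜 p (p.homogeneousCore 𝒜) hle
  refine le_antisymm (height_map_core_le_one 𝒜 p) ?_
  rw [Order.one_le_iff_pos, pos_iff_ne_zero]
  intro h0
  rw [Ideal.height_eq_zero_iff_eq_bot, Ideal.map_eq_bot_iff_le_ker, Ideal.mk_ker] at h0
  exact not_le_core 𝒜 p h h0

theorem height_eq_add_one (p : Ideal R) [hp : p.IsPrime] (h : ¬ p.IsHomogeneous 𝒜) :
    p.height = (p.homogeneousCore 𝒜).toIdeal.height + 1 := by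
  haveI := K823.GrOrder.isPrime_homogeneousCore 𝒜 p
  rw [K823.CoreHeight.height_eq_height_homogeneousCore_add 𝒜 p, height_map_core_eq_one 𝒜 p h]

/-- dimension of positively graded *local rings -/
theorem ringKrullDim_eq_height (hpos : ∀ n : ℤ, n < 0 → ∀ x ∈ 𝒜 n, x = 0) {m : HomogeneousIdeal 𝒜}
    (hm : GrLC.IsStarLocal 𝒜 m) : ringKrullDim R = m.toIdeal.height := by
  haveI hmax := StarLoc.isMaximal hpos hm
  refine le_antisymm ?_ (Ideal.height_le_ringKrullDim_of_ne_top hmax.ne_top)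
  rw [ringKrullDim_le_iff_height_le]
  intro p hp
  norm_cast
  by_cases h : p.IsHomogeneous 𝒜
  · exact Ideal.height_mono (StarLoc.le_of_isHomogeneous hm h hp.ne_top)
  · haveI := K823.GrOrder.isPrime_homogeneousCore 𝒜 p
    rw [height_eq_add_one 𝒜 p h]
    have h1 : (p.homogeneousCore 𝒜).toIdeal ≤ m.toIdeal :=
      StarLoc.le_of_isHomogeneous hm (p.homogeneousCore 𝒜).isHomogeneous this.ne_top
    refine Ideal.height_add_one_le_of_lt_of_isPrime (lt_of_le_of_ne h1 fun heq => ?_)
    have h2 : m.toIdeal ≤ p := heq ▸ Ideal.toIdeal_homogeneousCore_le 𝒜 p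
    have h3 := hmax.eq_of_le hp.ne_top h2
    exact h (h3 ▸ m.isHomogeneous)

end Main

end K761.CoreHt
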