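import Groth.Agent.GrLC.K763.CMvan
import Groth.Agent.GrLC.K761.CoreHt
import Groth.Agent.GrLC.K759.AcycInj

/-! # Vanishing of local cohomology of Cohen–Macaulay rings (seat 761) -/

set_option autoImplicit false
set_option linter.unusedSectionVars false
set_option linter.style.haveILetI false

universe u

open Groth.Agent Groth.Agent.Localalg IsLocalRing

namespace K761.CMVan

/-- `H^i_m(R) = 0` for `i < ht m`, `R` Cohen–Macaulay, `m` maximal. -/
theorem subsingleton_H_of_lt_height {R : Type u} [CommRing R] [LocCoh.IsCohenMacaulayRing R] (m : Ideal R)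
    [hmax : m.IsMaximal] {n : ℕ} (hn : m.height = n) {i : ℕ} (hi : i < n) :
    Subsingleton (LocCoh.H m i R) := by
  rw [K763.CMvan.subsingleton_H_iff_localization m R i]
  let e := Groth.Agent.Sga2.ExtLoc.ringEquiv (S := m.primeCompl)
  have hCM : LocCoh.IsCohenMacaulayLocalRing (Localization.AtPrime m) :=
    LocCoh.IsCohenMacaulayRing.isCohenMacaulayLocalRing_localization m
  have h1 : LocCoh.depth (Localization.AtPrime m) (Localization.AtPrime m) = (n : ℕ∞) := by
    have h2 := hCM.supportDim_eq_depth
    rw [Module.supportDim_self_eq_ringKrullDim, IsLocalization.AtPrime.ringKrullDim_eq_height m, hn] at h2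
    exact (WithBot.coe_injective h2).symm
  have h4 : Subsingleton (LocCoh.H (IsLocalRing.maximalIdeal (Localization.AtPrime m)) i
      (Localization.AtPrime m)) := by
    refine DepthLC.subsingleton_H_of_lt_idealDepth _ _ i ?_
    rw [show LocCoh.idealDepth (IsLocalRing.maximalIdeal (Localization.AtPrime m))
      (Localization.AtPrime m) = (n : ℕ∞) from h1]
    exact_mod_cast hi
  exact (LCBasic.Hequiv _ i e).toEquiv.subsingleton

/-- graded version -/
theorem Hcomp_eq_bot_of_lt_height {ι : Type} [AddCommGroup ι] [DecidableEq ι] {R : Type u} [CommRing R]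
    [LocCoh.IsCohenMacaulayRing R] {𝒜 : ι → AddSubgroup R} [GradedRing 𝒜] (m : HomogeneousIdeal 𝒜)
    [hmax : m.toIdeal.IsMaximal] {n : ℕ} (hn : m.toIdeal.height = n) (I : GrLC.StarInjRes 𝒜 𝒜) {i : ℕ}
    (hi : i < n) (k : ι) : I.Hcomp m i k = ⊥ := by
  obtain ⟨e⟩ := K759.AcycInj.nonempty_equiv I m i
  haveI := subsingleton_H_of_lt_height m.toIdeal hn hi
  haveI := e.toEquiv.subsingleton
  exact Subsingleton.elim _ _

end K761.CMVan
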