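import Groth.Agent.GrLC.K761.Free
import Groth.Agent.GrLC.K759.Prime

/-! # Dévissage of finitely generated graded modules (seat 761)

`main`: a property `P I X` (`I` an ideal killing the finitely generated graded module `X`) which is monotone
in `I`, closed under extensions (homogeneous maps), true for modules killed by `a` and which
passes from `X/yX` to `X` for `y ∈ a` homogeneous of an allowed degree and regular on `X`, holds for all
finitely generated graded modules. -/

set_option autoImplicit false
set_option linter.unusedSectionVars false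
set_option linter.style.haveILetI false
universe u

open DirectSum K761.Gr

namespace K761.Dev

variable {ι : Type} [AddCommGroup ι] [DecidableEq ι]
  {R : Type u} [CommRing R] {σ : Type u} [SetLike σ R] [AddSubgroupClass σ R] (𝒜 : ι → σ) [GradedRing 𝒜]

lemma mkQ_isGrHom {M : Type u} [AddCommGroup M] [Module R M] {τ : Type u} [SetLike τ M] [AddSubgroupClass τ M]
    (ℳ : ι → τ) (K : Submodule R M) : GrLC.IsGrHom ℳ (quoGr ℳ K) K.mkQ :=
  fun _ m hm => ⟨m, hm, rfl⟩

/-- Hypotheses of the dévissage. -/
structure Hyp (a : HomogeneousIdeal 𝒜) (D : ι → Prop) (P : Ideal R → GrLC.GMod.{u} 𝒜 → Prop) : Prop where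
  mono : ∀ {I J : Ideal R} (X : GrLC.GMod.{u} 𝒜), I ≤ J → P J X → P I X
  ext : ∀ (I : Ideal R) (A B C : GrLC.GMod.{u} 𝒜) (f : A.carrier →ₗ[R] B.carrier)
    (g : B.carrier →ₗ[R] C.carrier), Module.Finite R B.carrier → GrLC.IsGrHom A.gr B.gr f →
    GrLC.IsGrHom B.gr C.gr g → Function.Injective f → Function.Exact f g → Function.Surjective g →
    (∀ r ∈ I, ∀ x : B.carrier, r • x = 0) → P I A → P I C → P I B
  tors : ∀ (I : Ideal R) (X : GrLC.GMod.{u} 𝒜), Module.Finite R X.carrier →
    (∀ r ∈ a.toIdeal, ∀ x : X.carrier, r • x = 0) → P I X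
  reg : ∀ (q : Ideal R) (k : ι) (y : R) (X C : GrLC.GMod.{u} 𝒜) (g : X.carrier →ₗ[R] C.carrier),
    q.IsPrime → D k → y ∈ 𝒜 k → y ∈ a.toIdeal → y ∉ q → Module.Finite R X.carrier →
    (∀ r ∈ q, ∀ x : X.carrier, r • x = 0) → GrLC.IsGrHom X.gr C.gr g → Function.Surjective g →
    LinearMap.ker g = LinearMap.range (y • (LinearMap.id : X.carrier →ₗ[R] X.carrier)) →
    IsSMulRegular X.carrier y → P (q ⊔ Ideal.span {y}) C → P q X

theorem main [IsNoetherianRing R] [Module.Free ℤ ι] [Module.Finite ℤ ι] {a : HomogeneousIdeal 𝒜}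
    {D : ι → Prop} {P : Ideal R → GrLC.GMod.{u} 𝒜 → Prop} (h : Hyp 𝒜 a D P)
    (hgen : ∀ q : Ideal R, q.IsPrime → q.IsHomogeneous 𝒜 → ¬ a.toIdeal ≤ q →
      ∃ k, D k ∧ ∃ y ∈ 𝒜 k, y ∈ a.toIdeal ∧ y ∉ q) :
    ∀ (I : Ideal R) (X : GrLC.GMod.{u} 𝒜), Module.Finite R X.carrier →
      (∀ r ∈ I, ∀ x : X.carrier, r • x = 0) → P I X := by
  intro I
  induction I using WellFoundedGT.induction with
  | ind I ih =>
    intro X hfin hI
    haveI : IsNoetherian R X.carrier := isNoetherian_of_isNoetherianRing_of_finite R X.carrier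
    -- cyclic modules
    have hcyc : ∀ (L : GrLC.GMod.{u} 𝒜) (q : Ideal R) (z : L.carrier), q.IsPrime → q.IsHomogeneous 𝒜 →
        Submodule.span R {z} = ⊤ → (∀ r, r • z = 0 ↔ r ∈ q) → (∀ r ∈ I, ∀ x : L.carrier, r • x = 0) →
        P I L := by
      intro L q z hq hqh hz hann hIL
      haveI : Module.Finite R L.carrier := ⟨⟨{z}, by simpa using hz⟩⟩
      have hqL : ∀ r ∈ q, ∀ x : L.carrier, r • x = 0 := by
        intro r hr x
        have hx : x ∈ Submodule.span R {z} := hz ▸ trivial
        obtain ⟨s, rfl⟩ := Submodule.mem_span_singleton.1 hx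
        rw [smul_comm, (hann r).2 hr, smul_zero]
      have hIq : I ≤ q := fun r hr => (hann r).1 (hIL r hr z)
      rcases lt_or_eq_of_le hIq with hlt | heq
      · exact h.mono L hIq (ih q hlt L inferInstance hqL)
      · by_cases haq : a.toIdeal ≤ q
        · exact h.tors I L inferInstance fun r hr x => hqL r (haq hr) x
        · obtain ⟨k, hk, y, hy, hya, hyq⟩ := hgen q hq hqh haq
          have hrh : (LinearMap.range (y • (LinearMap.id : L.carrier →ₗ[R] L.carrier))).IsHomogeneous L.gr :=
            range_isHomogeneous_deg (d := k) (fun g m hm => by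
              rw [LinearMap.smul_apply, LinearMap.id_apply, add_comm]
              exact smul_mem hy hm)
          have hreg : IsSMulRegular L.carrier y := by
            rw [isSMulRegular_iff_right_eq_zero_of_smul]
            intro x hx
            have hx' : x ∈ Submodule.span R {z} := hz ▸ trivial
            obtain ⟨s, rfl⟩ := Submodule.mem_span_singleton.1 hx'
            rw [smul_smul, hann] at hx
            rw [hann]
            exact (hq.mem_or_mem hx).resolve_left hyq
          rw [heq]
          refine h.reg q k y L (quoMod 𝒜 L.gr hrh)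
            (LinearMap.range (y • (LinearMap.id : L.carrier →ₗ[R] L.carrier))).mkQ hq hk hy hya hyq
            inferInstance hqL (fun n m hm => ⟨m, hm, rfl⟩) (Submodule.mkQ_surjective _)
            (Submodule.ker_mkQ _) hreg ?_
          have hlt : I < q ⊔ Ideal.span {y} := by
            rw [heq]
            refine lt_of_le_of_ne le_sup_left fun h => hyq ?_
            rw [h]
            exact Ideal.mem_sup_right (Ideal.mem_span_singleton_self y)
          refine ih _ hlt _ ?_ ?_
          · change Module.Finite R (L.carrier ⧸ LinearMap.range (y • (LinearMap.id : L.carrier →ₗ[R] L.carrier)))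
            infer_instance
          · intro r hr x
            obtain ⟨x, rfl⟩ := Submodule.mkQ_surjective
              (LinearMap.range (y • (LinearMap.id : L.carrier →ₗ[R] L.carrier))) x
            obtain ⟨s, hs, t, ht, rfl⟩ := Submodule.mem_sup.1 hr
            obtain ⟨t, rfl⟩ := Ideal.mem_span_singleton'.1 ht
            have key : (LinearMap.range (y • (LinearMap.id : L.carrier →ₗ[R] L.carrier))).mkQ
                ((s + t * y) • x) = 0 := by
              refine (Submodule.Quotient.mk_eq_zero _).2 ?_
              rw [add_smul, hqL s hs, zero_add, mul_comm, mul_smul]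
              exact ⟨t • x, rfl⟩
            rw [map_smul] at key
            exact key
    -- the filtration argument
    let S : Set (Submodule R X.carrier) :=
      {K | ∃ hK : K.IsHomogeneous X.gr, P I (subMod 𝒜 X.gr hK)}
    have hbot : (⊥ : Submodule R X.carrier) ∈ S := by
      refine ⟨fun i x hx => ?_, ?_⟩
      · have hx : x = 0 := hx
        rw [hx, decompose_zero]
        exact zero_mem _
      · refine h.tors I _ ?_ ?_
        · change Module.Finite R (⊥ : Submodule R X.carrier)
          infer_instance
        · rintro r _ ⟨x, hx⟩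
          refine Subtype.ext ?_
          change r • x = 0
          rw [(Submodule.mem_bot R).1 hx, smul_zero]
    obtain ⟨K, hKmax⟩ := WellFounded.has_min (wellFounded_gt (α := Submodule R X.carrier)) S ⟨⊥, hbot⟩
    obtain ⟨⟨hK, hPK⟩, hmax⟩ := hKmax
    have htop : K = ⊤ := by
      by_contra hne
      letI := quoDec X.gr hK
      letI := quoGSMul 𝒜 X.gr K
      haveI : Nontrivial (X.carrier ⧸ K) := Submodule.Quotient.nontrivial_iff.2 hne
      obtain ⟨q, n, z, hq, hz, hz0, hann⟩ :=
        K759.Prime.exists_annihilator_isPrime (𝒜 := 𝒜) (M := X.carrier ⧸ K) (quoGr X.gr K)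
      have hann' : ∀ r : R, r • z = 0 ↔ r ∈ q.toIdeal := by
        intro r
        rw [← hann, Submodule.mem_annihilator_span_singleton]
      -- `L = R z`
      let L : Submodule R (X.carrier ⧸ K) := Submodule.span R {z}
      have hL : L.IsHomogeneous (quoGr X.gr K) := by
        intro i x hx
        obtain ⟨r, rfl⟩ := Submodule.mem_span_singleton.1 hx
        refine Submodule.mem_span_singleton.2 ⟨pr 𝒜 (i - n) r, ?_⟩
        have := pr_smul_right 𝒜 (quoGr X.gr K) r hz (i - n)
        rw [sub_add_cancel] at this
        exact this.symm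
      let K' : Submodule R X.carrier := L.comap K.mkQ
      have hK' : K'.IsHomogeneous X.gr := by
        intro i x hx
        change K.mkQ (pr X.gr i x) ∈ L
        rw [← pr_map (ℳ := X.gr) (ℳ' := quoGr X.gr K) (f := K.mkQ) (mkQ_isGrHom X.gr K)]
        exact hL i hx
      have hKK' : K ≤ K' := by
        intro x hx
        change K.mkQ x ∈ L
        rw [(Submodule.Quotient.mk_eq_zero K).2 hx |> fun h => (h : K.mkQ x = 0)]
        exact zero_mem _
      have hPL : P I (subMod 𝒜 (quoGr X.gr K) hL) := by
        refine hcyc _ q.toIdeal (⟨z, Submodule.mem_span_singleton_self z⟩ : L) hq q.isHomogeneous ?_ ?_ ?_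
        · rw [eq_top_iff]
          rintro ⟨x, hx⟩ -
          obtain ⟨r, rfl⟩ := Submodule.mem_span_singleton.1 hx
          exact Submodule.mem_span_singleton.2 ⟨r, rfl⟩
        · intro r
          rw [← hann']
          exact Subtype.ext_iff
        · rintro r hr ⟨x, hx⟩
          refine Subtype.ext ?_
          change r • x = 0
          obtain ⟨x, rfl⟩ := Submodule.mkQ_surjective K x
          rw [← map_smul, hI r hr, map_zero]
      have hPK' : P I (subMod 𝒜 X.gr hK') := by
        refine h.ext I (subMod 𝒜 X.gr hK) (subMod 𝒜 X.gr hK') (subMod 𝒜 (quoGr X.gr K) hL)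
          (Submodule.inclusion hKK') (K.mkQ.restrict (p := K') (q := L) fun x hx => hx) ?_ ?_ ?_ ?_ ?_ ?_ ?_
          hPK hPL
        · change Module.Finite R K'
          infer_instance
        · intro n x hx
          exact hx
        · rintro n ⟨x, hx'⟩ hx
          exact ⟨x, hx, rfl⟩
        · exact Submodule.inclusion_injective hKK'
        · rintro ⟨x, hx⟩
          constructor
          · intro h0
            have h1 : K.mkQ x = 0 := congrArg Subtype.val h0
            exact ⟨⟨x, (Submodule.Quotient.mk_eq_zero K).1 h1⟩, rfl⟩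
          · rintro ⟨⟨w, hw⟩, hwx⟩
            have h1 : w = x := congrArg Subtype.val hwx
            subst h1
            exact Subtype.ext ((Submodule.Quotient.mk_eq_zero K).2 hw)
        · rintro ⟨x, hx⟩
          obtain ⟨w, rfl⟩ := Submodule.mkQ_surjective K x
          exact ⟨⟨w, hx⟩, rfl⟩
        · rintro r hr ⟨x, hx⟩
          exact Subtype.ext (hI r hr x)
      have hlt : K < K' := by
        refine lt_of_le_of_ne hKK' fun heq => hz0 ?_
        obtain ⟨w, rfl⟩ := Submodule.mkQ_surjective K z
        have : w ∈ K' := Submodule.mem_span_singleton_self _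
        rw [← heq] at this
        exact (Submodule.Quotient.mk_eq_zero K).2 this
      exact hmax K' ⟨hK', hPK'⟩ hlt
    subst htop
    have hb : ((⊥ : Submodule R X.carrier)).IsHomogeneous X.gr := hbot.1
    refine h.ext I (subMod 𝒜 X.gr hK) X (subMod 𝒜 X.gr hb) (Submodule.subtype ⊤)
      (0 : X.carrier →ₗ[R] (⊥ : Submodule R X.carrier)) hfin (fun n x hx => hx)
      (fun n x hx => zero_mem ((subMod 𝒜 X.gr hb).gr n)) (Submodule.injective_subtype _) ?_ ?_ hI hPK hbot.2
    · intro x
      exact ⟨fun _ => ⟨⟨x, trivial⟩, rfl⟩, fun _ => rfl⟩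
    · rintro ⟨x, hx⟩
      exact ⟨0, Subtype.ext ((Submodule.mem_bot R).1 hx).symm⟩

end K761.Dev
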