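import Groth.Agent.GrLC.K761.RegGen
import Groth.Agent.GrLC.K763.GrField
import Mathlib.RingTheory.KrullDimension.NonZeroDivisors

/-! # `a(R) = -dim R` over a field (seat 761) -/

set_option autoImplicit false
set_option linter.unusedSectionVars false
set_option linter.style.haveILetI false

universe u

open DirectSum K761.Gr GrLC K963.Iface K761.Len MvPolynomial

namespace K761.FieldPoly

section Len

variable {R : Type u} [CommRing R] [IsNoetherianRing R] {𝒜 : ℤ → AddSubgroup R} [GradedRing 𝒜]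
  [IsArtinianRing (GrLC.deg0 𝒜)]

/-- `R₀` as a module over itself -/
noncomputable def zeroEquiv : comp 𝒜 𝒜 0 ≃ₗ[GrLC.deg0 𝒜] GrLC.deg0 𝒜 where
  toFun x := ⟨x, x.2⟩
  invFun x := ⟨x, x.2⟩
  map_add' _ _ := rfl
  map_smul' _ _ := rfl
  left_inv _ := rfl
  right_inv _ := rfl

lemma length_zero_ne_top : Module.length (GrLC.deg0 𝒜) (GrLC.deg0 𝒜) ≠ ⊤ := by
  rw [← (zeroEquiv (𝒜 := 𝒜)).length_eq]
  exact Module.length_ne_top_iff.2 (HilbStd.fl_comp 𝒜 𝒜 0)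

lemma length_eq_iff (d n : ℕ) : Module.length (GrLC.deg0 𝒜) (comp 𝒜 𝒜 (n : ℤ)) =
      (Nat.multichoose d n : ℕ∞) * Module.length (GrLC.deg0 𝒜) (GrLC.deg0 𝒜) ↔
    len (GrLC.deg0 𝒜) (comp 𝒜 𝒜 (n : ℤ)) =
      len (GrLC.deg0 𝒜) (comp 𝒜 𝒜 0) * (Nat.multichoose d n : ℚ) := by
  have h1 := ENat.natCast_toNat (Module.length_ne_top_iff.2 (HilbStd.fl_comp 𝒜 𝒜 (n : ℤ)))
  have h2 := ENat.natCast_toNat (length_zero_ne_top (𝒜 := 𝒜))
  rw [len, len, (zeroEquiv (𝒜 := 𝒜)).length_eq, ← h1, ← h2]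
  norm_cast
  rw [mul_comm, ENat.toNat_natCast, ENat.toNat_natCast]

end Len

section Field

variable {R : Type u} [CommRing R] [LocCoh.IsCohenMacaulayRing R] {𝒜 : ℤ → AddSubgroup R} [GradedRing 𝒜]
  (hpos : ∀ n : ℤ, n < 0 → 𝒜 n = ⊥) (h0 : IsField (GrLC.deg0 𝒜))
  (hstd : Ideal.span (⋃ n ∈ Set.Ioi (0 : ℤ), (𝒜 n : Set R)) = Ideal.span ((𝒜 1 : AddSubgroup R) : Set R))
  {m : HomogeneousIdeal 𝒜} (hm : GrLC.IsStarLocal 𝒜 m)
  (hmsp : m.toIdeal = Ideal.span (⋃ n ∈ Set.Ioi (0 : ℤ), (𝒜 n : Set R)))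
  {r : ℕ} (hr : ringKrullDim R = r) (I : StarInjRes 𝒜 𝒜)

include h0 in
lemma isArtinianRing : IsArtinianRing (GrLC.deg0 𝒜) := by
  letI : Field (GrLC.deg0 𝒜) := h0.toField
  exact inferInstance

include hpos h0 hstd hm hr in
theorem nonempty_ringEquiv (ha : GrLC.endDeg (I.Hgr m r) = (((-(r : ℤ) : ℤ) : WithTop ℤ) : WithBot (WithTop ℤ))) :
    Nonempty (R ≃+* MvPolynomial (Fin r) (GrLC.deg0 𝒜)) := by
  haveI := isArtinianRing h0
  have hlen : ∀ n : ℕ, Module.length (GrLC.deg0 𝒜) (comp 𝒜 𝒜 (n : ℤ)) =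
      (Nat.multichoose r n : ℕ∞) * Module.length (GrLC.deg0 𝒜) (GrLC.deg0 𝒜) := fun n =>
    (length_eq_iff r n).2 (AInv.len_comp_eq hpos hstd hm hr I ha n)
  obtain ⟨x, hx, hgen⟩ : ∃ x : Fin r → R, (∀ i, x i ∈ 𝒜 1) ∧
      ∀ y ∈ 𝒜 1, y ∈ Submodule.span (GrLC.deg0 𝒜) (Set.range x) := by
    letI : Field (GrLC.deg0 𝒜) := h0.toField
    haveI : IsNoetherian (GrLC.deg0 𝒜) (comp 𝒜 𝒜 1) := Art.isNoetherian_piece 𝒜 𝒜 (comp 𝒜 𝒜 1) fun x hx => hx
    haveI : Module.Finite (GrLC.deg0 𝒜) (comp 𝒜 𝒜 1) := Module.IsNoetherian.finite _ _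
    have h1 : Module.finrank (GrLC.deg0 𝒜) (comp 𝒜 𝒜 1) = r := by
      have h2 := hlen 1
      rw [Nat.multichoose_one_right] at h2
      have h3 : Module.length (GrLC.deg0 𝒜) (comp 𝒜 𝒜 1) = Module.finrank (GrLC.deg0 𝒜) (comp 𝒜 𝒜 1) :=
        Module.length_eq_finrank _ _
      have h4 : Module.length (GrLC.deg0 𝒜) (GrLC.deg0 𝒜) = 1 := by
        rw [Module.length_eq_finrank, Module.finrank_self]; rfl
      have h5 : Module.length (GrLC.deg0 𝒜) (comp 𝒜 𝒜 1) = r := by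
        have h6 : Module.length (GrLC.deg0 𝒜) (comp 𝒜 𝒜 1) =
          (r : ℕ∞) * Module.length (GrLC.deg0 𝒜) (GrLC.deg0 𝒜) := h2
        rw [h6, h4, mul_one]
      rw [h3] at h5
      exact_mod_cast h5
    let b := Module.finBasisOfFinrankEq (GrLC.deg0 𝒜) (comp 𝒜 𝒜 1) h1
    refine ⟨fun i => (b i : R), fun i => (b i).2, fun y hy => ?_⟩
    have h2 : (⟨y, hy⟩ : comp 𝒜 𝒜 1) ∈ Submodule.span (GrLC.deg0 𝒜) (Set.range b) := by
      rw [b.span_eq]; trivial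
    have h3 := Submodule.mem_map_of_mem (f := (comp 𝒜 𝒜 1).subtype) h2
    rw [Submodule.map_span, ← Set.range_comp] at h3
    exact h3
  obtain ⟨e, -⟩ := PolyAlg.exists_algEquiv hx hpos hstd hgen length_zero_ne_top hlen
  exact ⟨e.symm.toRingEquiv⟩

include hpos h0 hstd hm hmsp hr in
theorem endDeg_eq_of_ringEquiv (e : R ≃+* MvPolynomial (Fin r) (GrLC.deg0 𝒜)) :
    GrLC.endDeg (I.Hgr m r) = (((-(r : ℤ) : ℤ) : WithTop ℤ) : WithBot (WithTop ℤ)) := by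
  haveI := isArtinianRing h0
  haveI hmax : m.toIdeal.IsMaximal := StarLoc.isMaximal (HilbStd.hpos' hpos) hm
  have hm0 : ∀ z, z ∈ m.toIdeal ↔ pr 𝒜 0 z = 0 := by
    intro z
    constructor
    · intro hz
      exact K763.GrField.decompose_zero_eq_zero 𝒜 hpos hmsp hz
    · intro hz
      have := K763.GrField.sub_zero_mem 𝒜 hpos hmsp z
      have h2 : (decompose 𝒜 z 0 : R) = 0 := hz
      rwa [h2, sub_zero] at this
  have hht : m.toIdeal.height = r := by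
    have h := CoreHt.ringKrullDim_eq_height 𝒜 (HilbStd.hpos' hpos) hm
    rw [hr] at h
    exact (WithBot.coe_injective h).symm
  haveI hreg : IsRegularRing (MvPolynomial (Fin r) (GrLC.deg0 𝒜)) := by
    letI : Field (GrLC.deg0 𝒜) := h0.toField
    infer_instance
  haveI hregR : IsRegularRing R := IsRegularRing.of_ringEquiv e.symm
  obtain ⟨x, hx, hgen⟩ := RegGen.exists_span hpos h0 hm0 hht
  have hsurj := PolyAlg.surjective_aeval hx hpos hstd hgen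
  have hinj : Function.Injective (aeval x : MvPolynomial (Fin r) (GrLC.deg0 𝒜) →ₐ[GrLC.deg0 𝒜] R) := by
    rw [injective_iff_map_eq_zero]
    intro f hf
    by_contra hf0
    haveI hdom : IsDomain (GrLC.deg0 𝒜) := h0.isDomain
    have h1 := ringKrullDim_succ_le_of_surjective
      (aeval x : MvPolynomial (Fin r) (GrLC.deg0 𝒜) →ₐ[GrLC.deg0 𝒜] R).toRingHom hsurj
      (mem_nonZeroDivisors_of_ne_zero hf0) hf
    have h2 : ringKrullDim (GrLC.deg0 𝒜) = 0 := by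
      letI : Field (GrLC.deg0 𝒜) := h0.toField
      exact ringKrullDim_eq_zero_of_field _
    rw [MvPolynomial.ringKrullDim_of_isNoetherianRing, h2, hr, Nat.card_eq_fintype_card, Fintype.card_fin,
      zero_add] at h1
    have h3 : r + 1 ≤ r := by exact_mod_cast h1
    omega
  exact AInv.endDeg_eq hpos hstd hm hr I fun n => (length_eq_iff r n).1 (PolyAlg.length_comp hx hstd hgen hinj n)

end Field

end K761.FieldPoly
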