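import Groth.Agent.GrLC.K761.Gr

/-! # Constructing gradings from projections; submodules, shifts, quotients (seat 761) -/

set_option autoImplicit false
set_option linter.unusedSectionVars false
universe u

open DirectSum

namespace K761.Gr

section OfProj

variable {ι : Type} [DecidableEq ι] {N : Type u} [AddCommGroup N]

theorem isInternal_of_proj (𝒩 : ι → AddSubgroup N) (q : ι → N →+ N)
    (h1 : ∀ i x, x ∈ 𝒩 i → q i x = x) (h2 : ∀ i j x, x ∈ 𝒩 i → i ≠ j → q j x = 0)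
    (h3 : ∀ x, ∃ s : Finset ι, (∀ i ∈ s, q i x ∈ 𝒩 i) ∧ ∑ i ∈ s, q i x = x) :
    DirectSum.IsInternal 𝒩 := by
  have key : ∀ (i : ι) (y : ⨁ i, 𝒩 i), q i (DirectSum.coeAddMonoidHom 𝒩 y) = (y i : N) := by
    intro i y
    induction y using DirectSum.induction_on with
    | zero => simp
    | of j x =>
      rw [DirectSum.coeAddMonoidHom_of]
      by_cases h : j = i
      · subst h
        rw [h1 _ _ x.2, DirectSum.of_eq_same]
      · rw [h2 _ _ _ x.2 h, DirectSum.of_eq_of_ne _ _ _ (Ne.symm h)]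
        rfl
    | add x y hx hy => rw [map_add, map_add, hx, hy]; rfl
  constructor
  · intro x y hxy
    refine DFinsupp.ext fun i => Subtype.ext ?_
    rw [← key, ← key, hxy]
  · intro x
    obtain ⟨s, hs, hsum⟩ := h3 x
    refine ⟨∑ i ∈ s.attach, DirectSum.of (fun i => 𝒩 i) i.1 ⟨q i.1 x, hs i.1 i.2⟩, ?_⟩
    rw [map_sum]
    simp only [DirectSum.coeAddMonoidHom_of]
    rw [Finset.sum_attach s (fun i => q i x), hsum]

/-- Decomposition from additive projections. -/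
@[instance_reducible]
noncomputable def decOfProj (𝒩 : ι → AddSubgroup N) (q : ι → N →+ N)
    (h1 : ∀ i x, x ∈ 𝒩 i → q i x = x) (h2 : ∀ i j x, x ∈ 𝒩 i → i ≠ j → q j x = 0)
    (h3 : ∀ x, ∃ s : Finset ι, (∀ i ∈ s, q i x ∈ 𝒩 i) ∧ ∑ i ∈ s, q i x = x) :
    Decomposition 𝒩 := (isInternal_of_proj 𝒩 q h1 h2 h3).chooseDecomposition

lemma pr_eq_of_proj (𝒩 : ι → AddSubgroup N) [Decomposition 𝒩] (q : ι → N →+ N)
    (h1 : ∀ i x, x ∈ 𝒩 i → q i x = x) (h2 : ∀ i j x, x ∈ 𝒩 i → i ≠ j → q j x = 0) (i : ι) (x : N) :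
    pr 𝒩 i x = q i x := by
  induction x using induction 𝒩 with
  | h0 => simp
  | hadd a b ha hb => rw [map_add, map_add, ha, hb]
  | hom j m hm =>
    by_cases h : j = i
    · subst h
      rw [pr_of_mem hm, h1 _ _ hm]
    · rw [pr_of_mem_ne hm h, h2 _ _ _ hm h]

end OfProj

section Sub

variable {ι : Type} [DecidableEq ι]
  {R : Type u} [CommRing R]
  {M : Type u} [AddCommGroup M] [Module R M] {τ : Type u} [SetLike τ M] [AddSubgroupClass τ M]
  (ℳ : ι → τ) [Decomposition ℳ]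

lemma mem_of_isHomogeneous {K : Submodule R M} (hK : K.IsHomogeneous ℳ) {x : M} (hx : x ∈ K) (i : ι) :
    pr ℳ i x ∈ K := hK i hx

lemma isHomogeneous_iff {K : Submodule R M} : K.IsHomogeneous ℳ ↔ ∀ (i : ι), ∀ x ∈ K, pr ℳ i x ∈ K :=
  ⟨fun h i _ hx => h i hx, fun h i _ hx => h i _ hx⟩

/-- pieces of a submodule -/
def subGr (K : Submodule R M) (i : ι) : AddSubgroup K :=
  (AddSubgroup.ofClass (ℳ i)).comap K.subtype.toAddMonoidHom

lemma mem_subGr {K : Submodule R M} {i : ι} {x : K} : x ∈ subGr ℳ K i ↔ (x : M) ∈ ℳ i := Iff.rfl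

/-- projections on a homogeneous submodule -/
def subPr {K : Submodule R M} (hK : K.IsHomogeneous ℳ) (i : ι) : K →+ K where
  toFun x := ⟨pr ℳ i x, hK i x.2⟩
  map_zero' := by ext; simp
  map_add' x y := by ext; simp

@[instance_reducible]
noncomputable def subDec {K : Submodule R M} (hK : K.IsHomogeneous ℳ) : Decomposition (subGr ℳ K) :=
  decOfProj (subGr ℳ K) (subPr ℳ hK)
    (fun _ _ hx => Subtype.ext (pr_of_mem hx))
    (fun _ _ _ hx hij => Subtype.ext (pr_of_mem_ne hx hij))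
    (fun x => by
      obtain ⟨s, _, hs⟩ := exists_sum_pr ℳ (x : M)
      refine ⟨s, fun i _ => pr_mem ℳ i _, Subtype.ext ?_⟩
      rw [AddSubmonoidClass.coe_finsetSum]
      exact hs s subset_rfl)

/-- pieces of a quotient -/
def quoGr (K : Submodule R M) (i : ι) : AddSubgroup (M ⧸ K) :=
  (AddSubgroup.ofClass (ℳ i)).map K.mkQ.toAddMonoidHom

lemma mem_quoGr {K : Submodule R M} {i : ι} {x : M ⧸ K} :
    x ∈ quoGr ℳ K i ↔ ∃ m : M, m ∈ ℳ i ∧ K.mkQ m = x := Iff.rfl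

/-- projections on a quotient -/
def quoPr {K : Submodule R M} (hK : K.IsHomogeneous ℳ) (i : ι) : (M ⧸ K) →+ (M ⧸ K) :=
  QuotientAddGroup.map K.toAddSubgroup K.toAddSubgroup (pr ℳ i) (fun _ hx => hK i hx)

lemma quoPr_mk {K : Submodule R M} (hK : K.IsHomogeneous ℳ) (i : ι) (m : M) :
    quoPr ℳ hK i (K.mkQ m) = K.mkQ (pr ℳ i m) := rfl

@[instance_reducible]
noncomputable def quoDec {K : Submodule R M} (hK : K.IsHomogeneous ℳ) : Decomposition (quoGr ℳ K) :=
  decOfProj (quoGr ℳ K) (quoPr ℳ hK)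
    (fun i x hx => by
      obtain ⟨m, hm, rfl⟩ := hx
      change quoPr ℳ hK i (K.mkQ m) = K.mkQ m
      rw [quoPr_mk, pr_of_mem hm])
    (fun i j x hx hij => by
      obtain ⟨m, hm, rfl⟩ := hx
      change quoPr ℳ hK j (K.mkQ m) = 0
      rw [quoPr_mk, pr_of_mem_ne hm hij, map_zero])
    (fun x => by
      obtain ⟨m, rfl⟩ := K.mkQ_surjective x
      obtain ⟨s, _, hs⟩ := exists_sum_pr ℳ m
      refine ⟨s, fun i _ => ⟨pr ℳ i m, pr_mem ℳ i _, rfl⟩, ?_⟩
      simp only [quoPr_mk]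
      rw [← map_sum, hs s subset_rfl])

end Sub

section SubMod

variable {ι : Type} [AddCommGroup ι] [DecidableEq ι]
  {R : Type u} [CommRing R] {σ : Type u} [SetLike σ R] [AddSubgroupClass σ R] (𝒜 : ι → σ) [GradedRing 𝒜]
  {M : Type u} [AddCommGroup M] [Module R M] {τ : Type u} [SetLike τ M] [AddSubgroupClass τ M]
  (ℳ : ι → τ) [Decomposition ℳ] [SetLike.GradedSMul 𝒜 ℳ]

lemma subGSMul (K : Submodule R M) : SetLike.GradedSMul 𝒜 (subGr ℳ K) where
  smul_mem {_ _ _ _} hr hm := SetLike.GradedSMul.smul_mem (A := 𝒜) (B := ℳ) hr hm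

lemma quoGSMul (K : Submodule R M) : SetLike.GradedSMul 𝒜 (quoGr ℳ K) where
  smul_mem {i j r x} hr hx := by
    obtain ⟨m, hm, rfl⟩ := hx
    exact ⟨r • m, SetLike.GradedSMul.smul_mem (A := 𝒜) (B := ℳ) hr hm, rfl⟩

/-- A homogeneous submodule as a bundled graded module -/
noncomputable def subMod {K : Submodule R M} (hK : K.IsHomogeneous ℳ) : GrLC.GMod.{u} 𝒜 :=
  letI := subDec ℳ hK
  letI := subGSMul 𝒜 ℳ K
  { carrier := K, gr := subGr ℳ K }

/-- A quotient by a homogeneous submodule as a bundled graded module -/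
noncomputable def quoMod {K : Submodule R M} (hK : K.IsHomogeneous ℳ) : GrLC.GMod.{u} 𝒜 :=
  letI := quoDec ℳ hK
  letI := quoGSMul 𝒜 ℳ K
  { carrier := M ⧸ K, gr := quoGr ℳ K }

end SubMod

section Shift

variable {ι : Type} [AddCommGroup ι] [DecidableEq ι]
  {R : Type u} [CommRing R] {σ : Type u} [SetLike σ R] [AddSubgroupClass σ R] (𝒜 : ι → σ) [GradedRing 𝒜]
  {M : Type u} [AddCommGroup M] [Module R M] {τ : Type u} [SetLike τ M] [AddSubgroupClass τ M]
  (ℳ : ι → τ) [Decomposition ℳ] [SetLike.GradedSMul 𝒜 ℳ]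

/-- pieces moved: `(shiftGr ℳ d) n = ℳ (n - d)`. -/
def shiftGr (d : ι) (n : ι) : AddSubgroup M := AddSubgroup.ofClass (ℳ (n - d))

lemma mem_shiftGr {d n : ι} {m : M} : m ∈ shiftGr ℳ d n ↔ m ∈ ℳ (n - d) := Iff.rfl

@[instance_reducible]
noncomputable def shiftDec (d : ι) : Decomposition (shiftGr ℳ d) :=
  decOfProj (shiftGr ℳ d) (fun n => pr ℳ (n - d))
    (fun _ _ hx => pr_of_mem hx)
    (fun _ _ _ hx hij => pr_of_mem_ne hx (by simpa using hij))
    (fun x => by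
      obtain ⟨s, _, hs⟩ := exists_sum_pr ℳ x
      refine ⟨s.image (· + d), fun i _ => pr_mem ℳ _ _, ?_⟩
      rw [Finset.sum_image (fun a _ b _ h => by simpa using h)]
      simpa using hs s subset_rfl)

omit [Decomposition ℳ] in
lemma shiftGSMul (d : ι) : SetLike.GradedSMul 𝒜 (shiftGr ℳ d) where
  smul_mem {i j r m} hr hm := by
    have := SetLike.GradedSMul.smul_mem (A := 𝒜) (B := ℳ) hr (show m ∈ ℳ (j - d) from hm)
    rw [vadd_eq_add] at this
    change r • m ∈ ℳ (i + j - d)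
    rwa [add_sub_assoc]

/-- the shift as a bundled graded module -/
noncomputable def shiftMod (d : ι) : GrLC.GMod.{u} 𝒜 :=
  letI := shiftDec ℳ d
  letI := shiftGSMul 𝒜 ℳ d
  { carrier := M, gr := shiftGr ℳ d }

end Shift

section Fin

variable {ι : Type} [AddCommGroup ι] [DecidableEq ι]
  {R : Type u} [CommRing R] {σ : Type u} [SetLike σ R] [AddSubgroupClass σ R] (𝒜 : ι → σ) [GradedRing 𝒜]
  {M : Type u} [AddCommGroup M] [Module R M] {τ : Type u} [SetLike τ M] [AddSubgroupClass τ M]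
  (ℳ : ι → τ) [Decomposition ℳ] [SetLike.GradedSMul 𝒜 ℳ]
  {N : Type u} [AddCommGroup N] [Module R N] {τ' : Type u} [SetLike τ' N] [AddSubgroupClass τ' N]
  (𝒩 : ι → τ') [Decomposition 𝒩] [SetLike.GradedSMul 𝒜 𝒩]

variable (R) in
lemma exists_homogeneous_span [Module.Finite R M] :
    ∃ S : Finset M, (∀ s ∈ S, ∃ n, s ∈ ℳ n) ∧ Submodule.span R (S : Set M) = ⊤ := by
  classical
  obtain ⟨T, hT⟩ := Module.Finite.fg_top (R := R) (M := M)
  refine ⟨T.biUnion fun m => (decompose ℳ m).support.image fun i => pr ℳ i m, ?_, ?_⟩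
  · intro s hs
    simp only [Finset.mem_biUnion, Finset.mem_image] at hs
    obtain ⟨m, _, i, _, rfl⟩ := hs
    exact ⟨i, pr_mem ℳ i m⟩
  · rw [eq_top_iff, ← hT, Submodule.span_le]
    intro m hm
    rw [SetLike.mem_coe, ← sum_pr ℳ m]
    refine Submodule.sum_mem _ fun i hi => Submodule.subset_span ?_
    simp only [Finset.coe_biUnion, Set.mem_iUnion, Finset.coe_image]
    exact ⟨m, hm, i, by simpa using hi, rfl⟩

/-- A linear map out of a finitely generated graded module is a finite sum of homogeneous ones. -/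
theorem exists_finset_homPr [Module.Finite R M] (f : M →ₗ[R] N) :
    ∃ D : Finset ι, (∀ d, d ∉ D → homPr 𝒜 ℳ 𝒩 f d = 0) ∧
      ∀ D' : Finset ι, D ⊆ D' → ∑ d ∈ D', homPr 𝒜 ℳ 𝒩 f d = f := by
  classical
  obtain ⟨S, hS, hspan⟩ := exists_homogeneous_span R ℳ
  choose! deg hdeg using hS
  let D : Finset ι := S.biUnion fun s => (decompose 𝒩 (f s)).support.image fun k => k - deg s
  have hD : ∀ s ∈ S, ∀ d, d ∉ D → homPr 𝒜 ℳ 𝒩 f d s = 0 := by
    intro s hs d hd
    rw [homPr_of_mem 𝒜 ℳ 𝒩 f d (hdeg s hs)]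
    by_contra hne
    apply hd
    simp only [D, Finset.mem_biUnion, Finset.mem_image]
    refine ⟨s, hs, deg s + d, ?_, by abel⟩
    rw [DFinsupp.mem_support_iff]
    intro h0
    apply hne
    rw [pr_def, h0]; rfl
  refine ⟨D, fun d hd => ?_, fun D' hD' => ?_⟩
  · refine LinearMap.ext_on hspan fun s hs => ?_
    rw [hD s hs d hd]; rfl
  · refine LinearMap.ext_on hspan fun s hs => ?_
    rw [LinearMap.sum_apply]
    obtain ⟨t, ht, hsum⟩ := exists_sum_pr 𝒩 (f s)
    have h1 : ∑ d ∈ D', homPr 𝒜 ℳ 𝒩 f d s = ∑ d ∈ D' ∪ t.image (fun k => k - deg s),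
        homPr 𝒜 ℳ 𝒩 f d s := by
      refine Finset.sum_subset Finset.subset_union_left fun d _ hd => ?_
      exact hD s hs d fun h => hd (hD' h)
    rw [h1]
    have h2 : ∀ d, homPr 𝒜 ℳ 𝒩 f d s = pr 𝒩 (deg s + d) (f s) := fun d =>
      homPr_of_mem 𝒜 ℳ 𝒩 f d (hdeg s hs)
    simp only [h2]
    rw [← Finset.sum_image (f := fun k => pr 𝒩 k (f s)) (g := fun d => deg s + d)
      (fun a _ b _ h => by simpa using h)]
    refine hsum _ ?_
    intro k hk
    rw [Finset.mem_image]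
    refine ⟨k - deg s, Finset.mem_union_right _ (Finset.mem_image_of_mem _ hk), by abel⟩

end Fin

end K761.Gr
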