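import Mathlib.RingTheory.Length
import Mathlib.RingTheory.Artinian.Module
import Mathlib.RingTheory.Noetherian.Basic
import Mathlib.Data.Rat.Cast.Defs
import Mathlib.Algebra.Ring.Rat
import Mathlib.Tactic.LinearCombination
import Mathlib.Algebra.BigOperators.Group.Finset.Basic

/-! # Lengths in long exact sequences (seat 761) -/

set_option autoImplicit false
universe u v

namespace K761.Len

variable (S : Type v) [Ring S]

/-- length as a rational number -/
noncomputable def len (M : Type u) [AddCommGroup M] [Module S M] : ℚ := ((Module.length S M).toNat : ℚ)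

variable {S}
variable {M N P : Type u} [AddCommGroup M] [Module S M] [AddCommGroup N] [Module S N]
  [AddCommGroup P] [Module S P]

lemma fl_iff : IsFiniteLength S M ↔ IsNoetherian S M ∧ IsArtinian S M :=
  isFiniteLength_iff_isNoetherian_isArtinian

/-- finite length of the middle term of an exact sequence -/
lemma fl_of_exact (f : N →ₗ[S] M) (g : M →ₗ[S] P) (h : Function.Exact f g) (hN : IsFiniteLength S N)
    (hP : IsFiniteLength S P) : IsFiniteLength S M := by
  rw [fl_iff] at *
  obtain ⟨_, _⟩ := hN
  obtain ⟨_, _⟩ := hP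
  have h' : LinearMap.range f = LinearMap.ker g := h.linearMap_ker_eq.symm
  exact ⟨isNoetherian_of_range_eq_ker f g h', isArtinian_of_range_eq_ker f g h'⟩

lemma fl_of_injective (f : N →ₗ[S] M) (hf : Function.Injective f) (hM : IsFiniteLength S M) :
    IsFiniteLength S N := IsFiniteLength.of_injective hM hf

lemma fl_of_surjective (f : M →ₗ[S] N) (hf : Function.Surjective f) (hM : IsFiniteLength S M) :
    IsFiniteLength S N := IsFiniteLength.of_surjective hM hf

lemma fl_of_subsingleton [Subsingleton M] : IsFiniteLength S M := IsFiniteLength.of_subsingleton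

lemma len_eq_zero [Subsingleton M] : len S M = 0 := by
  rw [len, Module.length_eq_zero]; simp

lemma len_congr (e : M ≃ₗ[S] N) : len S M = len S N := by
  rw [len, len, e.length_eq]

lemma len_ne_zero (hM : IsFiniteLength S M) [Nontrivial M] : len S M ≠ 0 := by
  rw [len, Ne, Nat.cast_eq_zero, ENat.toNat_eq_zero]
  rintro (h | h)
  · exact (Module.length_pos (R := S) (M := M)).ne' h
  · exact (Module.length_ne_top_iff.2 hM) h

lemma len_nonneg : 0 ≤ len S M := by rw [len]; exact Nat.cast_nonneg _

lemma len_add (f : N →ₗ[S] M) (g : M →ₗ[S] P) (hf : Function.Injective f) (hg : Function.Surjective g)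
    (h : Function.Exact f g) (hM : IsFiniteLength S M) : len S M = len S N + len S P := by
  have hN := Module.length_ne_top_iff.2 (fl_of_injective f hf hM)
  have hP := Module.length_ne_top_iff.2 (fl_of_surjective g hg hM)
  rw [len, len, len, Module.length_eq_add_of_exact f g hf hg h, ENat.toNat_add hN hP, Nat.cast_add]

lemma len_ker_add_range (f : M →ₗ[S] N) (hM : IsFiniteLength S M) :
    len S M = len S (LinearMap.ker f) + len S (LinearMap.range f) :=
  len_add (LinearMap.ker f).subtype f.rangeRestrict (Submodule.injective_subtype _)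
    f.surjective_rangeRestrict (by
      intro x
      constructor
      · intro hx
        exact ⟨⟨x, by simpa [Subtype.ext_iff] using hx⟩, rfl⟩
      · rintro ⟨y, rfl⟩
        exact Subtype.ext y.2) hM

/-- Additivity of the alternating sum of lengths in a long exact sequence. -/
theorem euler (A B C : ℕ → Type u) [∀ i, AddCommGroup (A i)] [∀ i, Module S (A i)]
    [∀ i, AddCommGroup (B i)] [∀ i, Module S (B i)] [∀ i, AddCommGroup (C i)] [∀ i, Module S (C i)]
    (f : ∀ i, A i →ₗ[S] B i) (g : ∀ i, B i →ₗ[S] C i) (δ : ∀ i, C i →ₗ[S] A (i + 1))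
    (h0 : Function.Injective (f 0)) (h1 : ∀ i, Function.Exact (f i) (g i))
    (h2 : ∀ i, Function.Exact (g i) (δ i)) (h3 : ∀ i, Function.Exact (δ i) (f (i + 1)))
    (hA : ∀ i, IsFiniteLength S (A i)) (hB : ∀ i, IsFiniteLength S (B i))
    (hC : ∀ i, IsFiniteLength S (C i)) (D : ℕ) (hD : Subsingleton (A (D + 1))) :
    ∑ i ∈ Finset.range (D + 1), (-1 : ℚ) ^ i * len S (B i) =
      ∑ i ∈ Finset.range (D + 1), (-1 : ℚ) ^ i * len S (A i) +
      ∑ i ∈ Finset.range (D + 1), (-1 : ℚ) ^ i * len S (C i) := by
  have key : ∀ i, len S (B i) = len S (A i) - len S (LinearMap.ker (f i)) + len S (C i) -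
      len S (LinearMap.ker (f (i + 1))) := by
    intro i
    have e1 := len_ker_add_range (g i) (hB i)
    have e2 := len_ker_add_range (f i) (hA i)
    have e3 := len_ker_add_range (δ i) (hC i)
    rw [(h1 i).linearMap_ker_eq] at e1
    rw [(h2 i).linearMap_ker_eq] at e3
    rw [(h3 i).linearMap_ker_eq]
    linear_combination e1 - e2 - e3
  have tele : ∀ n : ℕ, ∑ i ∈ Finset.range n, (-1 : ℚ) ^ i *
      (len S (LinearMap.ker (f i)) + len S (LinearMap.ker (f (i + 1)))) =
      len S (LinearMap.ker (f 0)) - (-1 : ℚ) ^ n * len S (LinearMap.ker (f n)) := by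
    intro n
    induction n with
    | zero => simp
    | succ n ih =>
      rw [Finset.sum_range_succ, ih, pow_succ]
      ring
  have h4 : len S (LinearMap.ker (f 0)) = 0 := by
    rw [LinearMap.ker_eq_bot.2 h0]
    exact len_eq_zero
  have h5 : len S (LinearMap.ker (f (D + 1))) = 0 := len_eq_zero
  have h6 := tele (D + 1)
  rw [h4, h5, mul_zero, sub_zero] at h6
  rw [← Finset.sum_add_distrib, ← sub_eq_zero, ← Finset.sum_sub_distrib, ← neg_eq_zero, ← h6,
    ← Finset.sum_neg_distrib]
  refine Finset.sum_congr rfl fun i _ => ?_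
  rw [key i]
  ring

end K761.Len
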