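import Groth.Agent.GrLC.K963.Iface
import Groth.Agent.GrLC.K759.Hgr
import Groth.Agent.GrLC.K761.Free

/-! # The long exact sequence of graded local cohomology on pieces (seat 761) -/

set_option autoImplicit false
set_option linter.unusedSectionVars false
set_option linter.style.haveILetI false
universe u

open DirectSum K761.Gr GrLC K963.Iface

namespace K761.PieceLES

variable {ι : Type} [AddCommGroup ι] [DecidableEq ι]
variable {R : Type u} [CommRing R] {σ : Type u} [SetLike σ R] [AddSubgroupClass σ R]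
variable {𝒜 : ι → σ} [GradedRing 𝒜]

/-- restriction of an `R`-linear map to `R₀`-submodules -/
def resMap {H H' : Type u} [AddCommGroup H] [Module R H] [AddCommGroup H'] [Module R H']
    (φ : H →ₗ[R] H') (P : Submodule (GrLC.deg0 𝒜) H) (P' : Submodule (GrLC.deg0 𝒜) H')
    (h : ∀ x ∈ P, φ x ∈ P') : P →ₗ[GrLC.deg0 𝒜] P' where
  toFun x := ⟨φ x, h x x.2⟩
  map_add' x y := Subtype.ext (map_add φ _ _)
  map_smul' r x := Subtype.ext (map_smul φ (r : R) (x : H))

lemma resMap_coe {H H' : Type u} [AddCommGroup H] [Module R H] [AddCommGroup H'] [Module R H']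
    (φ : H →ₗ[R] H') (P : Submodule (GrLC.deg0 𝒜) H) (P' : Submodule (GrLC.deg0 𝒜) H')
    (h : ∀ x ∈ P, φ x ∈ P') (x : P) : (resMap φ P P' h x : H') = φ x := rfl

/-- homogeneous preimages -/
lemma exists_preimage {H H' : Type u} [AddCommGroup H] [Module R H] [AddCommGroup H'] [Module R H']
    {τ : Type u} [SetLike τ H] [AddSubgroupClass τ H] (ℋ : ι → τ) [Decomposition ℋ]
    {τ' : Type u} [SetLike τ' H'] [AddSubgroupClass τ' H'] (ℋ' : ι → τ') [Decomposition ℋ']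
    {φ : H →ₗ[R] H'} {d : ι} (hφ : IsGrHomDeg ℋ ℋ' φ d) {n : ι} {y : H'} (hy : y ∈ ℋ' n)
    (hx : ∃ x, φ x = y) : ∃ x ∈ ℋ (n - d), φ x = y := by
  obtain ⟨x, rfl⟩ := hx
  refine ⟨pr ℋ (n - d) x, pr_mem _ _ _, ?_⟩
  have := pr_map_deg hφ (n - d) x
  rw [sub_add_cancel, pr_of_mem hy] at this
  exact this.symm

variable {M : Type u} [AddCommGroup M] [Module R M] {τ : Type u} [SetLike τ M] [AddSubgroupClass τ M]
  {ℳ : ι → τ} [DirectSum.Decomposition ℳ] [SetLike.GradedSMul 𝒜 ℳ]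
variable {N : Type u} [AddCommGroup N] [Module R N] {τN : Type u} [SetLike τN N] [AddSubgroupClass τN N]
  {𝒩 : ι → τN} [DirectSum.Decomposition 𝒩] [SetLike.GradedSMul 𝒜 𝒩]
variable {P : Type u} [AddCommGroup P] [Module R P] {τP : Type u} [SetLike τP P] [AddSubgroupClass τP P]
  {𝒬 : ι → τP} [DirectSum.Decomposition 𝒬] [SetLike.GradedSMul 𝒜 𝒬]
variable (E : StarInjRes 𝒜 ℳ) (F : StarInjRes 𝒜 𝒩) (G : StarInjRes 𝒜 𝒬) (a : HomogeneousIdeal 𝒜)

/-- The long exact sequence in one degree. -/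
theorem les_piece {f : M →ₗ[R] N} {g : N →ₗ[R] P} {df dg : ι} (hf : IsGrHomDeg ℳ 𝒩 f df)
    (hg : IsGrHomDeg 𝒩 𝒬 g dg) (hinj : Function.Injective f) (hex : Function.Exact f g)
    (hsurj : Function.Surjective g) (n : ι) :
    ∃ (α : ∀ i, E.Hcomp a i (n - df) →ₗ[GrLC.deg0 𝒜] F.Hcomp a i n)
      (β : ∀ i, F.Hcomp a i n →ₗ[GrLC.deg0 𝒜] G.Hcomp a i (n + dg))
      (δ : ∀ i, G.Hcomp a i (n + dg) →ₗ[GrLC.deg0 𝒜] E.Hcomp a (i + 1) (n - df)),
      (∀ i x, (α i x : F.H a i) = Hmap E F a i f hf x) ∧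
      (∀ i x, (β i x : G.H a i) = Hmap F G a i g hg x) ∧
      Function.Injective (α 0) ∧
      (∀ i, Function.Exact (α i) (β i)) ∧
      (∀ i, Function.Exact (β i) (δ i)) ∧
      (∀ i, Function.Exact (δ i) (α (i + 1))) := by
  obtain ⟨δ, hδ, h0, h1, h2, h3⟩ := les E F G a hf hg hinj hex hsurj
  have hα : ∀ i, ∀ x ∈ E.Hcomp a i (n - df), Hmap E F a i f hf x ∈ F.Hcomp a i n := by
    intro i x hx
    have := Hmap_mem E F a i hf hx
    rwa [sub_add_cancel] at this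
  have hβ : ∀ i, ∀ x ∈ F.Hcomp a i n, Hmap F G a i g hg x ∈ G.Hcomp a i (n + dg) :=
    fun i x hx => Hmap_mem F G a i hg hx
  have hδ' : ∀ i, ∀ x ∈ G.Hcomp a i (n + dg), δ i x ∈ E.Hcomp a (i + 1) (n - df) := by
    intro i x hx
    have := hδ i (n + dg) x hx
    rwa [add_sub_cancel_right] at this
  refine ⟨fun i => resMap (Hmap E F a i f hf) _ _ (hα i), fun i => resMap (Hmap F G a i g hg) _ _ (hβ i),
    fun i => resMap (δ i) _ _ (hδ' i), fun _ _ => rfl, fun _ _ => rfl, ?_, ?_, ?_, ?_⟩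
  · intro x y hxy
    exact Subtype.ext (h0 (congrArg Subtype.val hxy))
  · intro i y
    constructor
    · intro hy
      letI := K759.Hgr.Hdec E a i
      letI := K759.Hgr.Hdec F a i
      obtain ⟨x, hx, hxy⟩ := exists_preimage (E.Hgr a i) (F.Hgr a i) (φ := Hmap E F a i f hf) (d := df)
        (fun g m hm => Hmap_mem E F a i hf hm) (n := n) y.2 ((h1 i y).1 (congrArg Subtype.val hy))
      exact ⟨⟨x, hx⟩, Subtype.ext hxy⟩
    · rintro ⟨x, rfl⟩
      exact Subtype.ext ((h1 i _).2 ⟨x, rfl⟩)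
  · intro i y
    constructor
    · intro hy
      letI := K759.Hgr.Hdec F a i
      letI := K759.Hgr.Hdec G a i
      obtain ⟨x, hx, hxy⟩ := exists_preimage (F.Hgr a i) (G.Hgr a i) (φ := Hmap F G a i g hg) (d := dg)
        (fun g m hm => Hmap_mem F G a i hg hm) (n := n + dg) y.2 ((h2 i y).1 (congrArg Subtype.val hy))
      rw [add_sub_cancel_right] at hx
      exact ⟨⟨x, hx⟩, Subtype.ext hxy⟩
    · rintro ⟨x, rfl⟩
      exact Subtype.ext ((h2 i _).2 ⟨x, rfl⟩)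
  · intro i y
    constructor
    · intro hy
      letI := K759.Hgr.Hdec G a i
      letI := K759.Hgr.Hdec E a (i + 1)
      obtain ⟨x, hx, hxy⟩ := exists_preimage (G.Hgr a i) (E.Hgr a (i + 1)) (φ := δ i) (d := -dg - df)
        (fun g m hm => by
          have := hδ i g m hm
          rwa [sub_sub, sub_eq_add_neg, neg_add', ] at this) (n := n - df) y.2
        ((h3 i y).1 (congrArg Subtype.val hy))
      have hx' : x ∈ G.Hcomp a i (n + dg) := by
        have h4 : n - df - (-dg - df) = n + dg := by abel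
        rw [h4] at hx
        exact hx
      exact ⟨⟨x, hx'⟩, Subtype.ext hxy⟩
    · rintro ⟨x, rfl⟩
      exact Subtype.ext ((h3 i _).2 ⟨x, rfl⟩)

/-- The long exact sequence in one degree, with free choice of the names of the degrees. -/
theorem les_piece' {f : M →ₗ[R] N} {g : N →ₗ[R] P} {df dg : ι} (hf : IsGrHomDeg ℳ 𝒩 f df)
    (hg : IsGrHomDeg 𝒩 𝒬 g dg) (hinj : Function.Injective f) (hex : Function.Exact f g)
    (hsurj : Function.Surjective g) (n m k : ι) (hm : m = n + dg) (hk : k = n - df) :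
    ∃ (α : ∀ i, E.Hcomp a i k →ₗ[GrLC.deg0 𝒜] F.Hcomp a i n)
      (β : ∀ i, F.Hcomp a i n →ₗ[GrLC.deg0 𝒜] G.Hcomp a i m)
      (δ : ∀ i, G.Hcomp a i m →ₗ[GrLC.deg0 𝒜] E.Hcomp a (i + 1) k),
      (∀ i x, (α i x : F.H a i) = Hmap E F a i f hf x) ∧
      (∀ i x, (β i x : G.H a i) = Hmap F G a i g hg x) ∧
      Function.Injective (α 0) ∧
      (∀ i, Function.Exact (α i) (β i)) ∧
      (∀ i, Function.Exact (β i) (δ i)) ∧
      (∀ i, Function.Exact (δ i) (α (i + 1))) := by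
  subst hm
  subst hk
  exact les_piece E F G a hf hg hinj hex hsurj n

/-- a homogeneous isomorphism of degree `d` identifies pieces of local cohomology -/
theorem nonempty_pieceEquiv (e : M ≃ₗ[R] N) {d : ι} (he : IsGrHomDeg ℳ 𝒩 e.toLinearMap d) (i : ℕ)
    (n m : ι) (hm : m = n + d) : Nonempty (E.Hcomp a i n ≃ₗ[GrLC.deg0 𝒜] F.Hcomp a i m) := by
  subst hm
  refine ⟨LinearEquiv.ofBijective (resMap (Hequiv E F a i e he).toLinearMap _ _ fun x hx =>
    (Hequiv_mem_iff E F a i e he x).2 hx) ⟨fun x y hxy => Subtype.ext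
      ((Hequiv E F a i e he).injective (congrArg Subtype.val hxy)), ?_⟩⟩
  rintro ⟨z, hz⟩
  obtain ⟨w, rfl⟩ := (Hequiv E F a i e he).surjective z
  exact ⟨⟨w, (Hequiv_mem_iff E F a i e he w).1 hz⟩, rfl⟩

/-- two resolutions give the same pieces -/
theorem nonempty_pieceEquiv' (E F : StarInjRes 𝒜 ℳ) (a : HomogeneousIdeal 𝒜) (i : ℕ) (n : ι) :
    Nonempty (E.Hcomp a i n ≃ₗ[GrLC.deg0 𝒜] F.Hcomp a i n) :=
  nonempty_pieceEquiv E F a (LinearEquiv.refl R M) (d := 0) isGrHomDeg_id i n n (add_zero n).symm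

lemma isGrHomDeg_zero {f : M →ₗ[R] N} (hf : IsGrHom ℳ 𝒩 f) : IsGrHomDeg ℳ 𝒩 f 0 := fun g m hm => by
  rw [add_zero]; exact hf g m hm

end K761.PieceLES
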