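import Groth.Agent.Ega3B.DiffPoly
import Mathlib.Algebra.Polynomial.Taylor
import Mathlib.Algebra.Polynomial.Roots

/-! # Antidifferences with a degree bound (seat 761) -/

set_option autoImplicit false

open Polynomial

namespace K761.Poly

open Groth.Agent.Ega3B.DiffPoly in
theorem exists_antidiff (Q : ℚ[X]) : ∃ P : ℚ[X], P.comp (X + 1) - P = Q ∧
    ∀ e : ℕ, Q.degree < (e : WithBot ℕ) → P.degree < ((e + 1 : ℕ) : WithBot ℕ) := by
  induction h : Q.natDegree using Nat.strong_induction_on generalizing Q with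
  | _ d ih =>
    by_cases hQ : Q = 0
    · exact ⟨0, by simp [hQ], fun e _ => by rw [degree_zero]; exact WithBot.bot_lt_coe _⟩
    -- subtract the leading term
    set c : ℚ := Q.leadingCoeff / (d + 1) with hc
    have hd : ((d : ℚ) + 1) ≠ 0 := by positivity
    have hlc : Q.leadingCoeff ≠ 0 := leadingCoeff_ne_zero.mpr hQ
    have hc0 : c ≠ 0 := div_ne_zero hlc hd
    obtain ⟨h1, h2⟩ := degree_aux d c hc0
    set T : ℚ[X] := C c * ((X + 1) ^ (d + 1) - X ^ (d + 1)) with hT
    have hR1 : (Q - T).natDegree ≤ d := (natDegree_sub_le _ _).trans (by rw [h]; simpa using h1)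
    have hR2 : (Q - T).coeff d = 0 := by
      rw [coeff_sub, h2, hc, div_mul_cancel₀ _ hd, ← h]
      exact sub_self _
    have hR3 : (Q - T).degree < (d : WithBot ℕ) := by
      rw [degree_lt_iff_coeff_zero]
      intro m hm
      rcases Nat.lt_or_ge d m with hlt | hge
      · exact coeff_eq_zero_of_natDegree_lt (lt_of_le_of_lt hR1 hlt)
      · obtain rfl : m = d := le_antisymm hge hm
        exact hR2
    have key : ∃ P' : ℚ[X], P'.comp (X + 1) - P' = Q - T ∧
        P'.degree < ((d + 1 : ℕ) : WithBot ℕ) := by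
      by_cases hz : Q - T = 0
      · exact ⟨0, by simp [hz], by rw [degree_zero]; exact WithBot.bot_lt_coe _⟩
      · have hlt : (Q - T).natDegree < d := by
          rw [natDegree_lt_iff_degree_lt hz]; exact hR3
        obtain ⟨P', hP', hdeg⟩ := ih _ hlt _ rfl
        exact ⟨P', hP', hdeg d hR3⟩
    obtain ⟨P', hP', hdegP'⟩ := key
    refine ⟨P' + C c * X ^ (d + 1), ?_, fun e he => ?_⟩
    · have : (C c * X ^ (d + 1) : ℚ[X]).comp (X + 1) - C c * X ^ (d + 1) = T := by
        rw [hT, mul_comp, C_comp, pow_comp, X_comp]; ring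
      rw [add_comp]
      calc P'.comp (X + 1) + (C c * X ^ (d + 1) : ℚ[X]).comp (X + 1) - (P' + C c * X ^ (d + 1))
          = (P'.comp (X + 1) - P') + ((C c * X ^ (d + 1) : ℚ[X]).comp (X + 1) - C c * X ^ (d + 1)) := by
            ring
        _ = Q := by rw [hP', this]; ring
    · have hde : d < e := by
        rw [degree_eq_natDegree hQ, h] at he
        exact_mod_cast he
      refine lt_of_le_of_lt (degree_add_le _ _) (max_lt (hdegP'.trans ?_) ?_)
      · exact_mod_cast Nat.succ_lt_succ hde
      · refine lt_of_le_of_lt (degree_C_mul_X_pow_le _ _) ?_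
        exact_mod_cast Nat.succ_lt_succ hde

/-- A function on `ℤ` whose backward difference is the polynomial `Q` is a polynomial of degree at
most one more. -/
theorem exists_polynomial (f : ℤ → ℚ) (Q : ℚ[X]) (h : ∀ n : ℤ, f n - f (n - 1) = Q.eval (n : ℚ)) :
    ∃ P : ℚ[X], (∀ n : ℤ, f n = P.eval (n : ℚ)) ∧
      ∀ e : ℕ, Q.degree < (e : WithBot ℕ) → P.degree < ((e + 1 : ℕ) : WithBot ℕ) := by
  obtain ⟨P, hP, hdeg⟩ := exists_antidiff (Q.comp (X + 1))
  have hP' : ∀ n : ℤ, P.eval ((n : ℚ) + 1) - P.eval (n : ℚ) = Q.eval ((n : ℚ) + 1) := by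
    intro n
    have := congrArg (Polynomial.eval (n : ℚ)) hP
    rw [eval_sub, eval_comp, eval_comp] at this
    simpa using this
  have hconst : ∀ n : ℤ, f (n + 1) - P.eval ((n : ℚ) + 1) = f n - P.eval (n : ℚ) := by
    intro n
    have h1 := h (n + 1)
    have h2 := hP' n
    rw [add_sub_cancel_right] at h1
    push_cast at h1
    linarith
  have hall : ∀ n : ℤ, f n - P.eval (n : ℚ) = f 0 - P.eval 0 := by
    intro n
    induction n using Int.induction_on with
    | zero => simp
    | succ n ih =>
      have := hconst n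
      push_cast at this ih ⊢
      rw [this, ih]
    | pred n ih =>
      have := hconst (-(n : ℤ) - 1)
      push_cast at this ih ⊢
      rw [sub_add_cancel, sub_add_cancel] at this
      rw [← this, ih]
  refine ⟨P + C (f 0 - P.eval 0), fun n => ?_, fun e he => ?_⟩
  · rw [eval_add, eval_C, ← hall n]
    ring
  · have hcomp : (Q.comp (X + 1)).degree = Q.degree := by
      have : (X + 1 : ℚ[X]) = X + C 1 := by rw [map_one]
      rw [this, ← taylor_apply, degree_taylor]
    refine lt_of_le_of_lt (degree_add_le _ _) (max_lt (hdeg e (by rw [hcomp]; exact he)) ?_)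
    refine lt_of_le_of_lt degree_C_le ?_
    exact_mod_cast Nat.succ_pos e

/-- polynomials agreeing at all large integers are equal -/
theorem eq_of_eventually (P Q : ℚ[X]) (N : ℤ) (h : ∀ n : ℤ, N ≤ n → P.eval (n : ℚ) = Q.eval (n : ℚ)) :
    P = Q := by
  refine Polynomial.eq_of_infinite_eval_eq P Q ?_
  refine Set.Infinite.mono (s := (fun n : ℤ => (n : ℚ)) '' Set.Ici N) ?_ ?_
  · rintro _ ⟨n, hn, rfl⟩
    exact h n hn
  · exact (Set.Ici_infinite N).image (fun a _ b _ hab => by exact_mod_cast hab)

/-- polynomials agreeing at all small integers are equal -/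
theorem eq_of_eventually' (P Q : ℚ[X]) (N : ℤ) (h : ∀ n : ℤ, n ≤ N → P.eval (n : ℚ) = Q.eval (n : ℚ)) :
    P = Q := by
  refine Polynomial.eq_of_infinite_eval_eq P Q ?_
  refine Set.Infinite.mono (s := (fun n : ℤ => (n : ℚ)) '' Set.Iic N) ?_ ?_
  · rintro _ ⟨n, hn, rfl⟩
    exact h n hn
  · exact (Set.Iic_infinite N).image (fun a _ b _ hab => by exact_mod_cast hab)

/-- a nonzero rational polynomial of degree `< d` does not vanish at all of `-1, …, -d` -/
theorem eq_zero_of_roots (P : ℚ[X]) (d : ℕ) (hd : P.degree < (d : WithBot ℕ))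
    (h : ∀ j : ℕ, j < d → P.eval (-((j : ℚ) + 1)) = 0) : P = 0 := by
  by_contra hP
  have hcard : P.roots.toFinset.card ≤ P.natDegree :=
    (Multiset.toFinset_card_le _).trans (card_roots' P)
  have hlt : P.natDegree < d := by
    rw [natDegree_lt_iff_degree_lt hP]; exact hd
  have hsub : (Finset.range d).image (fun j : ℕ => (-((j : ℚ) + 1))) ⊆ P.roots.toFinset := by
    intro x hx
    obtain ⟨j, hj, rfl⟩ := Finset.mem_image.1 hx
    rw [Multiset.mem_toFinset, mem_roots hP]
    exact h j (Finset.mem_range.1 hj)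
  have := Finset.card_le_card hsub
  rw [Finset.card_image_of_injective _ (fun a b hab => by
    have : (a : ℚ) = b := by linarith [hab]
    exact_mod_cast this), Finset.card_range] at this
  omega

end K761.Poly
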