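import Groth.Agent.GrLC.K761.Devissage
import Groth.Agent.GrLC.K761.PieceLES
import Groth.Agent.GrLC.K761.Len
import Groth.Agent.GrLC.K761.Poly
import Groth.Agent.GrLC.K759.AcycInj
import Groth.Agent.Localalg.LCRows
import Mathlib.RingTheory.KrullDimension.NonZeroDivisors

/-! # Hilbert functions and graded local cohomology (seat 761)

For a Noetherian positively graded ring and a homogeneous ideal `a ⊇ R₊` generated up to radical in
degree one, the difference of the Hilbert function and the alternating sum of the lengths of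
local cohomology is a polynomial. -/

set_option autoImplicit false
set_option linter.unusedSectionVars false
set_option linter.style.haveILetI false
universe u

open DirectSum K761.Gr GrLC K963.Iface K761.Len
open scoped Polynomial

namespace K761.Hilb

section Ring

variable {R : Type u} [CommRing R]

lemma ringKrullDim_sup_succ_le (q : Ideal R) [q.IsPrime] {y : R} (hy : y ∉ q) :
    ringKrullDim (R ⧸ (q ⊔ Ideal.span {y})) + 1 ≤ ringKrullDim (R ⧸ q) := by
  have h1 : (Ideal.span {y}).map (Ideal.Quotient.mk q) = Ideal.span {Ideal.Quotient.mk q y} := by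
    rw [Ideal.map_span, Set.image_singleton]
  have h2 := ringKrullDim_eq_of_ringEquiv (DoubleQuot.quotQuotEquivQuotSup q (Ideal.span {y}))
  rw [← h2, h1]
  refine ringKrullDim_quotient_succ_le_of_nonZeroDivisor ?_
  rw [mem_nonZeroDivisors_iff_ne_zero]
  rwa [Ne, Ideal.Quotient.eq_zero_iff_mem]

lemma sup_eq_top_of_ringKrullDim_le (q : Ideal R) [q.IsPrime] {y : R} (hy : y ∉ q)
    (h : ringKrullDim (R ⧸ q) ≤ 0) : q ⊔ Ideal.span {y} = ⊤ := by
  by_contra hne
  haveI := Ideal.Quotient.nontrivial_iff.2 hne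
  have h1 := ringKrullDim_sup_succ_le q hy
  have h2 : (0 : WithBot ℕ∞) ≤ ringKrullDim (R ⧸ (q ⊔ Ideal.span {y})) := ringKrullDim_nonneg_of_nontrivial
  have h3 : (0 : WithBot ℕ∞) + 1 ≤ 0 := (add_le_add_left h2 1).trans (h1.trans h)
  rw [zero_add] at h3
  exact absurd h3 (by decide)

end Ring

section Lower

variable {R : Type u} [CommRing R] {σ : Type u} [SetLike σ R] [AddSubgroupClass σ R] {𝒜 : ℤ → σ} [GradedRing 𝒜]
  {M : Type u} [AddCommGroup M] [Module R M] {τ : Type u} [SetLike τ M] [AddSubgroupClass τ M]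
  {ℳ : ℤ → τ} [Decomposition ℳ] [SetLike.GradedSMul 𝒜 ℳ]

/-- every homogeneous element is a combination of homogeneous generators with homogeneous coefficients -/
lemma mem_induction (S : Finset M) (deg : M → ℤ) (hS : ∀ s ∈ S, s ∈ ℳ (deg s))
    (hspan : Submodule.span R (S : Set M) = ⊤) {n : ℤ} {x : M} (hx : x ∈ ℳ n) (Q : AddSubgroup M)
    (hQ : ∀ s ∈ S, ∀ r ∈ 𝒜 (n - deg s), r • s ∈ Q) : x ∈ Q := by
  have hx' : x ∈ Submodule.span R (S : Set M) := hspan ▸ trivial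
  obtain ⟨f, -, hf⟩ := Submodule.mem_span_finset.1 hx'
  rw [← pr_of_mem hx, ← hf, map_sum]
  refine sum_mem fun s hs => ?_
  have := pr_smul_right 𝒜 ℳ (f s) (hS s hs) (n - deg s)
  rw [sub_add_cancel] at this
  rw [this]
  exact hQ s hs _ (pr_mem 𝒜 _ _)

variable (ℳ) in
/-- finitely generated graded modules over positively graded rings are bounded below -/
lemma exists_lower (hpos : ∀ n : ℤ, n < 0 → ∀ x ∈ 𝒜 n, x = 0) [Module.Finite R M] :
    ∃ N : ℤ, ∀ n : ℤ, n < N → ∀ x ∈ ℳ n, x = 0 := by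
  classical
  obtain ⟨S, hS, hspan⟩ := exists_homogeneous_span R ℳ
  choose! deg hdeg using hS
  obtain ⟨N, hN⟩ : ∃ N : ℤ, ∀ s ∈ S, N ≤ deg s := by
    obtain ⟨N, hN⟩ := (S.image deg).bddBelow
    exact ⟨N, fun s hs => hN (Finset.mem_coe.2 (Finset.mem_image_of_mem deg hs))⟩
  refine ⟨N, fun n hn x hx => ?_⟩
  refine (AddSubgroup.mem_bot (G := M)).1 (mem_induction (𝒜 := 𝒜) S deg hdeg hspan hx ⊥ fun s hs r hr => ?_)
  rw [hpos _ (by have := hN s hs; omega) r hr, zero_smul]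
  exact zero_mem _

variable (𝒜 ℳ) in
/-- finitely generated graded modules killed by `𝒜₊` are bounded above -/
lemma exists_upper [Module.Finite R M] (hM : ∀ n : ℤ, 0 < n → ∀ r ∈ 𝒜 n, ∀ x : M, r • x = 0) :
    ∃ N : ℤ, ∀ n : ℤ, N ≤ n → ∀ x ∈ ℳ n, x = 0 := by
  classical
  obtain ⟨S, hS, hspan⟩ := exists_homogeneous_span R ℳ
  choose! deg hdeg using hS
  obtain ⟨N, hN⟩ : ∃ N : ℤ, ∀ s ∈ S, deg s ≤ N := by
    obtain ⟨N, hN⟩ := (S.image deg).bddAbove
    exact ⟨N, fun s hs => hN (Finset.mem_coe.2 (Finset.mem_image_of_mem deg hs))⟩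
  refine ⟨N + 1, fun n hn x hx => ?_⟩
  refine (AddSubgroup.mem_bot (G := M)).1 (mem_induction (𝒜 := 𝒜) S deg hdeg hspan hx ⊥ fun s hs r hr => ?_)
  rw [hM _ (by have := hN s hs; omega) r hr]
  exact zero_mem _

end Lower

section Defs

variable {R : Type u} [CommRing R] {σ : Type u} [SetLike σ R] [AddSubgroupClass σ R] {𝒜 : ℤ → σ} [GradedRing 𝒜]
  {M : Type u} [AddCommGroup M] [Module R M] {τ : Type u} [SetLike τ M] [AddSubgroupClass τ M]
  {ℳ : ℤ → τ} [Decomposition ℳ] [SetLike.GradedSMul 𝒜 ℳ]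

/-- alternating sum of the lengths of local cohomology -/
noncomputable def chi (E : StarInjRes 𝒜 ℳ) (a : HomogeneousIdeal 𝒜) (D : ℕ) (n : ℤ) : ℚ :=
  ∑ i ∈ Finset.range (D + 1), (-1 : ℚ) ^ i * len (GrLC.deg0 𝒜) (E.Hcomp a i n)

lemma len_eq_zero_of_eq_bot {S H : Type u} [Ring S] [AddCommGroup H] [Module S H] {P : Submodule S H}
    (h : P = ⊥) : len S P = 0 := by
  subst h
  exact len_eq_zero

lemma eq_zero_of_eq_bot {S H : Type u} [Ring S] [AddCommGroup H] [Module S H] {P : Submodule S H}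
    (h : P = ⊥) (x : P) : x = 0 := by
  subst h
  exact Subsingleton.elim _ _

lemma subsingleton_of_eq_bot {S H : Type u} [Ring S] [AddCommGroup H] [Module S H] {P : Submodule S H}
    (h : P = ⊥) : Subsingleton P := ⟨fun x y => by
  rw [eq_zero_of_eq_bot h x, eq_zero_of_eq_bot h y]⟩

lemma fl_of_eq_bot {S H : Type u} [Ring S] [AddCommGroup H] [Module S H] {P : Submodule S H}
    (h : P = ⊥) : IsFiniteLength S P := by
  subst h
  exact fl_of_subsingleton

lemma chi_eq_of_le (E : StarInjRes 𝒜 ℳ) (a : HomogeneousIdeal 𝒜) {D D' : ℕ} (h : D ≤ D') (n : ℤ)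
    (hD : ∀ i, D < i → E.Hcomp a i n = ⊥) : chi E a D n = chi E a D' n := by
  rw [chi, chi]
  refine Finset.sum_subset (Finset.range_mono (by omega)) fun i hi hi' => ?_
  rw [len_eq_zero_of_eq_bot (hD i (by simpa using hi')), mul_zero]

/-- pieces of torsion modules -/
lemma len_H0 (E : StarInjRes 𝒜 ℳ) (a : HomogeneousIdeal 𝒜) (hM : gam a.toIdeal M = ⊤) (n : ℤ) :
    Nonempty (comp 𝒜 ℳ n ≃ₗ[GrLC.deg0 𝒜] E.Hcomp a 0 n) := by
  have hmem : ∀ x : M, x ∈ gam a.toIdeal M := fun x => hM ▸ trivial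
  refine ⟨LinearEquiv.ofBijective
    { toFun := fun x : comp 𝒜 ℳ n => (⟨H0equiv E a ⟨(x : M), hmem x⟩,
        (H0equiv_mem_iff E a _ n).2 x.2⟩ : E.Hcomp a 0 n)
      map_add' := fun x y => Subtype.ext ?_
      map_smul' := fun r x => Subtype.ext ?_ } ⟨?_, ?_⟩⟩
  · exact (congrArg (H0equiv E a) (Subtype.ext rfl)).trans (map_add (H0equiv E a) ⟨x, hmem x⟩ ⟨y, hmem y⟩)
  · exact (congrArg (H0equiv E a) (Subtype.ext rfl)).trans
      (map_smul (H0equiv E a) (r : R) (⟨x, hmem x⟩ : gam a.toIdeal M))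
  · intro x y hxy
    have h0 : H0equiv E a ⟨(x : M), hmem x⟩ = H0equiv E a ⟨(y : M), hmem y⟩ := by
      have h := congrArg (fun z : E.Hcomp a 0 n => (z : E.H a 0)) hxy
      exact h
    have h1 := (H0equiv E a).injective h0
    have h2 := congrArg Subtype.val h1
    exact Subtype.ext h2
  · rintro ⟨z, hz⟩
    obtain ⟨w, rfl⟩ := (H0equiv E a).surjective z
    exact ⟨⟨w, (H0equiv_mem_iff E a w n).1 hz⟩, rfl⟩

end Defs

section Main

variable {R : Type u} [CommRing R] {σ : Type u} [SetLike σ R] [AddSubgroupClass σ R] {𝒜 : ℤ → σ} [GradedRing 𝒜]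

/-- The property proved by dévissage. -/
def Good (a : HomogeneousIdeal 𝒜) (D : ℕ) (I : Ideal R) (X : GMod.{u} 𝒜) : Prop :=
  (∀ n, IsFiniteLength (GrLC.deg0 𝒜) (comp 𝒜 X.gr n)) → ∀ E : StarInjRes 𝒜 X.gr,
    ∃ (N : ℤ) (p : ℚ[X]), (∀ d : ℕ, ringKrullDim (R ⧸ I) ≤ d → p.degree < (d : WithBot ℕ)) ∧
      (∀ i n, IsFiniteLength (GrLC.deg0 𝒜) (E.Hcomp a i n)) ∧
      (∀ i n, N ≤ n → E.Hcomp a i n = ⊥) ∧
      ∀ n : ℤ, len (GrLC.deg0 𝒜) (comp 𝒜 X.gr n) - chi E a D n = p.eval (n : ℚ)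

lemma good_tors [IsNoetherianRing R] {a : HomogeneousIdeal 𝒜} (hapos : ∀ n : ℤ, 0 < n → ∀ r ∈ 𝒜 n, r ∈ a.toIdeal) (D : ℕ) (I : Ideal R)
    (X : GMod.{u} 𝒜) (hfin : Module.Finite R X.carrier)
    (hX : ∀ r ∈ a.toIdeal, ∀ x : X.carrier, r • x = 0) : Good a D I X := by
  intro hfl E
  obtain ⟨N, hN⟩ := exists_upper 𝒜 X.gr fun n hn r hr x => hX r (hapos n hn r hr) x
  have htor : gam a.toIdeal X.carrier = ⊤ := by
    rw [eq_top_iff]
    intro x _
    exact ⟨1, fun r hr => hX r (by rwa [pow_one] at hr) x⟩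
  have h1 : ∀ i n, 0 < i → E.Hcomp a i n = ⊥ := fun i n hi =>
    Hcomp_eq_bot_of_subsingleton E a i (H_subsingleton_of_torsion E a i htor hi) n
  have h0 : ∀ n, len (GrLC.deg0 𝒜) (comp 𝒜 X.gr n) = len (GrLC.deg0 𝒜) (E.Hcomp a 0 n) := by
    intro n
    obtain ⟨e⟩ := len_H0 E a htor n
    exact len_congr e
  refine ⟨N, 0, fun d _ => by rw [Polynomial.degree_zero]; exact WithBot.bot_lt_coe _, ?_, ?_, ?_⟩
  · intro i n
    rcases Nat.eq_zero_or_pos i with rfl | hi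
    · obtain ⟨e⟩ := len_H0 E a htor n
      exact fl_of_surjective e.toLinearMap e.surjective (hfl n)
    · exact fl_of_eq_bot (h1 i n hi)
  · intro i n hn
    rcases Nat.eq_zero_or_pos i with rfl | hi
    · obtain ⟨e⟩ := len_H0 E a htor n
      have hsub : Subsingleton (comp 𝒜 X.gr n) := ⟨fun x y => Subtype.ext (by
        rw [hN n hn x x.2, hN n hn y y.2])⟩
      have := e.symm.toEquiv.subsingleton
      rw [Submodule.eq_bot_iff]
      intro x hx
      exact congrArg Subtype.val (Subsingleton.elim (⟨x, hx⟩ : E.Hcomp a 0 n) 0)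
    · exact h1 i n hi
  · intro n
    rw [← chi_eq_of_le E a (Nat.zero_le D) n (fun i hi => h1 i n hi), chi, Finset.sum_range_one, pow_zero,
      one_mul, h0, sub_self, Polynomial.eval_zero]

lemma good_ext {a : HomogeneousIdeal 𝒜} {D : ℕ}
    (hD : ∀ (X : GMod.{u} 𝒜) (E : StarInjRes 𝒜 X.gr) (i : ℕ), D < i → Subsingleton (E.H a i))
    (I : Ideal R) (A B C : GMod.{u} 𝒜) (f : A.carrier →ₗ[R] B.carrier)
    (g : B.carrier →ₗ[R] C.carrier) (hf : IsGrHom A.gr B.gr f) (hg : IsGrHom B.gr C.gr g)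
    (hinj : Function.Injective f) (hex : Function.Exact f g) (hsurj : Function.Surjective g)
    (hA : Good a D I A) (hC : Good a D I C) : Good a D I B := by
  intro hfl E
  -- pieces
  let f' : ∀ n, comp 𝒜 A.gr n →ₗ[GrLC.deg0 𝒜] comp 𝒜 B.gr n := fun n =>
    PieceLES.resMap f _ _ fun x hx => hf n x hx
  let g' : ∀ n, comp 𝒜 B.gr n →ₗ[GrLC.deg0 𝒜] comp 𝒜 C.gr n := fun n =>
    PieceLES.resMap g _ _ fun x hx => hg n x hx
  have hf' : ∀ n, Function.Injective (f' n) := fun n x y hxy =>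
    Subtype.ext (hinj (congrArg Subtype.val hxy))
  have hg' : ∀ n, Function.Surjective (g' n) := by
    intro n y
    obtain ⟨x, hx, hxy⟩ := PieceLES.exists_preimage B.gr C.gr (PieceLES.isGrHomDeg_zero hg) y.2 (hsurj y)
    rw [sub_zero] at hx
    exact ⟨⟨x, hx⟩, Subtype.ext hxy⟩
  have hex' : ∀ n, Function.Exact (f' n) (g' n) := by
    intro n y
    constructor
    · intro hy
      obtain ⟨x, hx, hxy⟩ := PieceLES.exists_preimage A.gr B.gr (PieceLES.isGrHomDeg_zero hf) y.2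
        ((hex y).1 (congrArg Subtype.val hy))
      rw [sub_zero] at hx
      exact ⟨⟨x, hx⟩, Subtype.ext hxy⟩
    · rintro ⟨x, rfl⟩
      exact Subtype.ext ((hex _).2 ⟨x, rfl⟩)
  obtain ⟨EA⟩ := nonempty_res 𝒜 A.gr
  obtain ⟨EC⟩ := nonempty_res 𝒜 C.gr
  obtain ⟨NA, pA, hdA, hfA, hvA, hpA⟩ := hA (fun n => fl_of_injective (f' n) (hf' n) (hfl n)) EA
  obtain ⟨NC, pC, hdC, hfC, hvC, hpC⟩ := hC (fun n => fl_of_surjective (g' n) (hg' n) (hfl n)) EC
  have hles := fun n => PieceLES.les_piece' EA E EC a (PieceLES.isGrHomDeg_zero hf)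
    (PieceLES.isGrHomDeg_zero hg) hinj hex hsurj n n n (add_zero n).symm (sub_zero n).symm
  have hfB : ∀ i n, IsFiniteLength (GrLC.deg0 𝒜) (E.Hcomp a i n) := by
    intro i n
    obtain ⟨α, β, δ, -, -, h0, h1, h2, h3⟩ := hles n
    exact fl_of_exact (α i) (β i) (h1 i) (hfA i n) (hfC i n)
  refine ⟨max NA NC, pA + pC, fun d hd => lt_of_le_of_lt (Polynomial.degree_add_le _ _)
    (max_lt (hdA d hd) (hdC d hd)), hfB, ?_, ?_⟩
  · intro i n hn
    obtain ⟨α, β, δ, -, -, h0, h1, h2, h3⟩ := hles n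
    rw [Submodule.eq_bot_iff]
    intro x hx
    have hβ : β i ⟨x, hx⟩ = 0 := eq_zero_of_eq_bot (hvC i n ((le_max_right _ _).trans hn)) _
    obtain ⟨w, hw⟩ := (h1 i _).1 hβ
    rw [eq_zero_of_eq_bot (hvA i n ((le_max_left _ _).trans hn)) w, map_zero] at hw
    exact (congrArg Subtype.val hw).symm
  · intro n
    obtain ⟨α, β, δ, -, -, h0, h1, h2, h3⟩ := hles n
    have hsub : Subsingleton (EA.Hcomp a (D + 1) n) := subsingleton_of_eq_bot
      (Hcomp_eq_bot_of_subsingleton EA a (D + 1) (hD A EA (D + 1) (by omega)) n)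
    have he := euler (fun i => EA.Hcomp a i n) (fun i => E.Hcomp a i n) (fun i => EC.Hcomp a i n)
      α β δ h0 h1 h2 h3 (fun i => hfA i n) (fun i => hfB i n) (fun i => hfC i n) D hsub
    rw [Polynomial.eval_add, ← hpA, ← hpC, len_add (f' n) (g' n) (hf' n) (hg' n) (hex' n) (hfl n), chi, he,
      chi, chi]
    ring

lemma good_reg [IsNoetherianRing R] {a : HomogeneousIdeal 𝒜} {D : ℕ}
    (hpos : ∀ n : ℤ, n < 0 → ∀ x ∈ 𝒜 n, x = 0)
    (hapos : ∀ n : ℤ, 0 < n → ∀ r ∈ 𝒜 n, r ∈ a.toIdeal)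
    (hD : ∀ (X : GMod.{u} 𝒜) (E : StarInjRes 𝒜 X.gr) (i : ℕ), D < i → Subsingleton (E.H a i))
    (q : Ideal R) (y : R) (X C : GMod.{u} 𝒜) (g : X.carrier →ₗ[R] C.carrier) (hq : q.IsPrime)
    (hy : y ∈ 𝒜 1) (hya : y ∈ a.toIdeal) (hyq : y ∉ q) (hfin : Module.Finite R X.carrier)
    (hg : IsGrHom X.gr C.gr g) (hqX : ∀ r ∈ q, ∀ x : X.carrier, r • x = 0)
    (hsurj : Function.Surjective g)
    (hker : LinearMap.ker g = LinearMap.range (y • (LinearMap.id : X.carrier →ₗ[R] X.carrier)))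
    (hreg : IsSMulRegular X.carrier y) (hC : Good a D (q ⊔ Ideal.span {y}) C) : Good a D q X := by
  intro hfl E
  have hf : IsGrHomDeg X.gr X.gr (y • (LinearMap.id : X.carrier →ₗ[R] X.carrier)) 1 :=
    isGrHomDeg_smul_id hy
  have hinj : Function.Injective (y • (LinearMap.id : X.carrier →ₗ[R] X.carrier)) := hreg
  have hex : Function.Exact (y • (LinearMap.id : X.carrier →ₗ[R] X.carrier)) g :=
    LinearMap.exact_iff.2 hker
  -- pieces
  let f' : ∀ n, comp 𝒜 X.gr (n - 1) →ₗ[GrLC.deg0 𝒜] comp 𝒜 X.gr n := fun n =>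
    PieceLES.resMap (y • (LinearMap.id : X.carrier →ₗ[R] X.carrier)) _ _ fun x hx => by
      have := hf (n - 1) x hx
      rwa [sub_add_cancel] at this
  let g' : ∀ n, comp 𝒜 X.gr n →ₗ[GrLC.deg0 𝒜] comp 𝒜 C.gr n := fun n =>
    PieceLES.resMap g _ _ fun x hx => hg n x hx
  have hf' : ∀ n, Function.Injective (f' n) := fun n x y hxy =>
    Subtype.ext (hinj (congrArg Subtype.val hxy))
  have hg' : ∀ n, Function.Surjective (g' n) := by
    intro n y
    obtain ⟨x, hx, hxy⟩ := PieceLES.exists_preimage X.gr C.gr (PieceLES.isGrHomDeg_zero hg) y.2 (hsurj y)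
    rw [sub_zero] at hx
    exact ⟨⟨x, hx⟩, Subtype.ext hxy⟩
  have hex' : ∀ n, Function.Exact (f' n) (g' n) := by
    intro n y
    constructor
    · intro hy
      obtain ⟨x, hx, hxy⟩ := PieceLES.exists_preimage X.gr X.gr hf y.2
        ((hex y).1 (congrArg Subtype.val hy))
      exact ⟨⟨x, hx⟩, Subtype.ext hxy⟩
    · rintro ⟨x, rfl⟩
      exact Subtype.ext ((hex _).2 ⟨x, rfl⟩)
  obtain ⟨EC⟩ := nonempty_res 𝒜 C.gr
  obtain ⟨NC, pC, hdC, hfC, hvC, hpC⟩ := hC (fun n => fl_of_surjective (g' n) (hg' n) (hfl n)) EC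
  have hles := fun n m (hm : m = n - 1) => PieceLES.les_piece' E E EC a hf
    (PieceLES.isGrHomDeg_zero hg) hinj hex hsurj n n m (add_zero n).symm hm
  -- multiplication by `y` is injective in large degrees
  have hinjH : ∀ i n, NC ≤ n + 1 → ∀ x ∈ E.Hcomp a i n, y • x = 0 → x = 0 := by
    intro i n hn x hx hyx
    obtain ⟨α, β, δ, hα, -, h0, h1, h2, h3⟩ := hles (n + 1) n (by ring)
    have hαx : α i ⟨x, hx⟩ = 0 := by
      refine Subtype.ext ?_
      rw [hα]
      exact (Hmap_smul_id E a i hy hf x).trans hyx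
    rcases i with _ | i
    · exact congrArg Subtype.val (h0 (hαx.trans (map_zero _).symm))
    · obtain ⟨z, hz⟩ := (h3 i _).1 hαx
      rw [eq_zero_of_eq_bot (hvC i (n + 1) hn) z, map_zero] at hz
      exact (congrArg Subtype.val hz).symm
  have hvan : ∀ i (k : ℕ) (n : ℤ), NC ≤ n + 1 → ∀ x ∈ E.Hcomp a i n, y ^ k • x = 0 → x = 0 := by
    intro i k
    induction k with
    | zero => intro n _ x _ h; rwa [pow_zero, one_smul] at h
    | succ k ih =>
      intro n hn x hx h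
      refine hinjH i n hn x hx (ih (n + 1) (by omega) (y • x) ?_ ?_)
      · have := Hmap_mem E E a i hf hx
        rwa [Hmap_smul_id E a i hy hf x] at this
      · rwa [smul_smul, ← pow_succ]
  have hv : ∀ i n, NC - 1 ≤ n → E.Hcomp a i n = ⊥ := by
    intro i n hn
    rw [Submodule.eq_bot_iff]
    intro x hx
    have hx' : x ∈ gam a.toIdeal (E.H a i) := by rw [gam_H]; trivial
    obtain ⟨k, hk⟩ := hx'
    exact hvan i k n (by omega) x hx (hk _ (Ideal.pow_mem_pow hya k))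
  have hfin' : ∀ (k : ℕ) i n, NC - 1 - k ≤ n → IsFiniteLength (GrLC.deg0 𝒜) (E.Hcomp a i n) := by
    intro k
    induction k with
    | zero => intro i n hn; exact fl_of_eq_bot (hv i n (by simpa using hn))
    | succ k ih =>
      intro i n hn
      obtain ⟨α, β, δ, -, -, h0, h1, h2, h3⟩ := hles (n + 1) n (by ring)
      rcases i with _ | i
      · exact fl_of_injective (α 0) h0 (ih 0 (n + 1) (by push_cast at hn; omega))
      · exact fl_of_exact (δ i) (α (i + 1)) (h3 i) (hfC i (n + 1))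
          (ih (i + 1) (n + 1) (by push_cast at hn; omega))
  have hfB : ∀ i n, IsFiniteLength (GrLC.deg0 𝒜) (E.Hcomp a i n) := by
    intro i n
    exact hfin' (NC - 1 - n).toNat i n (by omega)
  have hdiff : ∀ n : ℤ, (len (GrLC.deg0 𝒜) (comp 𝒜 X.gr n) - chi E a D n) -
      (len (GrLC.deg0 𝒜) (comp 𝒜 X.gr (n - 1)) - chi E a D (n - 1)) = pC.eval (n : ℚ) := by
    intro n
    obtain ⟨α, β, δ, -, -, h0, h1, h2, h3⟩ := hles n (n - 1) rfl
    have hsub : Subsingleton (E.Hcomp a (D + 1) (n - 1)) := subsingleton_of_eq_bot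
      (Hcomp_eq_bot_of_subsingleton E a (D + 1) (hD X E (D + 1) (by omega)) (n - 1))
    have he := euler (fun i => E.Hcomp a i (n - 1)) (fun i => E.Hcomp a i n) (fun i => EC.Hcomp a i n)
      α β δ h0 h1 h2 h3 (fun i => hfB i (n - 1)) (fun i => hfB i n) (fun i => hfC i n) D hsub
    rw [← hpC, len_add (f' n) (g' n) (hf' n) (hg' n) (hex' n) (hfl n), chi, he, chi, chi]
    ring
  obtain ⟨p, hp, hdeg⟩ := Poly.exists_polynomial _ pC hdiff
  refine ⟨NC - 1, p, fun d hd => ?_, hfB, hv, hp⟩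
  rcases d with _ | e
  · -- `X = 0`
    have htop : q ⊔ Ideal.span {y} = ⊤ := sup_eq_top_of_ringKrullDim_le q hyq (by simpa using hd)
    have hsur : ∀ x : X.carrier, ∃ x', (y • (LinearMap.id : X.carrier →ₗ[R] X.carrier)) x' = x := by
      intro x
      have h1 : (1 : R) ∈ q ⊔ Ideal.span {y} := htop ▸ trivial
      obtain ⟨s, hs, t, ht, hst⟩ := Submodule.mem_sup.1 h1
      obtain ⟨t, rfl⟩ := Ideal.mem_span_singleton'.1 ht
      refine ⟨t • x, ?_⟩
      have : (s + t * y) • x = x := by rw [hst, one_smul]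
      rw [add_smul, hqX s hs, zero_add, mul_comm, mul_smul] at this
      exact this
    obtain ⟨N0, hN0⟩ := exists_lower X.gr (𝒜 := 𝒜) hpos
    have hzero : ∀ (k : ℕ) (n : ℤ), n < N0 + k → ∀ x ∈ X.gr n, x = 0 := by
      intro k
      induction k with
      | zero => intro n hn; exact hN0 n (by simpa using hn)
      | succ k ih =>
        intro n hn x hx
        obtain ⟨x', hx', rfl⟩ := PieceLES.exists_preimage X.gr X.gr hf hx (hsur x)
        rw [ih (n - 1) (by push_cast at hn; omega) x' hx', map_zero]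
    have hX0 : ∀ x : X.carrier, x = 0 := by
      intro x
      refine eq_zero_of_pr X.gr fun i => ?_
      exact hzero (i + 1 - N0).toNat i (by omega) _ (pr_mem X.gr i x)
    obtain ⟨N', p', hd', -, -, hp'⟩ := good_tors hapos D q X hfin (fun r _ x => hX0 _) hfl E
    have hpp : p = p' := Poly.eq_of_eventually p p' 0 fun n _ => by rw [← hp', ← hp]
    rw [hpp]
    exact hd' 0 hd
  · refine hdeg e (hdC e ?_)
    have h1 := (ringKrullDim_sup_succ_le q hyq).trans hd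
    rw [Nat.cast_succ] at h1
    exact ENat.WithBot.add_le_add_one_right_iff.1 h1

/-- graded local cohomology vanishes above the number of generators -/
lemma exists_cd [IsNoetherianRing R] (a : HomogeneousIdeal 𝒜) : ∃ D : ℕ, ∀ (X : GMod.{u} 𝒜)
    (E : StarInjRes 𝒜 X.gr) (i : ℕ), D < i → Subsingleton (E.H a i) := by
  obtain ⟨s, hs⟩ := (isNoetherianRing_iff_ideal_fg R).1 inferInstance a.toIdeal
  refine ⟨s.card, fun X E i hi => ?_⟩
  obtain ⟨e⟩ := K759.AcycInj.nonempty_equiv E a i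
  have h : LocCoh.CdLE R a.toIdeal s.card := hs ▸ Groth.Agent.Localalg.LCRows.cdLE_card s
  haveI := h X.carrier i hi
  exact e.toEquiv.subsingleton

/-- **Main theorem**. -/
theorem main [IsNoetherianRing R] {a : HomogeneousIdeal 𝒜}
    (hpos : ∀ n : ℤ, n < 0 → ∀ x ∈ 𝒜 n, x = 0)
    (hapos : ∀ n : ℤ, 0 < n → ∀ r ∈ 𝒜 n, r ∈ a.toIdeal)
    (hgen : ∀ q : Ideal R, q.IsPrime → q.IsHomogeneous 𝒜 → ¬ a.toIdeal ≤ q →
      ∃ y ∈ 𝒜 1, y ∉ q) {D : ℕ}
    (hD : ∀ (X : GMod.{u} 𝒜) (E : StarInjRes 𝒜 X.gr) (i : ℕ), D < i → Subsingleton (E.H a i))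
    (I : Ideal R) (X : GMod.{u} 𝒜) (hfin : Module.Finite R X.carrier)
    (hI : ∀ r ∈ I, ∀ x : X.carrier, r • x = 0) : Good a D I X := by
  refine Dev.main (𝒜 := 𝒜) (a := a) (D := fun k => k = 1) (P := Good a D) ?_ ?_ I X hfin hI
  · refine ⟨?_, ?_, ?_, ?_⟩
    · intro I J X hIJ h hfl E
      obtain ⟨N, p, hd, hf, hv, hp⟩ := h hfl E
      refine ⟨N, p, fun d hd' => hd d (le_trans ?_ hd'), hf, hv, hp⟩
      exact ringKrullDim_le_of_surjective (Ideal.Quotient.factor hIJ) (Ideal.Quotient.factor_surjective hIJ)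
    · intro I A B C f g _ hf hg hinj hex hsurj _ hA hC
      exact good_ext hD I A B C f g hf hg hinj hex hsurj hA hC
    · intro I X hfin hX
      exact good_tors hapos D I X hfin hX
    · rintro q k y X C g hq rfl hy hya hyq hfin hqX hg hsurj hker hreg hC
      exact good_reg hpos hapos hD q y X C g hq hy hya hyq hfin hg hqX hsurj hker hreg hC
  · intro q hq hqh haq
    obtain ⟨y, hy, hyq⟩ := hgen q hq hqh haq
    exact ⟨1, rfl, y, hy, hapos 1 one_pos y hy, hyq⟩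

end Main

section Unbundled

variable {R : Type u} [CommRing R] {σ : Type u} [SetLike σ R] [AddSubgroupClass σ R] {𝒜 : ℤ → σ} [GradedRing 𝒜]
  {M : Type u} [AddCommGroup M] [Module R M] {τ : Type u} [SetLike τ M] [AddSubgroupClass τ M]
  {ℳ : ℤ → τ} [Decomposition ℳ] [SetLike.GradedSMul 𝒜 ℳ]

/-- Hilbert function minus the alternating sum of lengths of local cohomology is a polynomial. -/
theorem exists_poly [IsNoetherianRing R] {a : HomogeneousIdeal 𝒜}
    (hpos : ∀ n : ℤ, n < 0 → ∀ x ∈ 𝒜 n, x = 0)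
    (hapos : ∀ n : ℤ, 0 < n → ∀ r ∈ 𝒜 n, r ∈ a.toIdeal)
    (hgen : ∀ q : Ideal R, q.IsPrime → q.IsHomogeneous 𝒜 → ¬ a.toIdeal ≤ q → ∃ y ∈ 𝒜 1, y ∉ q)
    [Module.Finite R M] (hfl : ∀ n, IsFiniteLength (GrLC.deg0 𝒜) (comp 𝒜 ℳ n))
    (E : StarInjRes 𝒜 ℳ) :
    ∃ (N : ℤ) (p : ℚ[X]), (∀ d : ℕ, ringKrullDim R ≤ d → p.degree < (d : WithBot ℕ)) ∧
      (∀ i n, IsFiniteLength (GrLC.deg0 𝒜) (E.Hcomp a i n)) ∧
      (∀ i n, N ≤ n → E.Hcomp a i n = ⊥) ∧
      ∀ D : ℕ, (∀ i n, D < i → E.Hcomp a i n = ⊥) →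
        ∀ n : ℤ, len (GrLC.deg0 𝒜) (comp 𝒜 ℳ n) - chi E a D n = p.eval (n : ℚ) := by
  obtain ⟨D₀, hD₀⟩ := exists_cd (𝒜 := 𝒜) a
  let X : GMod.{u} 𝒜 := K963.Cat.toGMod 𝒜 ℳ
  obtain ⟨E'⟩ := nonempty_res 𝒜 X.gr
  have hG := main (a := a) hpos hapos hgen hD₀ ⊥ X (show Module.Finite R M from inferInstance)
    (fun r hr x => by rw [(Submodule.mem_bot R).1 hr, zero_smul])
  obtain ⟨N, p, hd, hf, hv, hp⟩ := hG hfl E'
  have he : IsGrHomDeg X.gr ℳ (LinearEquiv.refl R M).toLinearMap 0 := by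
    intro n x hx
    rw [add_zero]
    exact hx
  have hH : ∀ i n, Nonempty (E'.Hcomp a i n ≃ₗ[GrLC.deg0 𝒜] E.Hcomp a i n) := fun i n =>
    PieceLES.nonempty_pieceEquiv E' E a (LinearEquiv.refl R M) he i n n (add_zero n).symm
  have hvE : ∀ i n, E'.Hcomp a i n = ⊥ → E.Hcomp a i n = ⊥ := by
    intro i n h
    obtain ⟨e⟩ := hH i n
    haveI := subsingleton_of_eq_bot h
    have := e.symm.toEquiv.subsingleton
    rw [Submodule.eq_bot_iff]
    intro x hx
    exact congrArg Subtype.val (Subsingleton.elim (⟨x, hx⟩ : E.Hcomp a i n) 0)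
  refine ⟨N, p, fun d hd' => hd d ?_, fun i n => ?_, fun i n hn => hvE i n (hv i n hn), ?_⟩
  · rwa [ringKrullDim_eq_of_ringEquiv (RingEquiv.quotientBot R)]
  · obtain ⟨e⟩ := hH i n
    exact fl_of_surjective e.toLinearMap e.surjective (hf i n)
  · intro D hD n
    have h1 : chi E a D n = chi E a (max D D₀) n := chi_eq_of_le E a (le_max_left _ _) n fun i hi => hD i n hi
    have h2 : chi E a D₀ n = chi E a (max D D₀) n := chi_eq_of_le E a (le_max_right _ _) n fun i hi =>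
      hvE i n (Hcomp_eq_bot_of_subsingleton E' a i (hD₀ X E' i hi) n)
    have h3 : chi E a D₀ n = chi E' a D₀ n := by
      rw [chi, chi]
      refine Finset.sum_congr rfl fun i _ => ?_
      obtain ⟨e⟩ := hH i n
      rw [len_congr e]
    rw [h1, ← h2, h3]
    exact hp n

end Unbundled

end K761.Hilb
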