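import Groth.Agent.GrLC.K761.Hilb
import Groth.Agent.GrLC.K761.CMVan
import Groth.Agent.GrLC.K761.Art
import Groth.Agent.Localalg.LCIface

/-! # Standard graded *local rings with Artinian degree zero part (seat 761) -/

set_option autoImplicit false
set_option linter.unusedSectionVars false
set_option linter.style.haveILetI false

universe u

open DirectSum K761.Gr GrLC K963.Iface K761.Len
open scoped Polynomial

namespace K761.HilbStd

variable {R : Type u} [CommRing R] [IsNoetherianRing R] {𝒜 : ℤ → AddSubgroup R} [GradedRing 𝒜]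
  (hpos : ∀ n : ℤ, n < 0 → 𝒜 n = ⊥)
  (hstd : Ideal.span (⋃ n ∈ Set.Ioi (0 : ℤ), (𝒜 n : Set R)) = Ideal.span ((𝒜 1 : AddSubgroup R) : Set R))
  [IsArtinianRing (GrLC.deg0 𝒜)] {m : HomogeneousIdeal 𝒜} (hm : GrLC.IsStarLocal 𝒜 m)

include hpos in
lemma hpos' : ∀ n : ℤ, n < 0 → ∀ x ∈ 𝒜 n, x = 0 := fun n hn x hx => by
  rw [hpos n hn] at hx
  exact hx

include hpos hstd hm in
lemma hgen (q : Ideal R) (hq : q.IsPrime) (hqh : q.IsHomogeneous 𝒜) (hmq : ¬ m.toIdeal ≤ q) :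
    ∃ y ∈ 𝒜 1, y ∉ q := by
  classical
  by_contra hcon
  push Not at hcon
  have h1 : ∀ n : ℤ, 0 < n → ∀ y ∈ 𝒜 n, y ∈ q := by
    intro n hn y hy
    have h2 : y ∈ Ideal.span (⋃ n ∈ Set.Ioi (0 : ℤ), (𝒜 n : Set R)) := by
      refine Ideal.subset_span ?_
      simp only [Set.mem_iUnion]
      exact ⟨n, hn, hy⟩
    rw [hstd] at h2
    exact (Ideal.span_le.2 fun z hz => hcon z hz) h2
  have hqm : q ≤ m.toIdeal := StarLoc.le_of_isHomogeneous hm hqh hq.ne_top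
  haveI hq0 : (q.comap (GrLC.deg0 𝒜).subtype).IsPrime := Ideal.comap_isPrime _ _
  haveI hq1 : (q.comap (GrLC.deg0 𝒜).subtype).IsMaximal := IsArtinianRing.isMaximal_of_isPrime _
  have hm0 : m.toIdeal.comap (GrLC.deg0 𝒜).subtype ≠ ⊤ := by
    intro h
    have : (1 : GrLC.deg0 𝒜) ∈ m.toIdeal.comap (GrLC.deg0 𝒜).subtype := h ▸ trivial
    exact StarLoc.one_notMem_of_isStarLocal hm this
  have heq : q.comap (GrLC.deg0 𝒜).subtype = m.toIdeal.comap (GrLC.deg0 𝒜).subtype :=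
    hq1.eq_of_le hm0 (Ideal.comap_mono hqm)
  apply hmq
  intro x hx
  obtain ⟨s, -, hs'⟩ := exists_sum_pr 𝒜 x
  rw [← hs' s le_rfl]
  refine sum_mem fun i _ => ?_
  have hxi : pr 𝒜 i x ∈ m.toIdeal := m.isHomogeneous i hx
  rcases lt_trichotomy i 0 with h | h | h
  · rw [hpos' hpos i h _ (pr_mem 𝒜 i x)]; exact zero_mem _
  · subst h
    have : (⟨pr 𝒜 0 x, pr_mem 𝒜 0 x⟩ : GrLC.deg0 𝒜) ∈ m.toIdeal.comap (GrLC.deg0 𝒜).subtype := hxi
    rw [← heq] at this
    exact this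
  · exact h1 i h _ (pr_mem 𝒜 i x)

variable {M : Type u} [AddCommGroup M] [Module R M] [Module.Finite R M] {τ : Type u} [SetLike τ M]
  [AddSubgroupClass τ M] {ℳ : ℤ → τ} [Decomposition ℳ] [SetLike.GradedSMul 𝒜 ℳ]

variable (𝒜 ℳ) in
lemma fl_comp (n : ℤ) : IsFiniteLength (GrLC.deg0 𝒜) (comp 𝒜 ℳ n) := by
  haveI : IsNoetherian R M := isNoetherian_of_isNoetherianRing_of_finite R M
  haveI : IsNoetherian (GrLC.deg0 𝒜) (comp 𝒜 ℳ n) := Art.isNoetherian_piece 𝒜 ℳ (comp 𝒜 ℳ n) fun x hx => hx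
  rw [isFiniteLength_iff_isNoetherian_isArtinian]
  exact ⟨inferInstance, inferInstance⟩

lemma hvan {d : ℕ} (hd : ringKrullDim R = d) (E : StarInjRes 𝒜 ℳ) (a : HomogeneousIdeal 𝒜) (i : ℕ) (n : ℤ)
    (hi : d < i) : E.Hcomp a i n = ⊥ := by
  obtain ⟨e⟩ := K759.AcycInj.nonempty_equiv E a i
  haveI := Groth.Agent.Localalg.LCIface.subsingleton_of_supportDim_lt a.toIdeal M i
    (lt_of_le_of_lt ((Module.supportDim_le_ringKrullDim R M).trans hd.le) (by exact_mod_cast hi))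
  haveI := e.toEquiv.subsingleton
  exact Subsingleton.elim _ _

include hpos hstd hm in
/-- The fundamental formula. -/
theorem exists_poly {d : ℕ} (hd : ringKrullDim R = d) (E : StarInjRes 𝒜 ℳ) :
    ∃ (N : ℤ) (p : ℚ[X]), p.degree < (d : WithBot ℕ) ∧
      (∀ i n, IsFiniteLength (GrLC.deg0 𝒜) (E.Hcomp m i n)) ∧
      (∀ i n, N ≤ n → E.Hcomp m i n = ⊥) ∧
        ∀ n : ℤ, len (GrLC.deg0 𝒜) (comp 𝒜 ℳ n) - Hilb.chi E m d n = p.eval (n : ℚ) := by
  obtain ⟨N, p, hdeg, hf, hv, hp⟩ := Hilb.exists_poly (a := m) (hpos' hpos)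
    (fun n hn r hr => StarLoc.mem_of_pos (hpos' hpos) hm hn hr) (hgen hpos hstd hm) (fl_comp 𝒜 ℳ) E
  exact ⟨N, p, hdeg d hd.le, hf, hv, hp d fun i n hi => hvan hd E m i n hi⟩

include hpos hstd hm in
/-- The formula for a given Hilbert polynomial. -/
theorem formula {d : ℕ} (hd : ringKrullDim R = d) (E : StarInjRes 𝒜 ℳ) (P : ℚ[X])
    (hP : ∃ N : ℤ, ∀ n : ℤ, N ≤ n → P.eval (n : ℚ) = len (GrLC.deg0 𝒜) (comp 𝒜 ℳ n)) (n : ℤ) :
    len (GrLC.deg0 𝒜) (comp 𝒜 ℳ n) - P.eval (n : ℚ) = Hilb.chi E m d n := by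
  obtain ⟨N, p, -, -, hv, hp⟩ := exists_poly hpos hstd hm hd E
  obtain ⟨N', hN'⟩ := hP
  have hPp : P = p := by
    refine Poly.eq_of_eventually P p (max N N') fun n hn => ?_
    have h0 : Hilb.chi E m d n = 0 := by
      rw [Hilb.chi]
      refine Finset.sum_eq_zero fun i _ => ?_
      rw [Hilb.len_eq_zero_of_eq_bot (hv i n ((le_max_left _ _).trans hn)), mul_zero]
    rw [hN' n ((le_max_right _ _).trans hn), ← hp, h0, sub_zero]
  rw [hPp, ← hp]
  ring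

section CM

omit [IsNoetherianRing R]
variable [LocCoh.IsCohenMacaulayRing R]

include hpos hm in
lemma chi_eq {d : ℕ} (hd : ringKrullDim R = d) (I : StarInjRes 𝒜 𝒜) (n : ℤ) :
    Hilb.chi I m d n = (-1 : ℚ) ^ d * len (GrLC.deg0 𝒜) (I.Hcomp m d n) := by
  haveI := StarLoc.isMaximal (hpos' hpos) hm
  have hht : m.toIdeal.height = d := by
    have h := CoreHt.ringKrullDim_eq_height 𝒜 (hpos' hpos) hm
    rw [hd] at h
    exact (WithBot.coe_injective h).symm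
  rw [Hilb.chi, Finset.sum_eq_single d]
  · intro i hi hne
    rw [Hilb.len_eq_zero_of_eq_bot (CMVan.Hcomp_eq_bot_of_lt_height m hht I
      (lt_of_le_of_ne (Nat.lt_succ_iff.1 (Finset.mem_range.1 hi)) hne) n), mul_zero]
  · intro h
    exact absurd (Finset.mem_range.2 (Nat.lt_succ_self d)) h

include hpos hstd hm in
/-- the `a`-invariant is at least `-d` -/
theorem neg_dim_le {d : ℕ} (hd : ringKrullDim R = d) (I : StarInjRes 𝒜 𝒜) :
    (((-(d : ℤ) : ℤ) : WithTop ℤ) : WithBot (WithTop ℤ)) ≤ GrLC.endDeg (I.Hgr m d) := by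
  obtain ⟨N, p, hdeg, hf, hv, hp⟩ := exists_poly hpos hstd hm hd I
  have key : ∃ n : ℤ, -(d : ℤ) ≤ n ∧ I.Hcomp m d n ≠ ⊥ := by
    by_contra hcon
    push Not at hcon
    have hchi : ∀ n : ℤ, -(d : ℤ) ≤ n → Hilb.chi I m d n = 0 := by
      intro n hn
      rw [chi_eq hpos hm hd I n, Hilb.len_eq_zero_of_eq_bot (hcon n hn), mul_zero]
    have hp0 : p = 0 := by
      refine Poly.eq_zero_of_roots p d hdeg fun j hj => ?_
      have h1 := hp (-((j : ℤ) + 1))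
      rw [hchi _ (by omega), sub_zero] at h1
      have h2 : len (GrLC.deg0 𝒜) (comp 𝒜 𝒜 (-((j : ℤ) + 1))) = 0 := by
        refine Hilb.len_eq_zero_of_eq_bot ?_
        rw [Submodule.eq_bot_iff]
        exact fun x hx => hpos' hpos _ (by omega) x hx
      rw [h2] at h1
      push_cast at h1
      exact h1.symm
    have h3 := hp 0
    rw [hchi 0 (by omega), sub_zero, hp0, Polynomial.eval_zero] at h3
    have : Nontrivial (comp 𝒜 𝒜 0) := by
      refine ⟨⟨⟨1, SetLike.one_mem_graded 𝒜⟩, 0, fun h => ?_⟩⟩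
      have h1 : (1 : R) = 0 := congrArg Subtype.val h
      exact StarLoc.one_notMem_of_isStarLocal hm (h1 ▸ zero_mem _)
    exact len_ne_zero (fl_comp 𝒜 𝒜 0) h3
  obtain ⟨n, hn, hne⟩ := key
  have hne' : I.Hgr m d n ≠ ⊥ := fun h => hne (by
    rw [Submodule.eq_bot_iff]
    intro x hx
    have : x ∈ I.Hgr m d n := hx
    rw [h] at this
    exact this)
  refine le_trans ?_ (le_iSup₂_of_le n hne' le_rfl)
  exact_mod_cast hn

include hpos hstd hm in
/-- the nonzero degrees of the top local cohomology -/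
theorem Hgr_ne_bot_iff {d : ℕ} (hd : ringKrullDim R = d) (I : StarInjRes 𝒜 𝒜) (P : ℚ[X])
    (hP : ∃ N : ℤ, ∀ n : ℤ, N ≤ n → P.eval (n : ℚ) = len (GrLC.deg0 𝒜) (comp 𝒜 𝒜 n)) (n : ℤ) :
    I.Hgr m d n ≠ ⊥ ↔ P.eval (n : ℚ) ≠ len (GrLC.deg0 𝒜) (comp 𝒜 𝒜 n) := by
  obtain ⟨N, p, hdeg, hf, hv, hp⟩ := exists_poly hpos hstd hm hd I
  have h1 := formula hpos hstd hm hd I P hP n
  rw [chi_eq hpos hm hd I n] at h1
  have h2 : I.Hgr m d n = ⊥ ↔ I.Hcomp m d n = ⊥ := by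
    constructor
    · intro h
      rw [Submodule.eq_bot_iff]
      intro x hx
      have : x ∈ I.Hgr m d n := hx
      rw [h] at this
      exact this
    · intro h
      rw [AddSubgroup.eq_bot_iff_forall]
      intro x hx
      have : x ∈ I.Hcomp m d n := hx
      rw [h] at this
      exact this
  rw [Ne, h2, Ne, not_iff_not]
  constructor
  · intro h
    rw [Hilb.len_eq_zero_of_eq_bot h, mul_zero, sub_eq_zero] at h1
    exact h1.symm
  · intro h
    rw [h, sub_self] at h1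
    have h3 : len (GrLC.deg0 𝒜) (I.Hcomp m d n) = 0 := by
      have h4 : (-1 : ℚ) ^ d ≠ 0 := pow_ne_zero _ (by norm_num)
      exact (mul_eq_zero.1 h1.symm).resolve_left h4
    by_contra hne
    haveI : Nontrivial (I.Hcomp m d n) := (Submodule.nontrivial_iff_ne_bot).2 hne
    exact len_ne_zero (hf d n) h3

end CM

end K761.HilbStd
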