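import Groth.Agent.GrLC.K761.BassCrit
import Groth.Agent.GrLC.K761.Baer
import Mathlib.RingTheory.GradedAlgebra.Radical
import Mathlib.RingTheory.Ideal.AssociatedPrime.Basic

/-! # When is a *injective module over a `ℤ`-graded ring injective? (seat 761) -/

set_option autoImplicit false
set_option linter.unusedSectionVars false
set_option linter.style.haveILetI false
universe u

open DirectSum K761.Gr

namespace K761.Gr

section

variable {ι : Type} [AddCommGroup ι] [DecidableEq ι]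
  {R : Type u} [CommRing R] {σ : Type u} [SetLike σ R] [AddSubgroupClass σ R] {𝒜 : ι → σ} [GradedRing 𝒜]
  {M : Type u} [AddCommGroup M] [Module R M] {τ : Type u} [SetLike τ M] [AddSubgroupClass τ M]
  (ℳ : ι → τ) [Decomposition ℳ] [SetLike.GradedSMul 𝒜 ℳ]

/-- components of a product -/
lemma pr_smul_sum (a : R) (z : M) (n : ι) (s : Finset ι) (hs : ∀ b, b ∉ s → pr 𝒜 b a = 0) :
    pr ℳ n (a • z) = ∑ b ∈ s, pr 𝒜 b a • pr ℳ (n - b) z := by
  obtain ⟨t, _, ht⟩ := exists_sum_pr 𝒜 a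
  have h1 : ∑ b ∈ s, pr 𝒜 b a = a :=
    (Finset.sum_subset (Finset.subset_union_left (s₂ := t)) fun b _ hb => hs b hb).trans
      (ht _ Finset.subset_union_right)
  conv_lhs => rw [← h1]
  rw [Finset.sum_smul, map_sum]
  exact Finset.sum_congr rfl fun b _ => pr_smul' ℳ (pr_mem 𝒜 b a) z n

/-- the annihilator of a homogeneous element is homogeneous -/
lemma pr_smul_eq_zero {j : ι} {m : M} (hm : m ∈ ℳ j) {r : R} (hr : r • m = 0) (i : ι) :
    pr 𝒜 i r • m = 0 := by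
  rw [← pr_smul_right 𝒜 ℳ r hm i, hr, map_zero]

/-- if a homogeneous ideal kills `m` then it kills the components of `m` -/
lemma smul_pr_eq_zero {q : Ideal R} (hq : q.IsHomogeneous 𝒜) {m : M} (hm : ∀ r ∈ q, r • m = 0) (i : ι)
    {r : R} (hr : r ∈ q) : r • pr ℳ i m = 0 := by
  classical
  rw [← sum_pr 𝒜 r, Finset.sum_smul]
  refine Finset.sum_eq_zero fun j _ => ?_
  rw [← pr_smul ℳ (pr_mem 𝒜 j r) m i, hm (pr 𝒜 j r) (hq j hr), map_zero]

end

end K761.Gr

namespace K761.Baer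

section Tors

variable {ι : Type} [AddCommGroup ι] [DecidableEq ι]
  {R : Type u} [CommRing R] {σ : Type u} [SetLike σ R] [AddSubgroupClass σ R] (𝒜 : ι → σ) [GradedRing 𝒜]
  {M : Type u} [AddCommGroup M] [Module R M] {τ : Type u} [SetLike τ M] [AddSubgroupClass τ M]
  (ℳ : ι → τ) [Decomposition ℳ] [SetLike.GradedSMul 𝒜 ℳ]

/-- elements killed by a homogeneous element outside the prime `q` -/
def homTors (q : Ideal R) [q.IsPrime] (M : Type u) [AddCommGroup M] [Module R M] : Submodule R M where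
  carrier := {z | ∃ (i : ι) (s : R), s ∈ 𝒜 i ∧ s ∉ q ∧ s • z = 0}
  zero_mem' := ⟨0, 1, SetLike.one_mem_graded 𝒜, fun h => Ideal.IsPrime.ne_top ‹_› ((Ideal.eq_top_iff_one q).2 h),
    smul_zero _⟩
  add_mem' := by
    rintro a b ⟨i, s, hs, hsq, h⟩ ⟨j, t, ht, htq, h'⟩
    refine ⟨i + j, s * t, SetLike.mul_mem_graded hs ht, fun h => ?_, ?_⟩
    · exact (Ideal.IsPrime.mem_or_mem ‹_› h).elim hsq htq
    · rw [smul_add, mul_smul, mul_smul, smul_comm s t a, h, h', smul_zero, smul_zero, add_zero]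
  smul_mem' := by
    rintro r a ⟨i, s, hs, hsq, h⟩
    exact ⟨i, s, hs, hsq, by rw [smul_comm, h, smul_zero]⟩

lemma mem_homTors {q : Ideal R} [q.IsPrime] {z : M} :
    z ∈ homTors 𝒜 q M ↔ ∃ (i : ι) (s : R), s ∈ 𝒜 i ∧ s ∉ q ∧ s • z = 0 := Iff.rfl

variable {𝒜} in
lemma mem_homTors_of_smul {q : Ideal R} [q.IsPrime] {z : M} {i : ι} {s : R} (hs : s ∈ 𝒜 i) (hsq : s ∉ q)
    (h : s • z ∈ homTors 𝒜 q M) : z ∈ homTors 𝒜 q M := by
  obtain ⟨j, t, ht, htq, h'⟩ := h
  refine ⟨j + i, t * s, SetLike.mul_mem_graded ht hs, fun h => ?_, ?_⟩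
  · exact (Ideal.IsPrime.mem_or_mem ‹_› h).elim htq hsq
  · rw [mul_smul, h']

include ℳ in
/-- If `q ∈ Ass M` fails (`q` a graded prime), everything killed by `q` is killed by some homogeneous
element outside `q`. -/
lemma mem_homTors_of_not_mem_ass [IsNoetherianRing R] {q : Ideal R} [q.IsPrime] (hq : q.IsHomogeneous 𝒜)
    (hass : q ∉ associatedPrimes R M) {m : M} (hm : ∀ r ∈ q, r • m = 0) : m ∈ homTors 𝒜 q M := by
  classical
  rw [← sum_pr ℳ m]
  refine sum_mem fun i _ => ?_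
  by_contra hc
  apply hass
  rw [AssociatedPrimes.mem_iff]
  refine (Submodule.isAssociatedPrime_iff).2 ⟨inferInstance, pr ℳ i m, ?_⟩
  ext r
  rw [Submodule.mem_colon_singleton, Submodule.mem_bot]
  constructor
  · exact fun hr => smul_pr_eq_zero ℳ hq hm i hr
  · intro hr
    by_contra hrq
    have : ∃ j, pr 𝒜 j r ∉ q := by
      by_contra hall
      push Not at hall
      apply hrq
      rw [← sum_pr 𝒜 r]
      exact sum_mem fun j _ => hall j
    obtain ⟨j, hj⟩ := this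
    exact hc ⟨j, pr 𝒜 j r, pr_mem 𝒜 j r, hj, pr_smul_eq_zero ℳ (pr_mem ℳ i m) hr j⟩

end Tors

section Int

variable {R : Type u} [CommRing R] {σ : Type u} [SetLike σ R] [AddSubgroupClass σ R] (𝒜 : ℤ → σ) [GradedRing 𝒜]
  {M : Type u} [AddCommGroup M] [Module R M] {τ : Type u} [SetLike τ M] [AddSubgroupClass τ M]
  (ℳ : ℤ → τ) [Decomposition ℳ] [SetLike.GradedSMul 𝒜 ℳ]

/-- leading component of a product modulo `homTors`; `ε = ±1` chooses the order of `ℤ`. -/
lemma lead_notMem (q : Ideal R) [q.IsPrime] (ε : ℤ) (a : R) (e : M) (hqe : ∀ r ∈ q, ∀ i, r • pr ℳ i e = 0)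
    (j i : ℤ) (hj : pr 𝒜 j a ∉ q) (hj' : ∀ b, ε * j < ε * b → pr 𝒜 b a ∈ q)
    (hi : pr ℳ i e ∉ homTors 𝒜 q M) (hi' : ∀ c, ε * i < ε * c → pr ℳ c e ∈ homTors 𝒜 q M)
    (hε : ε ≠ 0) : pr ℳ (j + i) (a • e) ∉ homTors 𝒜 q M := by
  classical
  obtain ⟨s, hs, _⟩ := exists_sum_pr 𝒜 a
  intro hmem
  rw [pr_smul_sum ℳ a e (j + i) (insert j s) (fun b hb => hs b fun h => hb (Finset.mem_insert_of_mem h))]
    at hmem
  rw [← Finset.add_sum_erase _ _ (Finset.mem_insert_self j s)] at hmem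
  have h1 : ∑ b ∈ (insert j s).erase j, pr 𝒜 b a • pr ℳ (j + i - b) e ∈ homTors 𝒜 q M := by
    refine sum_mem fun b hb => ?_
    have hbj : b ≠ j := Finset.ne_of_mem_erase hb
    rcases lt_or_ge (ε * j) (ε * b) with h | h
    · rw [hqe _ (hj' b h)]
      exact zero_mem _
    · have h2 : ε * b < ε * j := lt_of_le_of_ne h fun h3 => hbj (mul_left_cancel₀ hε h3)
      refine Submodule.smul_mem _ _ (hi' _ ?_)
      have : ε * (j + i - b) = ε * j + ε * i - ε * b := by ring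
      rw [this]
      linarith
  have h2 := (Submodule.add_mem_iff_left _ h1).1 hmem
  rw [show j + i - j = i by ring] at h2
  exact hi (mem_homTors_of_smul (pr_mem 𝒜 j a) hj h2)

/-- A finite nonempty set of integers has an `ε`-maximum. -/
lemma exists_lead (P : ℤ → Prop) (s : Finset ℤ) (hs : ∀ n, P n → n ∈ s) (hne : ∃ n, P n) (ε : ℤ) :
    ∃ n, P n ∧ ∀ m, ε * n < ε * m → ¬ P m := by
  classical
  obtain ⟨n₀, hn₀⟩ := hne
  obtain ⟨n, hn, hmax⟩ := Finset.exists_max_image (s.filter P) (fun n => ε * n)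
    ⟨n₀, Finset.mem_filter.2 ⟨hs n₀ hn₀, hn₀⟩⟩
  refine ⟨n, (Finset.mem_filter.1 hn).2, fun m hm hPm => ?_⟩
  exact absurd (hmax m (Finset.mem_filter.2 ⟨hs m hPm, hPm⟩)) (not_le.2 hm)

include ℳ in
/-- An injective module over a `ℤ`-graded Noetherian ring which is graded has no associated prime of the
form `p*`, `p` a nongraded prime. -/
theorem core_notMem_ass_of_injective [IsNoetherianRing R] (hM : Module.Injective R M) (p : Ideal R)
    [p.IsPrime] (hp : ¬ p.IsHomogeneous 𝒜) :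
    (Ideal.homogeneousCore 𝒜 p).toIdeal ∉ associatedPrimes R M := by
  classical
  intro hass
  set q := (Ideal.homogeneousCore 𝒜 p).toIdeal with hq_def
  have hqh : q.IsHomogeneous 𝒜 := (Ideal.homogeneousCore 𝒜 p).2
  have hqle : q ≤ p := Ideal.toIdeal_homogeneousCore_le 𝒜 p
  obtain ⟨hqp, x', hx'⟩ := (Submodule.isAssociatedPrime_iff).1 (AssociatedPrimes.mem_iff.1 hass)
  have hx'q : ∀ r : R, r ∈ q ↔ r • x' = 0 := by
    intro r
    rw [hx', Submodule.mem_colon_singleton, Submodule.mem_bot]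
  -- a homogeneous element with annihilator `q`
  obtain ⟨k, x, hxk, hx⟩ : ∃ (k : ℤ) (x : M), x ∈ ℳ k ∧ ∀ r : R, r ∈ q ↔ r • x = 0 := by
    have h1 : x' ∉ homTors 𝒜 q M := by
      rintro ⟨i, s, _, hsq, hs⟩
      exact hsq ((hx'q s).2 hs)
    have h2 : ∃ i, pr ℳ i x' ∉ homTors 𝒜 q M := by
      by_contra hc
      push Not at hc
      apply h1
      rw [← sum_pr ℳ x']
      exact sum_mem fun i _ => hc i
    obtain ⟨i, hi⟩ := h2
    refine ⟨i, pr ℳ i x', pr_mem ℳ i x', fun r => ⟨fun hr => ?_, fun hr => ?_⟩⟩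
    · exact smul_pr_eq_zero ℳ hqh (fun r hr => (hx'q r).1 hr) i hr
    · by_contra hrq
      have : ∃ j, pr 𝒜 j r ∉ q := by
        by_contra hall
        push Not at hall
        apply hrq
        rw [← sum_pr 𝒜 r]
        exact sum_mem fun j _ => hall j
      obtain ⟨j, hj⟩ := this
      exact hi ⟨j, pr 𝒜 j r, pr_mem 𝒜 j r, hj, pr_smul_eq_zero ℳ (pr_mem ℳ i x') hr j⟩
  have hxT : x ∉ homTors 𝒜 q M := by
    rintro ⟨i, s, _, hsq, hs⟩
    exact hsq ((hx s).2 hs)
  -- a nonhomogeneous element of `p` outside `q`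
  obtain ⟨a, hap, haq⟩ : ∃ a ∈ p, a ∉ q := by
    by_contra hc
    push Not at hc
    have : q = p := le_antisymm hqle hc
    exact hp (this ▸ hqh)
  -- solve `a e = x`, `q e = 0`
  obtain ⟨e, hae, hqe⟩ : ∃ e : M, a • e = x ∧ ∀ r ∈ q, r • e = 0 := by
    let φ : (R ⧸ q) →ₗ[R] M := Submodule.liftQ q (LinearMap.toSpanSingleton R M x)
      (fun r hr => (hx r).1 hr)
    let μ : (R ⧸ q) →ₗ[R] (R ⧸ q) := a • LinearMap.id
    have hμ : Function.Injective μ := by
      have := Groth.Agent.Localalg.InjDim.isSMulRegular_quotient_prime q a haq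
      exact this
    obtain ⟨h, hh⟩ := hM.out μ hμ φ
    refine ⟨h (Submodule.Quotient.mk 1), ?_, fun r hr => ?_⟩
    · rw [← map_smul]
      have := hh (Submodule.Quotient.mk 1)
      rw [show φ (Submodule.Quotient.mk 1) = x from one_smul R x] at this
      exact this
    · rw [← map_smul, ← Submodule.Quotient.mk_smul, smul_eq_mul, mul_one,
        (Submodule.Quotient.mk_eq_zero q).2 hr, map_zero]
  have hqe' : ∀ r ∈ q, ∀ i, r • pr ℳ i e = 0 := fun r hr i => smul_pr_eq_zero ℳ hqh hqe i hr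
  obtain ⟨sa, hsa, hsa'⟩ := exists_sum_pr 𝒜 a
  obtain ⟨se, hse, hse'⟩ := exists_sum_pr ℳ e
  have hja : ∃ j, pr 𝒜 j a ∉ q := by
    by_contra hc
    push Not at hc
    apply haq
    rw [← hsa' sa subset_rfl]
    exact sum_mem fun j _ => hc j
  have hie : ∃ i, pr ℳ i e ∉ homTors 𝒜 q M := by
    by_contra hc
    push Not at hc
    apply hxT
    rw [← hae]
    refine Submodule.smul_mem _ _ ?_
    rw [← hse' se subset_rfl]
    exact sum_mem fun j _ => hc j
  have key : ∀ ε : ℤ, ε ≠ 0 → ∃ j i, pr 𝒜 j a ∉ q ∧ (∀ b, ε * j < ε * b → pr 𝒜 b a ∈ q) ∧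
      pr ℳ i e ∉ homTors 𝒜 q M ∧ (∀ c, ε * i < ε * c → pr ℳ c e ∈ homTors 𝒜 q M) ∧ j + i = k := by
    intro ε hε
    obtain ⟨j, hj, hj'⟩ := exists_lead (fun j => pr 𝒜 j a ∉ q) sa
      (fun n hn => by
        by_contra hc
        exact hn (by rw [hsa n hc]; exact zero_mem _)) hja ε
    obtain ⟨i, hi, hi'⟩ := exists_lead (fun i => pr ℳ i e ∉ homTors 𝒜 q M) se
      (fun n hn => by
        by_contra hc
        exact hn (by rw [hse n hc]; exact zero_mem _)) hie ε
    refine ⟨j, i, hj, fun b hb => not_not.1 (hj' b hb), hi, fun c hc => not_not.1 (hi' c hc), ?_⟩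
    have h := lead_notMem 𝒜 ℳ q ε a e hqe' j i hj (fun b hb => not_not.1 (hj' b hb)) hi
      (fun c hc => not_not.1 (hi' c hc)) hε
    by_contra hne
    apply h
    rw [hae, pr_of_mem_ne hxk (Ne.symm hne)]
    exact zero_mem _
  obtain ⟨j₁, i₁, hj₁, hj₁', hi₁, hi₁', h₁⟩ := key 1 one_ne_zero
  obtain ⟨j₀, i₀, hj₀, hj₀', hi₀, hi₀', h₀⟩ := key (-1) (by norm_num)
  have hjj : j₀ ≤ j₁ := by
    by_contra hc
    exact hj₀ (hj₁' j₀ (by linarith))
  have hii : i₀ ≤ i₁ := by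
    by_contra hc
    exact hi₀ (hi₁' i₀ (by linarith))
  have hjj' : j₀ = j₁ := by omega
  -- then `a` has a single component outside `q`, so `a_j ∈ p` homogeneous: contradiction
  have hall : ∀ b, b ≠ j₁ → pr 𝒜 b a ∈ q := by
    intro b hb
    rcases lt_or_gt_of_ne hb with h | h
    · exact hj₀' b (by linarith)
    · exact hj₁' b (by linarith)
  have hmem : pr 𝒜 j₁ a ∈ p := by
    have h2 : a - pr 𝒜 j₁ a ∈ q := by
      have h4 := hsa' (insert j₁ sa) (Finset.subset_insert _ _)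
      rw [← Finset.add_sum_erase _ _ (Finset.mem_insert_self j₁ sa)] at h4
      have : a - pr 𝒜 j₁ a = ∑ b ∈ (insert j₁ sa).erase j₁, pr 𝒜 b a :=
        sub_eq_of_eq_add' h4.symm
      rw [this]
      exact sum_mem fun b hb => hall b (Finset.ne_of_mem_erase hb)
    have h3 : pr 𝒜 j₁ a = a - (a - pr 𝒜 j₁ a) := by ring
    rw [h3]
    exact sub_mem hap (hqle h2)
  exact hj₁ (Ideal.mem_homogeneousCore_of_homogeneous_of_mem ⟨j₁, pr_mem 𝒜 j₁ a⟩ hmem)

/-- A *injective module is injective if no `p*`, `p` nongraded, is associated to it. -/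
theorem injective_of_core_notMem_ass [IsNoetherianRing R] (hM : GrLC.IsStarInj 𝒜 ℳ)
    (h : ∀ p : Ideal R, p.IsPrime → ¬ p.IsHomogeneous 𝒜 →
      (Ideal.homogeneousCore 𝒜 p).toIdeal ∉ associatedPrimes R M) : Module.Injective R M := by
  classical
  refine Bass.injective_of_forall_prime M fun p hp f => ?_
  haveI : SetLike.GradedSMul 𝒜 𝒜 := ⟨fun {i j r m} hr hm => SetLike.mul_mem_graded hr hm⟩
  by_cases hph : p.IsHomogeneous 𝒜
  · obtain ⟨g, hg⟩ := extend 𝒜 𝒜 hM (K := p) hph f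
    refine ⟨1, fun h => hp.ne_top ((Ideal.eq_top_iff_one p).2 h), g, fun x => ?_⟩
    rw [one_smul]
    exact LinearMap.congr_fun hg x
  · set q := (Ideal.homogeneousCore 𝒜 p).toIdeal with hq_def
    have hqh : q.IsHomogeneous 𝒜 := (Ideal.homogeneousCore 𝒜 p).2
    have hqle : q ≤ p := Ideal.toIdeal_homogeneousCore_le 𝒜 p
    haveI : q.IsPrime := hp.homogeneousCore
    obtain ⟨g, hg⟩ := extend 𝒜 𝒜 hM (K := q) hqh (f ∘ₗ Submodule.inclusion hqle)
    have hg' : ∀ r (hr : r ∈ q), g r = f ⟨r, hqle hr⟩ := fun r hr => LinearMap.congr_fun hg ⟨r, hr⟩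
    have hT : ∀ x : p, f x - g x ∈ homTors 𝒜 q M := by
      intro x
      refine mem_homTors_of_not_mem_ass 𝒜 ℳ hqh (h p hp hph) fun r hr => ?_
      rw [smul_sub, ← map_smul, ← map_smul, sub_eq_zero]
      have : r • (x : R) ∈ q := by
        rw [smul_eq_mul, mul_comm]
        exact q.mul_mem_left _ hr
      rw [hg' _ this]
      rfl
    obtain ⟨S, hS⟩ := IsNoetherian.noetherian p
    have hSp : ∀ x ∈ S, x ∈ p := fun x hx => hS ▸ Submodule.subset_span hx
    have hex : ∀ x : R, ∃ s : R, s ∉ p ∧ ∀ hx : x ∈ p, s • (f ⟨x, hx⟩ - g x) = 0 := by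
      intro x
      by_cases hx : x ∈ p
      · obtain ⟨i, s, hsi, hsq, hs⟩ := hT ⟨x, hx⟩
        refine ⟨s, fun h => hsq ?_, fun _ => hs⟩
        exact Ideal.mem_homogeneousCore_of_homogeneous_of_mem ⟨i, hsi⟩ h
      · exact ⟨1, fun h => hp.ne_top ((Ideal.eq_top_iff_one p).2 h), fun h => absurd h hx⟩
    choose s hsp hs using hex
    refine ⟨∏ x ∈ S, s x, fun h => ?_, (∏ x ∈ S, s x) • g, ?_⟩
    · obtain ⟨x, _, hx⟩ := (Ideal.IsPrime.prod_mem_iff).1 h
      exact hsp x hx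
    · have hker : p ≤ (LinearMap.ker ((∏ x ∈ S, s x) • (f - g ∘ₗ p.subtype))).map p.subtype := by
        conv_lhs => rw [← hS]
        rw [Submodule.span_le]
        intro x hx
        refine ⟨⟨x, hSp x hx⟩, ?_, rfl⟩
        rw [SetLike.mem_coe, LinearMap.mem_ker, LinearMap.smul_apply, LinearMap.sub_apply,
          LinearMap.comp_apply, ← Finset.prod_erase_mul _ _ hx, mul_smul]
        change _ • s x • (f ⟨x, hSp x hx⟩ - g x) = 0
        rw [hs, smul_zero]
      intro x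
      obtain ⟨y, hy, hyx⟩ := hker x.2
      have : y = x := Subtype.ext hyx
      subst this
      rw [SetLike.mem_coe, LinearMap.mem_ker, LinearMap.smul_apply, LinearMap.sub_apply,
          LinearMap.comp_apply, smul_sub, sub_eq_zero] at hy
      rw [LinearMap.smul_apply, hy]
      rfl

end Int

end K761.Baer
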