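import Groth.Agent.GrLC.K761.ExtVan
import Groth.Agent.GrLC.K761.Laurent

/-! # A *injective module over a `ℤ`-graded Noetherian ring has injective dimension `≤ 1` (seat 761) -/

set_option autoImplicit false
set_option linter.unusedSectionVars false
set_option linter.style.haveILetI false
universe u

open DirectSum K761.Gr CategoryTheory Abelian
open Groth.Agent.Localalg.InjDim

namespace K761.Baer

variable {R : Type u} [CommRing R] {σ : Type u} [SetLike σ R] [AddSubgroupClass σ R] (𝒜 : ℤ → σ) [GradedRing 𝒜]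
  {E : Type u} [AddCommGroup E] [Module R E] {τ' : Type u} [SetLike τ' E] [AddSubgroupClass τ' E]
  {ℰ : ℤ → τ'} [Decomposition ℰ] [SetLike.GradedSMul 𝒜 ℰ]

theorem ext_algebra_subsingleton_of_two_le [IsNoetherianRing R] (hE : GrLC.IsStarInj 𝒜 ℰ)
    (B : Type u) [CommRing B] [Algebra R B] (i : ℕ) (hi : 2 ≤ i) :
    Subsingleton (Ext.{u} (ModuleCat.of R B) (ModuleCat.of R E) i) := by
  obtain ⟨i, rfl⟩ : ∃ j, i = j + 2 := ⟨i - 2, by omega⟩
  letI := Laurent.dec 𝒜 B
  letI := Laurent.gsmul 𝒜 B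
  have hS : (ModuleCat.shortComplexOfCompEqZero (Laurent.mulBy 𝒜 B (Laurent.tm1 𝒜 B)) (Laurent.aug 𝒜 B)
      (Laurent.exact_aug 𝒜 B).linearMap_comp_eq_zero).ShortExact :=
    ModuleCat.shortComplex_shortExact _ (Laurent.exact_aug 𝒜 B) (Laurent.mulBy_tm1_injective 𝒜 B)
      (Laurent.aug_surjective 𝒜 B)
  refine subsingleton_ext_X₃ hS (ModuleCat.of R E) (i + 1) ?_ ?_
  · exact ext_subsingleton 𝒜 hE (Laurent.gr 𝒜 B) (i + 1) (by omega)
  · exact ext_subsingleton 𝒜 hE (Laurent.gr 𝒜 B) (i + 2) (by omega)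

theorem hasInjectiveDimensionLT_two [IsNoetherianRing R] (hE : GrLC.IsStarInj 𝒜 ℰ) :
    HasInjectiveDimensionLT (ModuleCat.of R E) 2 := by
  rw [hasInjectiveDimensionLT_iff_prime]
  intro p
  exact ext_algebra_subsingleton_of_two_le 𝒜 hE (R ⧸ p.asIdeal) 2 le_rfl

end K761.Baer
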