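import Groth.Agent.GrLC.K761.Art
import Groth.Agent.GrLC.K761.StarLoc
import Groth.Agent.GrLC.K759.AcycInj
import Groth.Agent.GrLC.K759.Hgr
import Groth.Agent.Localalg.LCRows
import Groth.Agent.Localalg.LCIface
import Groth.Agent.Localalg.NonVan

/-! # Local cohomology with support in a maximal ideal is Artinian (seat 761) -/

set_option autoImplicit false
set_option linter.unusedSectionVars false
set_option linter.style.haveILetI false
universe u

open DirectSum K761.Gr

namespace K761.LCArt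

/-- `H^i_m(M)` is Artinian for `m` a maximal ideal of a Noetherian ring, `M` finite. -/
theorem isArtinian_H {R : Type u} [CommRing R] [IsNoetherianRing R] (m : Ideal R) [m.IsMaximal]
    (M : Type u) [AddCommGroup M] [Module R M] [Module.Finite R M] (i : ℕ) :
    IsArtinian R (LocCoh.H m i M) := by
  refine Art.isArtinian_of_localized (m := m) _
    (fun x => Groth.Agent.Localalg.LCIface.isPowerTorsion_H m M i x) ?_
  obtain ⟨e⟩ := Groth.Agent.Localalg.LCRows.nonempty_localizationEquiv m m.primeCompl i M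
  haveI : IsNoetherianRing (Localization.AtPrime m) :=
    IsLocalization.isNoetherianRing m.primeCompl _ inferInstance
  have h1 : m.map (algebraMap R (Localization.AtPrime m)) =
      IsLocalRing.maximalIdeal (Localization.AtPrime m) := Localization.AtPrime.map_eq_maximalIdeal
  have h2 : IsArtinian (Localization.AtPrime m)
      (LocCoh.H (IsLocalRing.maximalIdeal (Localization.AtPrime m)) i (LocalizedModule m.primeCompl M)) :=
    Groth.Agent.Localalg.NonVan.isArtinian_H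
      (Groth.Agent.Localalg.LCIface.iface (IsLocalRing.maximalIdeal (Localization.AtPrime m))) i _
  rw [← h1] at h2
  exact isArtinian_of_linearEquiv e.symm

section Graded

variable {R : Type u} [CommRing R] [IsNoetherianRing R] {σ : Type u} [SetLike σ R] [AddSubgroupClass σ R]
  {𝒜 : ℤ → σ} [GradedRing 𝒜] {M : Type u} [AddCommGroup M] [Module R M] [Module.Finite R M]
  {τ : Type u} [SetLike τ M] [AddSubgroupClass τ M] {ℳ : ℤ → τ} [Decomposition ℳ]
  [SetLike.GradedSMul 𝒜 ℳ]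

theorem isArtinian_grH (hpos : ∀ n : ℤ, n < 0 → ∀ x ∈ 𝒜 n, x = 0) {m : HomogeneousIdeal 𝒜}
    (hm : GrLC.IsStarLocal 𝒜 m) (E : GrLC.StarInjRes 𝒜 ℳ) (i : ℕ) : IsArtinian R (E.H m i) := by
  haveI := StarLoc.isMaximal hpos hm
  haveI := isArtinian_H m.toIdeal M i
  obtain ⟨e⟩ := K759.AcycInj.nonempty_equiv E m i
  exact isArtinian_of_linearEquiv e.symm

theorem exists_Hcomp_eq_bot (hpos : ∀ n : ℤ, n < 0 → ∀ x ∈ 𝒜 n, x = 0) {m : HomogeneousIdeal 𝒜}
    (hm : GrLC.IsStarLocal 𝒜 m) (E : GrLC.StarInjRes 𝒜 ℳ) (i : ℕ) :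
    ∃ N : ℤ, ∀ n : ℤ, N ≤ n → E.Hcomp m i n = ⊥ := by
  haveI := isArtinian_grH hpos hm E i
  letI := K759.Hgr.Hdec E m i
  obtain ⟨N, hN⟩ := Art.exists_bound 𝒜 (E.Hgr m i) hpos
  refine ⟨N, fun n hn => ?_⟩
  rw [eq_bot_iff]
  intro x hx
  exact hN n hn x hx

theorem isArtinian_Hcomp (hpos : ∀ n : ℤ, n < 0 → ∀ x ∈ 𝒜 n, x = 0) {m : HomogeneousIdeal 𝒜}
    (hm : GrLC.IsStarLocal 𝒜 m) (E : GrLC.StarInjRes 𝒜 ℳ) (i : ℕ) (n : ℤ) :
    IsArtinian (GrLC.deg0 𝒜) (E.Hcomp m i n) := by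
  haveI := isArtinian_grH hpos hm E i
  letI := K759.Hgr.Hdec E m i
  exact Art.isArtinian_piece 𝒜 (E.Hgr m i) (n := n) (E.Hcomp m i n) fun x hx => hx

end Graded

end K761.LCArt
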