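import Groth.Agent.GrLC.K761.FieldPoly
import Groth.Agent.GrRing.K823.Avoid
import Groth.Agent.Localalg.LCBasic
import Mathlib.RingTheory.Regular.RegularSequence
import Mathlib.RingTheory.Ideal.AssociatedPrime.Finiteness
import Mathlib.RingTheory.Regular.IsSMulRegular

/-! # Linear regular sequences (seat 761) -/

set_option autoImplicit false
set_option linter.unusedSectionVars false
set_option linter.style.haveILetI false

universe u

open DirectSum K761.Gr GrLC K963.Iface K761.Len Groth.Agent.Localalg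

namespace K761.LinReg

variable {R : Type u} [CommRing R] [IsNoetherianRing R] {𝒜 : ℤ → AddSubgroup R} [GradedRing 𝒜]
  (hpos : ∀ n : ℤ, n < 0 → 𝒜 n = ⊥)
  (hstd : Ideal.span (⋃ n ∈ Set.Ioi (0 : ℤ), (𝒜 n : Set R)) = Ideal.span ((𝒜 1 : AddSubgroup R) : Set R))
  {m : HomogeneousIdeal 𝒜} (hm : GrLC.IsStarLocal 𝒜 m)

omit [IsNoetherianRing R] in
include hpos in
lemma zero_of_neg : ∀ n : ℤ, n < 0 → ∀ x ∈ 𝒜 n, x = 0 := fun n hn x hx => by
  rw [hpos n hn] at hx
  exact hx

include hpos hm in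
lemma isUnit_of_notMem (a : GrLC.deg0 𝒜) (ha : (a : R) ∉ m.toIdeal) : IsUnit a := by
  haveI : SetLike.GradedSMul 𝒜 𝒜 := ⟨fun {i j r m} hr hm => SetLike.mul_mem_graded hr hm⟩
  have h1 : Ideal.span {(a : R)} = ⊤ := by
    by_contra hne
    exact ha (StarLoc.le_of_isHomogeneous hm (StarLoc.span_isHomogeneous 𝒜 {(a : R)} (by
      rintro _ rfl; exact ⟨0, a.2⟩)) hne (Ideal.mem_span_singleton_self _))
  have h2 : (1 : R) ∈ Ideal.span {(a : R)} := h1 ▸ trivial
  obtain ⟨b, hb⟩ := Ideal.mem_span_singleton'.1 h2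
  have h3 : pr 𝒜 0 b * (a : R) = 1 := by
    have h4 := pr_smul_right 𝒜 𝒜 b (show (a : R) ∈ 𝒜 0 from a.2) 0
    rw [add_zero, smul_eq_mul, smul_eq_mul, hb, pr_of_mem (SetLike.one_mem_graded 𝒜)] at h4
    exact h4.symm
  exact IsUnit.of_mul_eq_one (⟨pr 𝒜 0 b, pr_mem 𝒜 0 b⟩ : GrLC.deg0 𝒜) (Subtype.ext (by
    change (a : R) * pr 𝒜 0 b = 1
    rw [mul_comm]; exact h3))

include hpos hm in
lemma isLocalRing : IsLocalRing (GrLC.deg0 𝒜) := by
  haveI : Nontrivial (GrLC.deg0 𝒜) := ⟨⟨0, 1, fun h => by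
    have h1 : (0 : R) = 1 := congrArg Subtype.val h
    exact StarLoc.one_notMem_of_isStarLocal hm (h1 ▸ zero_mem _)⟩⟩
  refine IsLocalRing.of_nonunits_add fun a b ha hb => ?_
  have key : ∀ c : GrLC.deg0 𝒜, c ∈ nonunits (GrLC.deg0 𝒜) ↔ (c : R) ∈ m.toIdeal := by
    intro c
    constructor
    · intro hc
      by_contra h
      exact hc (isUnit_of_notMem hpos hm c h)
    · intro hc hu
      obtain ⟨b, hb⟩ := hu.exists_right_inv
      have : (c : R) * b = 1 := congrArg Subtype.val hb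
      exact StarLoc.one_notMem_of_isStarLocal hm (this ▸ Ideal.mul_mem_right _ _ hc)
  rw [key] at *
  exact add_mem ha hb

include hpos hm in
lemma mem_maximalIdeal_iff [IsLocalRing (GrLC.deg0 𝒜)] (c : GrLC.deg0 𝒜) :
    c ∈ IsLocalRing.maximalIdeal (GrLC.deg0 𝒜) ↔ (c : R) ∈ m.toIdeal := by
  rw [IsLocalRing.mem_maximalIdeal]
  constructor
  · intro hc
    by_contra h
    exact hc (isUnit_of_notMem hpos hm c h)
  · intro hc hu
    obtain ⟨b, hb⟩ := hu.exists_right_inv
    have : (c : R) * b = 1 := congrArg Subtype.val hb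
    exact StarLoc.one_notMem_of_isStarLocal hm (this ▸ Ideal.mul_mem_right _ _ hc)

include hpos hm in
/-- every element is congruent to its degree zero component modulo `m` -/
lemma sub_pr_zero_mem (x : R) : x - pr 𝒜 0 x ∈ m.toIdeal := by
  classical
  obtain ⟨s, hs, hs'⟩ := exists_sum_pr 𝒜 x
  have h4 := hs' (insert 0 s) (Finset.subset_insert _ _)
  rw [← Finset.add_sum_erase _ _ (Finset.mem_insert_self 0 s)] at h4
  rw [sub_eq_of_eq_add' h4.symm]
  refine sum_mem fun i hi => ?_
  rcases lt_or_gt_of_ne (Finset.ne_of_mem_erase hi) with h | h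
  · rw [zero_of_neg hpos i h _ (pr_mem 𝒜 i x)]; exact zero_mem _
  · exact StarLoc.mem_of_pos (zero_of_neg hpos) hm h (pr_mem 𝒜 i x)

include hpos hm in
lemma infinite_residueField [IsLocalRing (GrLC.deg0 𝒜)] (hinf : Infinite (R ⧸ m.toIdeal)) :
    Infinite (IsLocalRing.ResidueField (GrLC.deg0 𝒜)) := by
  let f : IsLocalRing.ResidueField (GrLC.deg0 𝒜) →+* R ⧸ m.toIdeal :=
    Ideal.Quotient.lift (IsLocalRing.maximalIdeal (GrLC.deg0 𝒜))
      ((Ideal.Quotient.mk m.toIdeal).comp (GrLC.deg0 𝒜).subtype) fun a ha => by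
        change Ideal.Quotient.mk m.toIdeal (a : R) = 0
        rw [Ideal.Quotient.eq_zero_iff_mem]
        exact (mem_maximalIdeal_iff hpos hm a).1 ha
  refine Infinite.of_surjective f ?_
  intro x
  obtain ⟨x, rfl⟩ := Ideal.Quotient.mk_surjective x
  refine ⟨Ideal.Quotient.mk _ ⟨pr 𝒜 0 x, pr_mem 𝒜 0 x⟩, ?_⟩
  change Ideal.Quotient.mk m.toIdeal (pr 𝒜 0 x) = Ideal.Quotient.mk m.toIdeal x
  rw [eq_comm, Ideal.Quotient.mk_eq_mk_iff_sub_mem]
  exact sub_pr_zero_mem hpos hm x

variable [IsArtinianRing (GrLC.deg0 𝒜)]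

include hpos hstd hm in
/-- the only prime containing `R₁` is `m` -/
lemma eq_of_forall_mem (P : Ideal R) [hP : P.IsPrime] (h1 : ∀ x ∈ 𝒜 1, x ∈ P) : P = m.toIdeal := by
  haveI hmax := StarLoc.isMaximal (zero_of_neg hpos) hm
  haveI hloc := isLocalRing hpos hm
  have h2 : ∀ n : ℤ, 0 < n → ∀ y ∈ 𝒜 n, y ∈ P := by
    intro n hn y hy
    have h2 : y ∈ Ideal.span (⋃ n ∈ Set.Ioi (0 : ℤ), (𝒜 n : Set R)) := by
      refine Ideal.subset_span ?_
      simp only [Set.mem_iUnion]
      exact ⟨n, hn, hy⟩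
    rw [hstd] at h2
    exact (Ideal.span_le.2 fun z hz => h1 z hz) h2
  haveI hq0 : (P.comap (GrLC.deg0 𝒜).subtype).IsPrime := Ideal.comap_isPrime _ _
  haveI hq1 : (P.comap (GrLC.deg0 𝒜).subtype).IsMaximal := IsArtinianRing.isMaximal_of_isPrime _
  have h3 := IsLocalRing.eq_maximalIdeal hq1
  refine (hmax.eq_of_le hP.ne_top fun x hx => ?_).symm
  obtain ⟨s, -, hs'⟩ := exists_sum_pr 𝒜 x
  rw [← hs' s le_rfl]
  refine sum_mem fun i _ => ?_
  have hxi : pr 𝒜 i x ∈ m.toIdeal := m.isHomogeneous i hx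
  rcases lt_trichotomy i 0 with h | h | h
  · rw [zero_of_neg hpos i h _ (pr_mem 𝒜 i x)]; exact zero_mem _
  · subst h
    have h4 : (⟨pr 𝒜 0 x, pr_mem 𝒜 0 x⟩ : GrLC.deg0 𝒜) ∈ IsLocalRing.maximalIdeal (GrLC.deg0 𝒜) :=
      (mem_maximalIdeal_iff hpos hm _).2 hxi
    rw [← h3] at h4
    exact h4
  · exact h2 i h _ (pr_mem 𝒜 i x)

include hpos hstd hm in
/-- a linear form regular on a finite module of positive depth -/
lemma exists_regular (hinf : Infinite (R ⧸ m.toIdeal)) (N : Type u) [AddCommGroup N] [Module R N]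
    [Module.Finite R N] (hN : Subsingleton (LocCoh.H m.toIdeal 0 N)) :
    ∃ x ∈ 𝒜 1, IsSMulRegular N x := by
  classical
  haveI hloc := isLocalRing hpos hm
  haveI := infinite_residueField hpos hm hinf
  haveI : IsNoetherian (GrLC.deg0 𝒜) (comp 𝒜 𝒜 1) := Art.isNoetherian_piece 𝒜 𝒜 (comp 𝒜 𝒜 1) fun x hx => hx
  haveI : Module.Finite (GrLC.deg0 𝒜) (comp 𝒜 𝒜 1) := Module.IsNoetherian.finite _ _
  have hfin := associatedPrimes.finite R N
  haveI := hfin.fintype
  let e := Fintype.equivFin (associatedPrimes R N)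
  let V : Fin (Fintype.card (associatedPrimes R N)) → Submodule (GrLC.deg0 𝒜) (comp 𝒜 𝒜 1) := fun i =>
    { carrier := {y | (y : R) ∈ ((e.symm i : associatedPrimes R N) : Ideal R)}
      add_mem' := fun {a b} ha hb => Ideal.add_mem _ ha hb
      zero_mem' := Ideal.zero_mem _
      smul_mem' := fun c y hy => Ideal.mul_mem_left _ (c : R) hy }
  obtain ⟨x, hx⟩ := K823.Avoid.exists_forall_notMem V fun i hi => by
    have hP : ((e.symm i : associatedPrimes R N) : Ideal R) ∈ associatedPrimes R N := (e.symm i).2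
    haveI hPprime : ((e.symm i : associatedPrimes R N) : Ideal R).IsPrime := hP.isPrime
    have h1 : ((e.symm i : associatedPrimes R N) : Ideal R) = m.toIdeal :=
      eq_of_forall_mem hpos hstd hm _ fun y hy => by
        have : (⟨y, hy⟩ : comp 𝒜 𝒜 1) ∈ V i := hi ▸ trivial
        exact this
    rw [h1] at hP
    obtain ⟨hmp, z, hz⟩ := isAssociatedPrime_iff.1 hP
    have hz0 : z = 0 := by
      have h2 : z ∈ LCBasic.powTors m.toIdeal N := (LCBasic.mem_powTors m.toIdeal z).2 ⟨1, fun r hr => by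
        rw [pow_one, hz, Submodule.mem_colon_singleton, Submodule.mem_bot] at hr
        exact hr⟩
      have h3 : Subsingleton (LCBasic.powTors m.toIdeal N) :=
        (LCBasic.H0equiv m.toIdeal N).symm.toEquiv.subsingleton
      exact congrArg Subtype.val (Subsingleton.elim (⟨z, h2⟩ : LCBasic.powTors m.toIdeal N) 0)
    have h4 : (1 : R) ∈ m.toIdeal := by
      rw [hz, Submodule.mem_colon_singleton, hz0, smul_zero]
      exact zero_mem _
    exact StarLoc.one_notMem_of_isStarLocal hm h4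
  refine ⟨x, x.2, ?_⟩
  by_contra hreg
  have h5 : (x : R) ∈ ⋃ p ∈ associatedPrimes R N, (p : Set R) := by
    rw [biUnion_associatedPrimes_eq_compl_regular]
    exact hreg
  simp only [Set.mem_iUnion] at h5
  obtain ⟨P, hP, hxP⟩ := h5
  refine hx (e ⟨P, hP⟩) ?_
  change (x : R) ∈ ((e.symm (e ⟨P, hP⟩) : associatedPrimes R N) : Ideal R)
  rw [e.symm_apply_apply]
  exact hxP

open RingTheory.Sequence Pointwise in
include hpos hstd hm in
/-- linear weakly regular sequences of the expected length -/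
theorem exists_list (hinf : Infinite (R ⧸ m.toIdeal)) (e : ℕ) : ∀ (N : Type u) [AddCommGroup N] [Module R N]
    [Module.Finite R N], (∀ i, i < e → Subsingleton (LocCoh.H m.toIdeal i N)) →
    ∃ rs : List R, rs.length = e ∧ (∀ x ∈ rs, x ∈ 𝒜 1) ∧ IsWeaklyRegular N rs := by
  induction e with
  | zero => exact fun N _ _ _ _ => ⟨[], rfl, fun x hx => absurd hx List.not_mem_nil, IsWeaklyRegular.nil R N⟩
  | succ e ih =>
    intro N _ _ _ hN
    obtain ⟨x, hx1, hx⟩ := exists_regular hpos hstd hm hinf N (hN 0 (Nat.succ_pos e))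
    obtain ⟨rs, hlen, hrs, hreg⟩ := ih (QuotSMulTop x N) (fun i hi => by
      have h1 := LCBasic.exact₃ m.toIdeal (LinearMap.lsmul R N x) (Submodule.mkQ (x • (⊤ : Submodule R N)))
        hx (Submodule.mkQ_surjective _) (by
          rw [LinearMap.exact_iff, Submodule.ker_mkQ]
          ext y
          constructor
          · rintro ⟨z, -, rfl⟩
            exact ⟨z, rfl⟩
          · rintro ⟨z, rfl⟩
            exact ⟨z, trivial, rfl⟩) i
      have h2 := hN (i + 1) (by omega)
      have h3 := hN i (by omega)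
      refine subsingleton_of_forall_eq 0 fun y => ?_
      obtain ⟨z, rfl⟩ := (h1 y).1 (Subsingleton.elim _ _)
      rw [Subsingleton.elim z 0, map_zero])
    refine ⟨x :: rs, by rw [List.length_cons, hlen], ?_, (isWeaklyRegular_cons_iff N x rs).2 ⟨hx, hreg⟩⟩
    intro y hy
    rcases List.mem_cons.1 hy with rfl | h
    · exact hx1
    · exact hrs y h

omit [IsNoetherianRing R] [IsArtinianRing (GrLC.deg0 𝒜)] in
include hpos in
/-- elements of the ideal generated by elements of degree one have no component of degree `≤ 0` -/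
lemma pr_zero_of_mem_ofList (rs : List R) (h1 : ∀ x ∈ rs, x ∈ 𝒜 1) {y : R} (hy : y ∈ Ideal.ofList rs) :
    pr 𝒜 0 y = 0 := by
  haveI : SetLike.GradedSMul 𝒜 𝒜 := ⟨fun {i j r m} hr hm => SetLike.mul_mem_graded hr hm⟩
  have key : ∀ k : ℤ, k ≤ 0 → pr 𝒜 k y = 0 := by
    induction hy using Submodule.span_induction with
    | mem x hx => exact fun k hk => pr_of_mem_ne (h1 x hx) (by omega)
    | zero => exact fun k _ => map_zero _
    | add a b _ _ ha hb => intro k hk; rw [map_add, ha k hk, hb k hk, add_zero]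
    | smul a b _ hb =>
      intro k hk
      induction a using Gr.induction 𝒜 with
      | h0 => rw [zero_smul, map_zero]
      | hadd a c ha hc => rw [add_smul, map_add, ha, hc, add_zero]
      | hom i a ha =>
        rw [pr_smul' 𝒜 ha]
        by_cases hi : 0 ≤ i
        · rw [hb _ (by omega), smul_zero]
        · rw [zero_of_neg hpos i (by omega) a ha, zero_smul]
  exact key 0 le_rfl

open RingTheory.Sequence in
omit [IsNoetherianRing R] [IsArtinianRing (GrLC.deg0 𝒜)] in
include hpos in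
/-- linear forms in a weakly regular sequence are linearly independent over `R₀` -/
lemma eq_zero_of_sum (rs : List R) (h1 : ∀ x ∈ rs, x ∈ 𝒜 1) (hreg : IsWeaklyRegular R rs)
    (c : Fin rs.length → GrLC.deg0 𝒜) (h : ∑ i, (c i : R) * rs[i] = 0) : c = 0 := by
  classical
  by_contra hc
  obtain ⟨i₀, hi₀⟩ := Function.ne_iff.1 hc
  let T : Finset (Fin rs.length) := Finset.univ.filter fun i => c i ≠ 0
  have hT : T.Nonempty := ⟨i₀, Finset.mem_filter.2 ⟨Finset.mem_univ _, hi₀⟩⟩
  set j := T.max' hT with hj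
  have hjT : c j ≠ 0 := (Finset.mem_filter.1 (T.max'_mem hT)).2
  have hmem : (c j : R) * rs[j] ∈ Ideal.ofList (rs.take j) := by
    rw [← Finset.add_sum_erase _ _ (Finset.mem_univ j)] at h
    rw [eq_neg_of_add_eq_zero_left h]
    refine neg_mem (sum_mem fun i hi => ?_)
    rcases lt_trichotomy i j with hij | hij | hij
    · refine Ideal.mul_mem_left _ _ (Ideal.subset_span ?_)
      change rs[i] ∈ rs.take j
      exact List.mem_take_iff_getElem.2 ⟨i, by simp only [Fin.lt_def] at hij; omega, rfl⟩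
    · exact absurd hij (Finset.ne_of_mem_erase hi)
    · have : c i = 0 := by
        by_contra hne
        exact absurd (T.le_max' i (Finset.mem_filter.2 ⟨Finset.mem_univ _, hne⟩)) (not_le_of_gt hij)
      rw [this]
      change (0 : R) * _ ∈ _
      rw [zero_mul]
      exact zero_mem _
  have h2 := hreg.regular_mod_prev j j.2
  rw [isSMulRegular_iff_right_eq_zero_of_smul] at h2
  have h3 : (Submodule.Quotient.mk (c j : R) : R ⧸ (Ideal.ofList (rs.take j) • ⊤ : Submodule R R)) = 0 := by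
    apply h2
    have : (Ideal.ofList (rs.take j) • ⊤ : Submodule R R) = Ideal.ofList (rs.take j) := by
      rw [smul_eq_mul, Ideal.mul_top]
    rw [← Submodule.Quotient.mk_smul, Submodule.Quotient.mk_eq_zero, this]
    change rs[j] * (c j : R) ∈ _
    rw [mul_comm]
    exact hmem
  rw [Submodule.Quotient.mk_eq_zero, smul_eq_mul, Ideal.mul_top] at h3
  have h4 := pr_zero_of_mem_ofList hpos (rs.take j) (fun x hx => h1 x (List.mem_of_mem_take hx)) h3
  rw [pr_of_mem (c j).2] at h4
  exact hjT (Subtype.ext h4)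

/-- an injective map between modules of the same finite length is surjective -/
lemma surjective_of_length {A M N : Type*} [CommRing A] [AddCommGroup M] [Module A M] [AddCommGroup N]
    [Module A N] (f : M →ₗ[A] N) (hf : Function.Injective f) (h : Module.length A M = Module.length A N)
    (hN : Module.length A N ≠ ⊤) : Function.Surjective f := by
  have h1 := Module.length_eq_add_of_exact f (LinearMap.range f).mkQ hf (Submodule.mkQ_surjective _)
    (LinearMap.exact_map_mkQ_range f)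
  rw [h] at h1
  have h3 : Module.length A (N ⧸ LinearMap.range f) = 0 := by
    have h4 : Module.length A N + 0 = Module.length A N + Module.length A (N ⧸ LinearMap.range f) := by
      rw [add_zero]; exact h1
    exact (ENat.add_right_injective_of_ne_top hN h4).symm
  rw [Module.length_eq_zero_iff, Submodule.Quotient.subsingleton_iff] at h3
  exact LinearMap.range_eq_top.1 h3

open RingTheory.Sequence in
include hpos in
/-- a weakly regular sequence of linear forms of the right length spans `R₁` -/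
theorem span_of_regular (rs : List R) (h1 : ∀ x ∈ rs, x ∈ 𝒜 1) (hreg : IsWeaklyRegular R rs)
    (hlen : Module.length (GrLC.deg0 𝒜) (comp 𝒜 𝒜 1) =
      (rs.length : ℕ∞) * Module.length (GrLC.deg0 𝒜) (GrLC.deg0 𝒜)) :
    ∀ y ∈ 𝒜 1, y ∈ Submodule.span (GrLC.deg0 𝒜) (Set.range fun i : Fin rs.length => rs[i]) := by
  let φ : (Fin rs.length → GrLC.deg0 𝒜) →ₗ[GrLC.deg0 𝒜] comp 𝒜 𝒜 1 :=
    Fintype.linearCombination (GrLC.deg0 𝒜) (fun i : Fin rs.length => (⟨rs[i], h1 _ (List.getElem_mem _)⟩ : comp 𝒜 𝒜 1))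
  have hφ : ∀ c, (φ c : R) = ∑ i, (c i : R) * rs[i] := by
    intro c
    rw [Fintype.linearCombination_apply, AddSubmonoidClass.coe_finsetSum]
    rfl
  have hinj : Function.Injective φ := by
    rw [← LinearMap.ker_eq_bot, LinearMap.ker_eq_bot']
    intro c hc
    exact eq_zero_of_sum hpos rs h1 hreg c (by rw [← hφ, hc]; rfl)
  have hsurj := surjective_of_length φ hinj (by
    rw [hlen, Module.length_pi_of_fintype, Finset.sum_const, Finset.card_univ, Fintype.card_fin, nsmul_eq_mul])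
    (Module.length_ne_top_iff.2 (HilbStd.fl_comp 𝒜 𝒜 1))
  intro y hy
  obtain ⟨c, hc⟩ := hsurj ⟨y, hy⟩
  rw [Submodule.mem_span_range_iff_exists_fun]
  refine ⟨c, ?_⟩
  have := hφ c
  rw [hc] at this
  exact this.symm

section CM

omit [IsNoetherianRing R]
variable [LocCoh.IsCohenMacaulayRing R] {d : ℕ} (hd : ringKrullDim R = d) (I : StarInjRes 𝒜 𝒜)

include hpos hstd hm hd in
theorem exists_algEquiv (hinf : Infinite (R ⧸ m.toIdeal))
    (ha : GrLC.endDeg (I.Hgr m d) = (((-(d : ℤ) : ℤ) : WithTop ℤ) : WithBot (WithTop ℤ))) :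
    ∃ e : MvPolynomial (Fin d) (GrLC.deg0 𝒜) ≃ₐ[GrLC.deg0 𝒜] R, ∀ t : Fin d, e (MvPolynomial.X t) ∈ 𝒜 1 := by
  haveI hmax := StarLoc.isMaximal (zero_of_neg hpos) hm
  have hht : m.toIdeal.height = d := by
    have h := CoreHt.ringKrullDim_eq_height 𝒜 (zero_of_neg hpos) hm
    rw [hd] at h
    exact (WithBot.coe_injective h).symm
  have hlen : ∀ n : ℕ, Module.length (GrLC.deg0 𝒜) (comp 𝒜 𝒜 (n : ℤ)) =
      (Nat.multichoose d n : ℕ∞) * Module.length (GrLC.deg0 𝒜) (GrLC.deg0 𝒜) := fun n =>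
    (FieldPoly.length_eq_iff d n).2 (AInv.len_comp_eq hpos hstd hm hd I ha n)
  obtain ⟨rs, hrs, hrs1, hreg⟩ := exists_list hpos hstd hm hinf d R
    (fun i hi => CMVan.subsingleton_H_of_lt_height m.toIdeal hht hi)
  subst hrs
  have hgen := span_of_regular hpos rs hrs1 hreg (by
    have := hlen 1
    rw [Nat.multichoose_one_right] at this
    exact this)
  obtain ⟨e, he⟩ := PolyAlg.exists_algEquiv (fun i => hrs1 _ (List.getElem_mem _)) hpos hstd hgen
    FieldPoly.length_zero_ne_top hlen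
  exact ⟨e, fun t => by rw [he]; exact hrs1 _ (List.getElem_mem _)⟩

end CM

end K761.LinReg
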