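import Groth.Agent.GrLC.K761.AInv
import Mathlib.RingTheory.RegularLocalRing.Polynomial
import Mathlib.RingTheory.KrullDimension.Polynomial

/-! # Standard graded regular rings over a field are polynomial rings (seat 761) -/

set_option autoImplicit false
set_option linter.unusedSectionVars false
set_option linter.style.haveILetI false

universe u

open DirectSum K761.Gr GrLC K963.Iface K761.Len

namespace K761.RegGen

lemma exists_fin_generators {A : Type*} [CommRing A] [IsRegularLocalRing A] {r : ℕ}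
    (hr : ringKrullDim A = r) : ∃ f : Fin r → A, Ideal.span (Set.range f) = IsLocalRing.maximalIdeal A := by
  classical
  obtain ⟨s, hs, hspan⟩ := Submodule.FG.exists_span_finset_card_eq_spanFinrank
    ((isNoetherianRing_iff_ideal_fg A).1 inferInstance (IsLocalRing.maximalIdeal A))
  have h1 := IsRegularLocalRing.spanFinrank_maximalIdeal (R := A)
  rw [hr, ← hs] at h1
  have h2 : s.card = r := by exact_mod_cast h1
  subst h2
  refine ⟨fun i => (s.equivFin.symm i : A), ?_⟩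
  rw [← hspan]
  congr 1
  ext x
  constructor
  · rintro ⟨i, rfl⟩
    exact (s.equivFin.symm i).2
  · intro hx
    exact ⟨s.equivFin ⟨x, hx⟩, by simp⟩

/-- generators of the maximal ideal of a localization coming from the ring -/
lemma exists_fin_generators' {R : Type*} [CommRing R] (m : Ideal R) [hm : m.IsPrime]
    [IsRegularLocalRing (Localization.AtPrime m)] {r : ℕ} (hr : m.height = r) :
    ∃ y : Fin r → R, (∀ i, y i ∈ m) ∧ ∀ z ∈ m, ∃ s, s ∉ m ∧ s * z ∈ Ideal.span (Set.range y) := by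
  have hd : ringKrullDim (Localization.AtPrime m) = r := by
    rw [IsLocalization.AtPrime.ringKrullDim_eq_height m, hr]
    rfl
  obtain ⟨f, hf⟩ := exists_fin_generators hd
  have h1 : ∀ i, ∃ (a : R) (s : m.primeCompl), IsLocalization.mk' (Localization.AtPrime m) a s = f i :=
    fun i => by
      obtain ⟨a, s, h⟩ := IsLocalization.exists_mk'_eq m.primeCompl (f i)
      exact ⟨a, s, h⟩
  choose y s hys using h1
  have hfy : ∀ i, f i * algebraMap R (Localization.AtPrime m) (s i) = algebraMap R _ (y i) := fun i => by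
    rw [← hys, IsLocalization.mk'_spec]
  have hle : IsLocalRing.maximalIdeal (Localization.AtPrime m) ≤
      (Ideal.span (Set.range y)).map (algebraMap R (Localization.AtPrime m)) := by
    rw [← hf, Ideal.span_le]
    rintro _ ⟨i, rfl⟩
    rw [← hys, SetLike.mem_coe, IsLocalization.mk'_mem_map_algebraMap_iff]
    exact ⟨1, one_mem _, by rw [one_mul]; exact Ideal.subset_span ⟨i, rfl⟩⟩
  refine ⟨y, fun i => ?_, fun z hz => ?_⟩
  · rw [← IsLocalization.AtPrime.to_map_mem_maximal_iff (Localization.AtPrime m) m, ← hfy]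
    refine Ideal.mul_mem_right _ _ ?_
    rw [← hf]
    exact Ideal.subset_span ⟨i, rfl⟩
  · have h2 : algebraMap R (Localization.AtPrime m) z ∈ IsLocalRing.maximalIdeal (Localization.AtPrime m) :=
      (IsLocalization.AtPrime.to_map_mem_maximal_iff (Localization.AtPrime m) m z).2 hz
    obtain ⟨s, hs, hsz⟩ := (IsLocalization.algebraMap_mem_map_algebraMap_iff m.primeCompl
      (Localization.AtPrime m) _ z).1 (hle h2)
    exact ⟨s, hs, hsz⟩

section Graded

variable {R : Type u} [CommRing R] {𝒜 : ℤ → AddSubgroup R} [GradedRing 𝒜]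
  (hpos : ∀ n : ℤ, n < 0 → 𝒜 n = ⊥)

include hpos in
lemma zero_of_neg : ∀ n : ℤ, n < 0 → ∀ x ∈ 𝒜 n, x = 0 := fun n hn x hx => by
  rw [hpos n hn] at hx
  exact hx

include hpos in
lemma pr_one_mul (r : R) {y : R} (hy : ∀ k : ℤ, k ≤ 0 → pr 𝒜 k y = 0) :
    pr 𝒜 1 (r * y) = pr 𝒜 0 r * pr 𝒜 1 y := by
  haveI : SetLike.GradedSMul 𝒜 𝒜 := ⟨fun {i j r m} hr hm => SetLike.mul_mem_graded hr hm⟩
  induction r using Gr.induction 𝒜 with
  | h0 => rw [zero_mul, map_zero, map_zero, zero_mul]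
  | hadd a c ha hc => rw [add_mul, map_add, ha, hc, map_add, add_mul]
  | hom i a ha =>
    have h := pr_smul' 𝒜 ha y 1
    rw [smul_eq_mul, smul_eq_mul] at h
    rw [h]
    rcases lt_trichotomy i 0 with h | h | h
    · have : a = 0 := zero_of_neg hpos i h a ha
      rw [this, zero_mul, map_zero, zero_mul]
    · subst h
      rw [sub_zero, pr_of_mem ha]
    · rw [hy (1 - i) (by omega), mul_zero, pr_of_mem_ne ha h.ne', zero_mul]

variable (h0 : IsField (GrLC.deg0 𝒜)) {m : Ideal R}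
  (hm0 : ∀ z, z ∈ m ↔ pr 𝒜 0 z = 0)

include hpos h0 hm0 in
/-- A spanning family of `R₁` with `ht m` elements when `R_m` is regular. -/
theorem exists_span [m.IsPrime] [IsRegularLocalRing (Localization.AtPrime m)] {r : ℕ} (hr : m.height = r) :
    ∃ x : Fin r → R, (∀ i, x i ∈ 𝒜 1) ∧ ∀ y ∈ 𝒜 1, y ∈ Submodule.span (GrLC.deg0 𝒜) (Set.range x) := by
  obtain ⟨y, hy, hy'⟩ := exists_fin_generators' m hr
  have hyk : ∀ i (k : ℤ), k ≤ 0 → pr 𝒜 k (y i) = 0 := by
    intro i k hk
    rcases lt_or_eq_of_le hk with h | h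
    · exact zero_of_neg hpos k h _ (pr_mem 𝒜 k _)
    · rw [h]; exact (hm0 _).1 (hy i)
  refine ⟨fun i => pr 𝒜 1 (y i), fun i => pr_mem 𝒜 1 _, fun z hz => ?_⟩
  have hzm : z ∈ m := (hm0 z).2 (pr_of_mem_ne hz one_ne_zero)
  obtain ⟨s, hs, hsz⟩ := hy' z hzm
  obtain ⟨c, hc⟩ := (Submodule.mem_span_range_iff_exists_fun R).1 hsz
  have h1 : pr 𝒜 0 s * z = ∑ i, pr 𝒜 0 (c i) * pr 𝒜 1 (y i) := by
    have h2 : pr 𝒜 1 (s * z) = pr 𝒜 0 s * z := by
      rw [pr_one_mul hpos s (fun k hk => pr_of_mem_ne hz (by omega)), pr_of_mem hz]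
    rw [← h2, ← hc, map_sum]
    exact Finset.sum_congr rfl fun i _ => pr_one_mul hpos (c i) (hyk i)
  have hs0 : (⟨pr 𝒜 0 s, pr_mem 𝒜 0 s⟩ : GrLC.deg0 𝒜) ≠ 0 := by
    intro h
    exact hs ((hm0 s).2 (congrArg Subtype.val h))
  obtain ⟨b, hb⟩ := h0.mul_inv_cancel hs0
  have hb' : (b : R) * pr 𝒜 0 s = 1 := by
    rw [mul_comm]
    exact congrArg Subtype.val hb
  have h3 : z = b • (∑ i, (⟨pr 𝒜 0 (c i), pr_mem 𝒜 0 _⟩ : GrLC.deg0 𝒜) • pr 𝒜 1 (y i)) := by
    change z = (b : R) * (∑ i, pr 𝒜 0 (c i) * pr 𝒜 1 (y i))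
    rw [← h1, ← mul_assoc, hb', one_mul]
  rw [h3]
  exact Submodule.smul_mem _ _ (Submodule.sum_mem _ fun i _ => Submodule.smul_mem _ _
    (Submodule.subset_span ⟨i, rfl⟩))

end Graded

end K761.RegGen
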